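import Mathlib
import Cfsg.Prelude.Def_OddOrderLocal
import Cfsg.Agent.Lib.Perm.Basic
import Cfsg.Agent.Lib.Transfer.Frat
import Cfsg.Agent.Lib.Transfer.Frobenius
import Cfsg.Agent.Lib.Hall.CoprimeLemmas
import Cfsg.Agent.Lib.Core.Basic
import Cfsg.Agent.Lib.Techniques.Constrained

/-!
# Metacyclic Sylow subgroups and normal complements
-/

set_option autoImplicit false

namespace Cfsg.Agent.Lib.ClassSizes.Metacyclic

open Subgroup Cfsg

universe u

section Basic

/-- Subgroups of metacyclic groups are metacyclic. -/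
theorem isMetacyclic_subgroup {X : Type*} [Group X] (h : IsMetacyclic X) (H : Subgroup X) :
    IsMetacyclic H := by
  obtain ⟨N, hN, h1, h2⟩ := h
  refine ⟨N.subgroupOf H, inferInstance, ?_, ?_⟩
  · let f : (N.subgroupOf H) →* N :=
      { toFun := fun x => ⟨((x : H) : X), x.2⟩
        map_one' := rfl
        map_mul' := fun _ _ => rfl }
    refine isCyclic_of_injective f ?_
    intro a b hab
    have h3 : (f a : N) = f b := hab
    have h4 : ((f a : N) : X) = ((f b : N) : X) := congrArg Subtype.val h3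
    exact Subtype.ext (Subtype.ext h4)
  · let f : H →* X ⧸ N := (QuotientGroup.mk' N).comp H.subtype
    have hker : N.subgroupOf H ≤ f.ker := by
      intro x hx
      rw [MonoidHom.mem_ker]
      exact (QuotientGroup.eq_one_iff (x : X)).mpr hx
    refine isCyclic_of_injective (QuotientGroup.lift (N.subgroupOf H) f hker) ?_
    rw [injective_iff_map_eq_one]
    intro a ha
    obtain ⟨x, rfl⟩ := QuotientGroup.mk'_surjective (N.subgroupOf H) a
    have h3 : f x = 1 := ha
    exact (QuotientGroup.eq_one_iff x).mpr ((QuotientGroup.eq_one_iff (x : X)).mp h3)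

/-- Metacyclicity is preserved by isomorphisms. -/
theorem isMetacyclic_of_equiv {X Y : Type*} [Group X] [Group Y] (e : X ≃* Y) (h : IsMetacyclic X) :
    IsMetacyclic Y := by
  obtain ⟨N, hN, h1, h2⟩ := h
  haveI hN' : (N.map e.toMonoidHom).Normal := Subgroup.Normal.map hN _ e.surjective
  refine ⟨N.map e.toMonoidHom, hN', ?_, ?_⟩
  · exact isCyclic_of_surjective (((N.equivMapOfInjective e.toMonoidHom e.injective) : N ≃* _) : N →* _)
      (MulEquiv.surjective _)
  · let f : X ⧸ N →* Y ⧸ N.map e.toMonoidHom :=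
      QuotientGroup.map N (N.map e.toMonoidHom) e.toMonoidHom (Subgroup.le_comap_map _ _)
    refine isCyclic_of_surjective f ?_
    intro y
    obtain ⟨y', rfl⟩ := QuotientGroup.mk'_surjective _ y
    obtain ⟨x, rfl⟩ := e.surjective y'
    exact ⟨QuotientGroup.mk' N x, rfl⟩

variable {R : Type*} [Group R] [Finite R] {p : ℕ} [hp : Fact p.Prime]

/-- The Frattini quotient of a metacyclic `p`-group has at most `p²` elements. -/
theorem card_frattini_quotient_le (hR : IsPGroup p R) (h : IsMetacyclic R) :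
    Nat.card (R ⧸ frattini R) ≤ p ^ 2 := by
  classical
  obtain ⟨N, hN, h1, h2⟩ := h
  obtain ⟨⟨a, ha⟩⟩ : Nonempty {a : N // ∀ x, x ∈ Subgroup.zpowers a} := by
    obtain ⟨a, ha⟩ := h1.exists_generator
    exact ⟨⟨a, ha⟩⟩
  obtain ⟨⟨β, hβ⟩⟩ : Nonempty {β : R ⧸ N // ∀ x, x ∈ Subgroup.zpowers β} := by
    obtain ⟨a, ha⟩ := h2.exists_generator
    exact ⟨⟨a, ha⟩⟩
  obtain ⟨b, rfl⟩ := QuotientGroup.mk'_surjective N β
  let π := QuotientGroup.mk' (frattini R)
  let g : Fin p × Fin p → R ⧸ frattini R := fun ij => π b ^ (ij.1 : ℕ) * π a ^ (ij.2 : ℕ)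
  have hbp : π b ^ p = 1 := by
    rw [← map_pow]
    exact (QuotientGroup.eq_one_iff _).mpr (Cfsg.Agent.Lib.Transfer.pow_mem_frattini hR b)
  have hap : π a ^ p = 1 := by
    rw [← map_pow]
    exact (QuotientGroup.eq_one_iff _).mpr (Cfsg.Agent.Lib.Transfer.pow_mem_frattini hR (a : R))
  have hgs : Function.Surjective g := by
    intro v
    obtain ⟨x, rfl⟩ := QuotientGroup.mk'_surjective (frattini R) v
    obtain ⟨I, hI⟩ := hβ (QuotientGroup.mk' N x)
    have h3 : b⁻¹ ^ I * x ∈ N := by
      rw [← QuotientGroup.eq_one_iff]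
      change QuotientGroup.mk' N (b⁻¹ ^ I * x) = 1
      rw [map_mul, map_zpow, map_inv, ← hI]
      simp
    obtain ⟨J, hJ⟩ := ha ⟨_, h3⟩
    have hJ' : (a : R) ^ J = b⁻¹ ^ I * x := congrArg Subtype.val hJ
    have hx : x = b ^ I * (a : R) ^ J := by
      rw [hJ']
      simp
    have hpos : (0 : ℤ) < p := by exact_mod_cast hp.out.pos
    have hbz : π b ^ (p : ℤ) = 1 := by
      rw [zpow_natCast]; exact hbp
    have haz : π a ^ (p : ℤ) = 1 := by
      rw [zpow_natCast]; exact hap
    have e1 : π b ^ I = π b ^ (I % p) := zpow_eq_zpow_emod I hbz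
    have e2 : π a ^ J = π a ^ (J % p) := zpow_eq_zpow_emod J haz
    have hi0 := Int.emod_nonneg I hpos.ne'
    have hi1 := Int.emod_lt_of_pos I hpos
    have hj0 := Int.emod_nonneg J hpos.ne'
    have hj1 := Int.emod_lt_of_pos J hpos
    refine ⟨(⟨(I % p).toNat, by omega⟩, ⟨(J % p).toNat, by omega⟩), ?_⟩
    show π b ^ (I % p).toNat * π a ^ (J % p).toNat = QuotientGroup.mk' (frattini R) x
    have e3 : π b ^ (I % p).toNat = π b ^ (I % p) := by
      rw [← zpow_natCast, Int.toNat_of_nonneg hi0]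
    have e4 : π a ^ (J % p).toNat = π a ^ (J % p) := by
      rw [← zpow_natCast, Int.toNat_of_nonneg hj0]
    rw [e3, e4, ← e1, ← e2, hx, map_mul, map_zpow, map_zpow]
  have h3 := Nat.card_le_card_of_surjective g hgs
  simpa [sq] using h3

/-- An automorphism of `r`-power order of a `p`-group of order at most `p²`, with `r` not dividing
`p² - 1`, `r ≠ p`, is trivial. -/
theorem aut_trivial {V : Type*} [Group V] [Finite V] (hV : IsPGroup p V) (hc : Nat.card V ≤ p ^ 2)
    {r k : ℕ} [hr : Fact r.Prime] (F : MulAut V) (hF : F ^ r ^ k = 1) (hrp : r ≠ p)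
    (hrd : ¬ r ∣ p ^ 2 - 1) (v : V) : F v = v := by
  classical
  have hpp : p.Prime := hp.out
  -- the fixed subgroup
  let W : Subgroup V :=
    { carrier := {v | F v = v}
      mul_mem' := fun {a b} ha hb => by
        change F (a * b) = a * b
        rw [map_mul, ha, hb]
      one_mem' := map_one F
      inv_mem' := fun {a} ha => by
        change F a⁻¹ = a⁻¹
        rw [map_inv, ha] }
  have hA : IsPGroup r (Subgroup.zpowers F) := by
    have h1 : orderOf F ∣ r ^ k := orderOf_dvd_of_pow_eq_one hF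
    obtain ⟨i, _, hi⟩ := (Nat.dvd_prime_pow hr.out).1 h1
    exact IsPGroup.of_card (n := i) (by rw [Nat.card_zpowers, hi])
  have h1 := Cfsg.Agent.Lib.Perm.ncard_modEq_ncard_inter_fixedPoints (Γ := MulAut V) (α := V)
    (Subgroup.zpowers F) hA Set.univ (fun _ _ _ _ => Set.mem_univ _)
  have h2 : (Set.univ ∩ MulAction.fixedPoints (Subgroup.zpowers F) V) = (W : Set V) := by
    ext x
    simp only [Set.univ_inter, MulAction.mem_fixedPoints]
    constructor
    · intro h
      exact h ⟨F, Subgroup.mem_zpowers F⟩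
    · rintro h ⟨g, n, rfl⟩
      have h3 : F x = x := h
      have h4 : ∀ n : ℤ, (F ^ n) x = x := by
        intro n
        have : F ∈ MulAction.stabilizer (MulAut V) x := h3
        exact (MulAction.stabilizer (MulAut V) x).zpow_mem this n
      exact h4 n
  rw [h2, Set.ncard_univ, ← Nat.card_coe_set_eq] at h1
  replace h1 : Nat.card V ≡ Nat.card W [MOD r] := h1
  -- orders
  obtain ⟨t, ht⟩ := IsPGroup.iff_card.mp hV
  have hWd : Nat.card W ∣ Nat.card V := Subgroup.card_subgroup_dvd_card W
  rw [ht] at hWd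
  obtain ⟨s, hs, hsW⟩ := (Nat.dvd_prime_pow hpp).1 hWd
  have htle : t ≤ 2 := by
    rw [ht] at hc
    exact (Nat.pow_le_pow_iff_right hpp.one_lt).mp hc
  have hst : s = t := by
    by_contra hne
    have hlt : s < t := lt_of_le_of_ne hs hne
    rw [ht, hsW] at h1
    -- `r` divides `p^t - p^s`
    have h3 : r ∣ p ^ t - p ^ s := (Nat.modEq_iff_dvd' (Nat.pow_le_pow_right hpp.pos hs)).mp h1.symm
    have h4 : p ^ t - p ^ s = p ^ s * (p ^ (t - s) - 1) := by
      have : p ^ t = p ^ s * p ^ (t - s) := by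
        rw [← pow_add]
        congr 1
        omega
      rw [this, Nat.mul_sub, mul_one]
    rw [h4] at h3
    have h5 : r ∣ p ^ (t - s) - 1 := by
      refine (hr.out.coprime_iff_not_dvd.mpr ?_).dvd_of_dvd_mul_left h3
      intro h6
      have h7 := hr.out.dvd_of_dvd_pow h6
      exact hrp ((Nat.prime_dvd_prime_iff_eq hr.out hpp).mp h7)
    apply hrd
    have h8 : t - s = 1 ∨ t - s = 2 := by omega
    rcases h8 with h8 | h8
    · rw [h8, pow_one] at h5
      have h9 : p ^ 2 - 1 = (p - 1) * (p + 1) := by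
        have : 1 ≤ p := hpp.one_lt.le
        obtain ⟨c, rfl⟩ : ∃ c, p = c + 1 := ⟨p - 1, by omega⟩
        simp only [Nat.add_sub_cancel]
        ring_nf
        omega
      rw [h9]
      exact h5.trans (dvd_mul_right _ _)
    · rw [h8] at h5
      exact h5
  have hWtop : W = ⊤ := by
    apply Subgroup.eq_top_of_card_eq
    rw [hsW, ht, hst]
  have : v ∈ W := by rw [hWtop]; trivial
  exact this

end Basic

section Main

variable {G : Type u} [Group G] [Finite G] {p : ℕ} [hp : Fact p.Prime]

/-- An element lies in a subgroup if all the prime power order elements in its cyclic group do. -/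
theorem mem_of_forall_primePow {x : G} {K : Subgroup G}
    (h : ∀ r : ℕ, r.Prime → ∀ y ∈ Subgroup.zpowers x, (∃ k : ℕ, orderOf y = r ^ k) → y ∈ K) :
    x ∈ K := by
  classical
  let L : Subgroup G := Subgroup.zpowers x
  let K' : Subgroup L := K.subgroupOf L
  have hK' : K'.index = 1 := by
    by_contra hne
    obtain ⟨r, hr, hrd⟩ := Nat.exists_prime_and_dvd hne
    haveI : Fact r.Prime := ⟨hr⟩
    let P : Sylow r L := default
    have hPK : (P : Subgroup L) ≤ K' := by
      intro y hy
      have hy1 : y ∈ P := hy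
      obtain ⟨k, hk⟩ := IsPGroup.iff_orderOf.mp P.isPGroup' ⟨y, hy1⟩
      have hy2 : orderOf (y : G) = r ^ k := by
        have e1 : orderOf (⟨y, hy1⟩ : P) = orderOf y := Subgroup.orderOf_mk _ _
        exact (Subgroup.orderOf_coe y).trans (e1.symm.trans hk)
      exact h r hr y y.2 ⟨k, hy2⟩
    exact P.not_dvd_index (hrd.trans (Subgroup.index_dvd_of_le hPK))
  have hx : (⟨x, Subgroup.mem_zpowers x⟩ : L) ∈ K' := by
    rw [Subgroup.index_eq_one] at hK'
    rw [hK']
    trivial
  exact hx

/-- An `r`-element normalizing a metacyclic `p`-subgroup with `r ∤ p² - 1` acts trivially on the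
Frattini quotient. -/
theorem conj_mem_frattini {Q : Subgroup G} (hQ : IsPGroup p Q) (hm : IsMetacyclic Q) {a : G}
    (ha : a ∈ Subgroup.normalizer (Q : Set G)) {r k : ℕ} [hr : Fact r.Prime] (hak : a ^ r ^ k = 1)
    (hrp : r ≠ p) (hrd : ¬ r ∣ p ^ 2 - 1) {q : G} (hq : q ∈ Q) :
    a * q * a⁻¹ * q⁻¹ ∈ (frattini Q).map Q.subtype := by
  classical
  let f : Q ≃* Q := Cfsg.Agent.Lib.Hall.normalizerAut Q ha
  have hf : ∀ (n : ℕ) (x : Q), (((f ^ n : MulAut Q) x : Q) : G) = a ^ n * x * (a ^ n)⁻¹ := by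
    intro n
    induction n with
    | zero => intro x; simp
    | succ n ih =>
      intro x
      rw [pow_succ]
      show (((f ^ n : MulAut Q) (f x) : Q) : G) = _
      rw [ih]
      show a ^ n * (a * x * a⁻¹) * (a ^ n)⁻¹ = _
      group
  have hfr : (f ^ r ^ k : MulAut Q) = 1 := by
    ext x
    rw [hf, hak]
    simp
  have hmap : (frattini Q).map (f : Q →* Q) = frattini Q :=
    Subgroup.characteristic_iff_map_eq.mp inferInstance f
  let F : MulAut (Q ⧸ frattini Q) := QuotientGroup.congr (frattini Q) (frattini Q) f hmap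
  have hFmk : ∀ x : Q, F (QuotientGroup.mk' _ x) = QuotientGroup.mk' _ (f x) := fun x => rfl
  have hFn : ∀ (n : ℕ) (x : Q), (F ^ n : MulAut (Q ⧸ frattini Q)) (QuotientGroup.mk' _ x) =
      QuotientGroup.mk' _ ((f ^ n : MulAut Q) x) := by
    intro n
    induction n with
    | zero => intro x; rfl
    | succ n ih =>
      intro x
      rw [pow_succ, pow_succ]
      show (F ^ n : MulAut (Q ⧸ frattini Q)) (F (QuotientGroup.mk' _ x)) =
        QuotientGroup.mk' _ ((f ^ n : MulAut Q) (f x))
      rw [hFmk, ih]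
  have hFr : (F ^ r ^ k : MulAut (Q ⧸ frattini Q)) = 1 := by
    ext v
    obtain ⟨x, rfl⟩ := QuotientGroup.mk'_surjective (frattini Q) v
    rw [hFn, hfr]
    rfl
  have hV : IsPGroup p (Q ⧸ frattini Q) := hQ.to_quotient _
  have h1 := aut_trivial hV (card_frattini_quotient_le hQ hm) F hFr hrp hrd
    (QuotientGroup.mk' _ ⟨q, hq⟩)
  rw [hFmk] at h1
  have h2 : f ⟨q, hq⟩ * (⟨q, hq⟩ : Q)⁻¹ ∈ frattini Q := by
    rw [← QuotientGroup.eq_one_iff]
    change QuotientGroup.mk' _ (f ⟨q, hq⟩ * (⟨q, hq⟩ : Q)⁻¹) = 1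
    rw [map_mul, map_inv, h1, mul_inv_cancel]
  exact ⟨_, h2, rfl⟩

/-- The normal `p`-complement theorem for metacyclic Sylow subgroups. -/
theorem hasNormalPComplement_iff (S : Sylow p G) (hS : IsMetacyclic ↥(S : Subgroup G)) :
    HasNormalPComplement p G ↔
      Nat.Coprime (Nat.card (G ⧸ pPrimePCore p G)) (p ^ 2 - 1) := by
  classical
  have hpp : p.Prime := hp.out
  set N₀ : Subgroup G := pPrimeCore p G with hN₀
  set P₁ : Subgroup G := pPrimePCore p G with hP₁
  haveI hP₁n : P₁.Normal := Cfsg.Agent.Lib.Techniques.pPrimePCore_normal p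
  haveI hN₀n : N₀.Normal := pPrimeCore_normal p G
  let π := QuotientGroup.mk' N₀
  constructor
  · rintro ⟨P, N, hN, hc⟩
    have hNc : (Nat.card N).Coprime p := by
      rw [Nat.coprime_comm, hpp.coprime_iff_not_dvd]
      have h1 : (P : Subgroup G).index = Nat.card N := by
        exact hc.index_eq_card
      rw [← h1]
      exact P.not_dvd_index
    have hNN₀ : N ≤ N₀ := Cfsg.Agent.Lib.Core.le_pPrimeCore hN hNc
    have hq : IsPGroup p (G ⧸ N₀) := by
      intro v
      obtain ⟨x, rfl⟩ := QuotientGroup.mk'_surjective N₀ v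
      obtain ⟨⟨n, a⟩, hna⟩ := hc.2 x
      obtain ⟨k, hk⟩ := P.isPGroup' a
      refine ⟨k, ?_⟩
      have h1 : QuotientGroup.mk' N₀ (n : G) = 1 := (QuotientGroup.eq_one_iff _).mpr (hNN₀ n.2)
      have h2 : (a : G) ^ p ^ k = 1 := by simpa using congrArg Subtype.val hk
      have hna' : (n : G) * (a : G) = x := hna
      rw [← hna', map_mul, h1, one_mul, ← map_pow, h2, map_one]
    have htop : pPrimePCore p G = ⊤ := by
      rw [eq_top_iff]
      intro x _
      show QuotientGroup.mk' (pPrimeCore p G) x ∈ pCore p (G ⧸ pPrimeCore p G)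
      exact Cfsg.Agent.Lib.Core.le_pCore (inferInstance : (⊤ : Subgroup (G ⧸ N₀)).Normal)
        (hq.to_subgroup ⊤) (Subgroup.mem_top _)
    have htop' : P₁ = ⊤ := htop
    rw [htop']
    have : Nat.card (G ⧸ (⊤ : Subgroup G)) = 1 := Subgroup.index_top
    rw [this]
    exact Nat.coprime_one_left _
  · intro hcop
    have H : Cfsg.Agent.Lib.Transfer.FrobeniusHyp p (S : Subgroup G) := by
      intro Q hQS g hg hgc
      have hQp : IsPGroup p Q := S.isPGroup'.to_le hQS
      have hQm : IsMetacyclic Q := by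
        refine isMetacyclic_of_equiv (Subgroup.subgroupOfEquivOfLe hQS) ?_
        exact isMetacyclic_subgroup hS _
      apply mem_of_forall_primePow
      rintro r hr y hy ⟨k, hk⟩
      haveI : Fact r.Prime := ⟨hr⟩
      have hyN : y ∈ Subgroup.normalizer (Q : Set G) := (Subgroup.zpowers_le.mpr hg) hy
      have hyo : (orderOf y).Coprime p :=
        Nat.Coprime.coprime_dvd_left (orderOf_dvd_of_mem_zpowers hy) hgc
      have hyr : y ^ r ^ k = 1 := by rw [← hk]; exact pow_orderOf_eq_one y
      by_cases hk0 : k = 0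
      · subst hk0
        have : y = 1 := by
          simpa using hyr
        rw [this]
        exact one_mem _
      have hrp : r ≠ p := by
        rintro rfl
        rw [hk] at hyo
        have : r ∣ r ^ k := dvd_pow_self r hk0
        have h2 := Nat.Coprime.eq_one_of_dvd hyo.symm (this)
        exact hr.one_lt.ne' h2
      by_cases hrd : r ∣ p ^ 2 - 1
      · -- `y` lies in `O_{p'}(G)`
        have h1 : ¬ r ∣ Nat.card (G ⧸ P₁) := fun h =>
          hr.one_lt.ne' (Nat.eq_one_of_dvd_coprimes hcop h hrd)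
        have hyP : y ∈ P₁ := by
          rw [← QuotientGroup.eq_one_iff]
          have h2 : orderOf (QuotientGroup.mk' P₁ y) ∣ Nat.card (G ⧸ P₁) := orderOf_dvd_natCard _
          have h3 : orderOf (QuotientGroup.mk' P₁ y) ∣ r ^ k := by
            apply orderOf_dvd_of_pow_eq_one
            rw [← map_pow, hyr, map_one]
          have h4 : Nat.Coprime (r ^ k) (Nat.card (G ⧸ P₁)) :=
            (hr.coprime_iff_not_dvd.mpr h1).pow_left k
          have h5 := Nat.Coprime.eq_one_of_dvd (h4.coprime_dvd_left h3) h2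
          exact orderOf_eq_one_iff.mp h5
        have hyN₀ : y ∈ N₀ := by
          have hT : IsPGroup p (pCore p (G ⧸ N₀)) := Cfsg.Agent.Lib.Core.pCore_isPGroup p _
          obtain ⟨a, ha⟩ := (hT ⟨π y, hyP⟩)
          have ha' : (π y) ^ p ^ a = 1 := by simpa using congrArg Subtype.val ha
          rw [← QuotientGroup.eq_one_iff]
          have h3 : orderOf (π y) ∣ r ^ k := by
            apply orderOf_dvd_of_pow_eq_one
            rw [← map_pow, hyr, map_one]
          have h4 : orderOf (π y) ∣ p ^ a := orderOf_dvd_of_pow_eq_one ha'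
          have h5 : Nat.Coprime (r ^ k) (p ^ a) :=
            Nat.Coprime.pow k a ((Nat.coprime_primes hr hpp).mpr hrp)
          have h6 := Nat.Coprime.eq_one_of_dvd (h5.coprime_dvd_left h3) h4
          exact orderOf_eq_one_iff.mp h6
        rw [Subgroup.mem_centralizer_iff]
        intro q hq
        have hc1 : y * q * y⁻¹ * q⁻¹ ∈ Q :=
          Q.mul_mem ((Subgroup.mem_normalizer_iff.mp hyN q).mp hq) (Q.inv_mem hq)
        have hc2 : y * q * y⁻¹ * q⁻¹ ∈ N₀ := by
          have : y * q * y⁻¹ * q⁻¹ = y * (q * y⁻¹ * q⁻¹) := by group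
          rw [this]
          exact N₀.mul_mem hyN₀ (hN₀n.conj_mem _ (N₀.inv_mem hyN₀) q)
        have h7 := Cfsg.Agent.Lib.Techniques.eq_one_of_mem_isPGroup_of_mem_coprime hQp
          (Cfsg.Agent.Lib.Core.pPrimeCore_coprime (p := p) (G := G)) hc1 hc2
        have h8 : y * q = (y * q * y⁻¹ * q⁻¹) * (q * y) := by group
        rw [h8, h7, one_mul]
      · -- `y` acts trivially on the Frattini quotient
        have hzc : Subgroup.zpowers y ≤ Subgroup.centralizer (Q : Set G) := by
          apply Cfsg.Agent.Lib.Hall.le_centralizer_of_frattini (Subgroup.zpowers y) Q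
          · exact Subgroup.zpowers_le.mpr hyN
          · rw [Nat.card_zpowers, hk]
            obtain ⟨n, hn⟩ := IsPGroup.iff_card.mp (hQp.to_subgroup (frattini Q))
            rw [hn]
            exact Nat.Coprime.pow k n ((Nat.coprime_primes hr hpp).mpr hrp)
          · intro a ha q hq
            have haN : a ∈ Subgroup.normalizer (Q : Set G) := (Subgroup.zpowers_le.mpr hyN) ha
            have hak : a ^ r ^ k = 1 := by
              obtain ⟨n, rfl⟩ := ha
              show (y ^ n) ^ r ^ k = 1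
              rw [← zpow_natCast, ← zpow_mul, mul_comm, zpow_mul, zpow_natCast, hyr, one_zpow]
            exact conj_mem_frattini hQp hQm haN hak hrp hrd hq
        exact hzc (Subgroup.mem_zpowers y)
    obtain ⟨N, hN, hc⟩ := Cfsg.Agent.Lib.Transfer.frobenius S H
    exact ⟨S, N, hN, hc⟩

end Main

end Cfsg.Agent.Lib.ClassSizes.Metacyclic
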