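import Mathlib
import Cfsg.Agent.Lib.Core.Frattini
import Cfsg.Agent.Lib.Transfer.Frat

/-!
# Automorphisms of `p`-groups and the Frattini quotient
-/

set_option autoImplicit false

namespace Cfsg.Agent.Lib.ClassSizes.AutFrattini

open Subgroup
open scoped commutatorElement

universe u

variable {p : ℕ} [hp : Fact p.Prime]

/-- A finite elementary abelian group of order `p^r` is generated by `r` elements. -/
theorem exists_gens : ∀ (r : ℕ) (V : Type u) [Group V] [Finite V], (∀ a b : V, a * b = b * a) →
    (∀ v : V, v ^ p = 1) → Nat.card V = p ^ r → ∃ v : Fin r → V, closure (Set.range v) = ⊤ := by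
  intro r
  induction r with
  | zero =>
    intro V _ _ _ _ h
    rw [pow_zero] at h
    haveI : Subsingleton V := (Nat.card_eq_one_iff_unique.mp h).1
    exact ⟨Fin.elim0, Subsingleton.elim _ _⟩
  | succ r ih =>
    intro V _ _ hc he h
    have hpp : p.Prime := hp.out
    haveI : Nontrivial V := by
      apply Finite.one_lt_card_iff_nontrivial.mp
      rw [h]
      exact Nat.one_lt_pow (by omega) hpp.one_lt
    obtain ⟨w, hw⟩ := exists_ne (1 : V)
    let N : Subgroup V := zpowers w
    haveI hN : N.Normal := by
      refine ⟨fun x hx g => ?_⟩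
      have : g * x * g⁻¹ = x := by rw [hc g x]; group
      rwa [this]
    have hcN : Nat.card N = p := by
      rw [Nat.card_zpowers]
      exact orderOf_eq_prime (he w) hw
    have hcQ : Nat.card (V ⧸ N) = p ^ r := by
      have h1 := N.card_eq_card_quotient_mul_card_subgroup
      rw [h, hcN, pow_succ] at h1
      exact (Nat.eq_of_mul_eq_mul_right hpp.pos h1).symm
    obtain ⟨u, hu⟩ := ih (V ⧸ N)
      (by
        intro a b
        obtain ⟨a, rfl⟩ := QuotientGroup.mk_surjective a
        obtain ⟨b, rfl⟩ := QuotientGroup.mk_surjective b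
        rw [← QuotientGroup.mk_mul, ← QuotientGroup.mk_mul, hc a b])
      (by
        intro a
        obtain ⟨a, rfl⟩ := QuotientGroup.mk_surjective a
        rw [← QuotientGroup.mk_pow, he a]
        rfl) hcQ
    choose ũ hũ using fun i => QuotientGroup.mk_surjective (u i)
    refine ⟨Fin.cons w ũ, ?_⟩
    rw [eq_top_iff]
    intro x _
    set C := closure (Set.range (Fin.cons w ũ : Fin (r + 1) → V)) with hC
    have hwC : w ∈ C := subset_closure ⟨0, rfl⟩
    have hNC : N ≤ C := zpowers_le.mpr hwC
    have hũC : ∀ i, ũ i ∈ C := fun i => subset_closure ⟨i.succ, rfl⟩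
    -- the image of `C` is everything
    have hmap : C.map (QuotientGroup.mk' N) = ⊤ := by
      rw [eq_top_iff, ← hu, closure_le]
      rintro _ ⟨i, rfl⟩
      exact ⟨ũ i, hũC i, hũ i⟩
    have hxm : QuotientGroup.mk' N x ∈ C.map (QuotientGroup.mk' N) := by
      rw [hmap]; trivial
    obtain ⟨c, hc1, hc2⟩ := hxm
    have h1 : c⁻¹ * x ∈ N := by
      rw [← QuotientGroup.eq]
      exact hc2
    have : x = c * (c⁻¹ * x) := by group
    rw [this]
    exact C.mul_mem hc1 (hNC h1)

/-- A group acting freely on a finite set: its order divides the size of the set. -/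
theorem card_dvd_of_free {A T : Type*} [Group A] [Finite A] [Finite T] [MulAction A T]
    (h : ∀ (a : A) (t : T), a • t = t → a = 1) : Nat.card A ∣ Nat.card T := by
  classical
  rw [Nat.card_congr (MulAction.selfEquivSigmaOrbits A T)]
  have := Fintype.ofFinite (MulAction.orbitRel.Quotient A T)
  rw [Nat.card_sigma]
  apply Finset.dvd_sum
  intro ω _
  have h1 : MulAction.stabilizer A (Quotient.out ω) = ⊥ := by
    rw [eq_bot_iff]
    intro a ha
    exact h a _ ha
  have h2 := MulAction.index_stabilizer A (Quotient.out ω)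
  rw [h1, Subgroup.index_bot] at h2
  rw [h2, Nat.card_coe_set_eq]

section Main

variable {P : Type u} [Group P] [Finite P]

/-- The automorphisms acting trivially on the Frattini quotient. -/
theorem card_dvd_of_trivial_on_frattini {n r : ℕ} (hP : Nat.card P = p ^ n)
    (hr : (frattini P).index = p ^ r) (A : Subgroup (MulAut P))
    (hA : ∀ α ∈ A, ∀ x : P, α x * x⁻¹ ∈ frattini P) : Nat.card A ∣ p ^ (r * (n - r)) := by
  classical
  have hpp : p.Prime := hp.out
  have hPp : IsPGroup p P := IsPGroup.of_card hP
  set Φ : Subgroup P := frattini P with hΦ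
  -- the order of `Φ`
  have hcΦ : Nat.card Φ = p ^ (n - r) := by
    have h1 := Φ.card_mul_index
    rw [hP, hr] at h1
    have h2 : r ≤ n := by
      have h3 : p ^ r ∣ p ^ n := ⟨Nat.card Φ, by rw [← h1, mul_comm]⟩
      exact (Nat.pow_dvd_pow_iff_le_right hpp.one_lt).mp h3
    have h3 : p ^ n = p ^ (n - r) * p ^ r := by
      rw [← pow_add]
      congr 1
      omega
    rw [h3] at h1
    exact Nat.eq_of_mul_eq_mul_right (pow_pos hpp.pos r) h1
  have hcV : Nat.card (P ⧸ Φ) = p ^ r := hr
  obtain ⟨v, hv⟩ := exists_gens r (P ⧸ Φ)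
    (by
      intro a b
      obtain ⟨a, rfl⟩ := QuotientGroup.mk_surjective a
      obtain ⟨b, rfl⟩ := QuotientGroup.mk_surjective b
      show ((a * b : P) : P ⧸ Φ) = ((b * a : P) : P ⧸ Φ)
      rw [QuotientGroup.eq]
      have h1 := Cfsg.Agent.Lib.Transfer.commutator_le_frattini hPp
        (Subgroup.commutator_mem_commutator (Subgroup.mem_top b⁻¹) (Subgroup.mem_top a⁻¹))
      rw [commutatorElement_def] at h1
      convert h1 using 1
      group)
    (by
      intro a
      obtain ⟨a, rfl⟩ := QuotientGroup.mk_surjective a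
      rw [← QuotientGroup.mk_pow]
      exact (QuotientGroup.eq_one_iff _).mpr (Cfsg.Agent.Lib.Transfer.pow_mem_frattini hPp a))
    hcV
  choose x hx using fun i => QuotientGroup.mk_surjective (v i)
  -- the set of tuples
  let T : Type u := {y : Fin r → P // ∀ i, y i * (x i)⁻¹ ∈ Φ}
  have hgen : ∀ y : T, closure (Set.range y.1) = ⊤ := by
    intro y
    apply Cfsg.Agent.Lib.Core.eq_top_of_sup_eq_top_of_le_frattini (N := Φ) le_rfl
    rw [eq_top_iff]
    intro g _
    have hg : (g : P ⧸ Φ) ∈ closure (Set.range v) := by rw [hv]; trivial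
    have hmap : closure (Set.range v) ≤ (closure (Set.range y.1) ⊔ Φ).map (QuotientGroup.mk' Φ) := by
      rw [closure_le]
      rintro _ ⟨i, rfl⟩
      refine ⟨y.1 i, (le_sup_left : closure (Set.range y.1) ≤ _) (subset_closure ⟨i, rfl⟩), ?_⟩
      rw [← hx i]
      show ((y.1 i : P) : P ⧸ Φ) = ((x i : P) : P ⧸ Φ)
      rw [QuotientGroup.eq]
      have h2 := Φ.inv_mem (y.2 i)
      have h3 : (y.1 i * (x i)⁻¹)⁻¹ = x i * (y.1 i)⁻¹ := by group
      rw [h3] at h2
      have h4 := (inferInstance : Φ.Normal).conj_mem _ h2 (y.1 i)⁻¹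
      convert h4 using 1
      group
    obtain ⟨c, hc, hcg⟩ := hmap hg
    have h1 : c⁻¹ * g ∈ Φ := by
      rw [← QuotientGroup.eq]
      exact hcg
    have : g = c * (c⁻¹ * g) := by group
    rw [this]
    exact mul_mem hc ((le_sup_right : Φ ≤ closure (Set.range y.1) ⊔ Φ) h1)
  letI act : MulAction A T :=
    { smul := fun a y => ⟨fun i => (a : MulAut P) (y.1 i), fun i => by
        have h1 := hA a a.2 (y.1 i)
        have h2 := y.2 i
        have h3 : (a : MulAut P) (y.1 i) * (x i)⁻¹ =
            ((a : MulAut P) (y.1 i) * (y.1 i)⁻¹) * (y.1 i * (x i)⁻¹) := by group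
        rw [h3]
        exact mul_mem h1 h2⟩
      one_smul := fun y => rfl
      mul_smul := fun a b y => rfl }
  have hsmul : ∀ (a : A) (y : T) (i : Fin r), (a • y).1 i = (a : MulAut P) (y.1 i) := fun _ _ _ => rfl
  have hcT : Nat.card T = p ^ (r * (n - r)) := by
    let e : T ≃ (Fin r → Φ) :=
      { toFun := fun y i => ⟨y.1 i * (x i)⁻¹, y.2 i⟩
        invFun := fun f => ⟨fun i => (f i : P) * x i, fun i => by simp⟩
        left_inv := fun y => by
          apply Subtype.ext
          funext i
          simp
        right_inv := fun f => by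
          funext i
          apply Subtype.ext
          simp }
    rw [Nat.card_congr e, Nat.card_fun, hcΦ, Nat.card_fin, ← pow_mul, mul_comm]
  rw [← hcT]
  haveI : Finite T := inferInstance
  apply card_dvd_of_free
  intro a y hay
  have hfix : ∀ i, (a : MulAut P) (y.1 i) = y.1 i := fun i => by
    have := congrArg (fun z : T => z.1 i) hay
    exact this
  have hall : ∀ g ∈ closure (Set.range y.1), (a : MulAut P) g = g := by
    intro g hg
    induction hg using Subgroup.closure_induction with
    | mem z hz =>
      obtain ⟨i, rfl⟩ := hz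
      exact hfix i
    | one => simp
    | mul u w _ _ hu hw => rw [map_mul, hu, hw]
    | inv u _ hu => rw [map_inv, hu]
  apply Subtype.ext
  ext g
  exact hall g (by rw [hgen y]; trivial)

set_option backward.isDefEq.respectTransparency false in
/-- The automorphism group of an elementary abelian group embeds in the general linear group. -/
theorem card_mulAut_of_module {V : Type*} [CommGroup V] [Finite V] {r : ℕ}
    [inst : Module (ZMod p) (Additive V)] (hcard : Nat.card V = p ^ r) :
    Nat.card (MulAut V) ∣ ∏ i ∈ Finset.range r, (p ^ r - p ^ i) := by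
  classical
  have hpp : p.Prime := hp.out
  haveI : Finite (Additive V) := inferInstanceAs (Finite V)
  haveI hfin : Module.Finite (ZMod p) (Additive V) := Module.Finite.of_finite
  have hfr : Module.finrank (ZMod p) (Additive V) = r := by
    haveI := Fintype.ofFinite (Additive V)
    have h1 := Module.card_eq_pow_finrank (K := ZMod p) (V := Additive V)
    have h2 : Nat.card (Additive V) = p ^ r := hcard
    rw [← Nat.card_eq_fintype_card, h2, ZMod.card] at h1
    exact (Nat.pow_right_injective hpp.two_le h1).symm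
  let b : Module.Basis (Fin r) (ZMod p) (Additive V) :=
    Module.finBasisOfFinrankEq (ZMod p) (Additive V) hfr
  let L : MulAut V →* Module.End (ZMod p) (Additive V) :=
    { toFun := fun f => AddMonoidHom.toZModLinearMap p (MonoidHom.toAdditive f.toMonoidHom)
      map_one' := LinearMap.ext fun x => rfl
      map_mul' := fun f g => LinearMap.ext fun x => rfl }
  let M : Module.End (ZMod p) (Additive V) →* Matrix (Fin r) (Fin r) (ZMod p) :=
    ((LinearMap.toMatrixAlgEquiv b).toAlgHom : _ →ₐ[ZMod p] _).toMonoidHom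
  let φ : MulAut V →* GL (Fin r) (ZMod p) := (M.comp L).toHomUnits
  have hφ : Function.Injective φ := by
    intro f g hfg
    have h1 : M (L f) = M (L g) := by
      have := congrArg Units.val hfg
      exact this
    have h2 : L f = L g := (LinearMap.toMatrixAlgEquiv b).injective h1
    ext x
    have := congrArg (fun u : Module.End (ZMod p) (Additive V) => u (Additive.ofMul x)) h2
    exact this
  have h3 := Subgroup.card_dvd_of_injective φ hφ
  rw [Matrix.card_GL_field, ZMod.card, Fin.prod_univ_eq_prod_range (fun i => p ^ r - p ^ i) r] at h3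
  exact h3

theorem card_mulAut_elementary_dvd' {V : Type*} [CommGroup V] [Finite V] {r : ℕ}
    (he : ∀ v : V, v ^ p = 1) (hcard : Nat.card V = p ^ r) :
    Nat.card (MulAut V) ∣ ∏ i ∈ Finset.range r, (p ^ r - p ^ i) := by
  have hW : ∀ x : Additive V, p • x = 0 := fun x => he (Additive.toMul x)
  letI inst : Module (ZMod p) (Additive V) := AddCommGroup.zmodModule hW
  exact card_mulAut_of_module hcard

theorem card_mulAut_elementary_dvd {V : Type*} [Group V] [Finite V] {r : ℕ}
    (hc : ∀ a b : V, a * b = b * a) (he : ∀ v : V, v ^ p = 1) (hcard : Nat.card V = p ^ r) :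
    Nat.card (MulAut V) ∣ ∏ i ∈ Finset.range r, (p ^ r - p ^ i) := by
  letI : CommGroup V := { (inferInstance : Group V) with mul_comm := hc }
  exact card_mulAut_elementary_dvd' he hcard

/-- The order of the automorphism group of a `p`-group. -/
theorem card_mulAut_dvd {n r : ℕ} (hP : Nat.card P = p ^ n) (hr : (frattini P).index = p ^ r) :
    Nat.card (MulAut P) ∣ p ^ (r * (n - r)) * ∏ i ∈ Finset.range r, (p ^ r - p ^ i) := by
  classical
  have hPp : IsPGroup p P := IsPGroup.of_card hP
  set Φ : Subgroup P := frattini P with hΦ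
  have hmap : ∀ f : MulAut P, Φ.map (f : P →* P) = Φ := fun f =>
    Subgroup.characteristic_iff_map_eq.mp inferInstance f
  let ψ : MulAut P →* MulAut (P ⧸ Φ) :=
    { toFun := fun f => QuotientGroup.congr Φ Φ f (hmap f)
      map_one' := by
        ext v
        obtain ⟨x, rfl⟩ := QuotientGroup.mk_surjective v
        rfl
      map_mul' := fun f g => by
        ext v
        obtain ⟨x, rfl⟩ := QuotientGroup.mk_surjective v
        rfl }
  have hψ : ∀ (f : MulAut P) (x : P), ψ f (x : P ⧸ Φ) = ((f x : P) : P ⧸ Φ) := fun _ _ => rfl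
  have hker : Nat.card ψ.ker ∣ p ^ (r * (n - r)) := by
    apply card_dvd_of_trivial_on_frattini hP hr
    intro f hf x
    have h1 : ψ f (x : P ⧸ Φ) = (x : P ⧸ Φ) := by
      rw [MonoidHom.mem_ker.mp hf]
      rfl
    rw [hψ] at h1
    have h2 : ((f x * x⁻¹ : P) : P ⧸ Φ) = 1 := by
      rw [QuotientGroup.mk_mul, h1, QuotientGroup.mk_inv, mul_inv_cancel]
    exact (QuotientGroup.eq_one_iff _).mp h2
  have hrange : Nat.card ψ.range ∣ ∏ i ∈ Finset.range r, (p ^ r - p ^ i) := by
    refine (Subgroup.card_subgroup_dvd_card _).trans ?_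
    apply card_mulAut_elementary_dvd
    · intro a b
      obtain ⟨a, rfl⟩ := QuotientGroup.mk_surjective a
      obtain ⟨b, rfl⟩ := QuotientGroup.mk_surjective b
      show ((a * b : P) : P ⧸ Φ) = ((b * a : P) : P ⧸ Φ)
      rw [QuotientGroup.eq]
      have h1 := Cfsg.Agent.Lib.Transfer.commutator_le_frattini hPp
        (Subgroup.commutator_mem_commutator (Subgroup.mem_top b⁻¹) (Subgroup.mem_top a⁻¹))
      rw [commutatorElement_def] at h1
      convert h1 using 1
      group
    · intro a
      obtain ⟨a, rfl⟩ := QuotientGroup.mk_surjective a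
      rw [← QuotientGroup.mk_pow]
      exact (QuotientGroup.eq_one_iff _).mpr (Cfsg.Agent.Lib.Transfer.pow_mem_frattini hPp a)
    · exact hr
  have h1 := ψ.ker.card_mul_index
  rw [Subgroup.index_ker] at h1
  rw [← h1]
  exact mul_dvd_mul hker hrange

end Main

end Cfsg.Agent.Lib.ClassSizes.AutFrattini
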