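import Mathlib

set_option autoImplicit false

namespace Cfsg.Agent.Lib.ClassSizes.AltClass

open Equiv Equiv.Perm

section Count

/-- One step of the partition count: `p(m+1) ≤ 2 p(m)`. -/
theorem card_partition_succ_le (m : ℕ) :
    Nat.card (Nat.Partition (m + 1)) ≤ 2 * Nat.card (Nat.Partition m) := by
  classical
  -- the smallest part
  have hne : ∀ p : Nat.Partition (m + 1), ∃ x, x ∈ p.parts := by
    intro p
    by_contra h
    push Not at h
    have h0 : p.parts = 0 := Multiset.eq_zero_of_forall_notMem h
    have := p.parts_sum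
    rw [h0] at this
    simp at this
  let s : Nat.Partition (m + 1) → ℕ := fun p => sInf {x | x ∈ p.parts}
  have hs_mem : ∀ p, s p ∈ p.parts := fun p => Nat.sInf_mem (hne p)
  have hs_le : ∀ p, ∀ x ∈ p.parts, s p ≤ x := fun p x hx => Nat.sInf_le hx
  let f : Nat.Partition (m + 1) → Nat.Partition m ⊕ Nat.Partition m := fun p =>
    if h : 1 ∈ p.parts then
      Sum.inl
        { parts := p.parts.erase 1
          parts_pos := fun hi => p.parts_pos (Multiset.mem_of_mem_erase hi)
          parts_sum := by
            have := Multiset.sum_erase h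
            have h2 := p.parts_sum
            omega }
    else
      Sum.inr
        { parts := (s p - 1) ::ₘ p.parts.erase (s p)
          parts_pos := by
            intro i hi
            rcases Multiset.mem_cons.mp hi with rfl | hi
            · have h1 : 0 < s p := p.parts_pos (hs_mem p)
              have h2 : s p ≠ 1 := fun h' => h (by have := hs_mem p; rwa [h'] at this)
              omega
            · exact p.parts_pos (Multiset.mem_of_mem_erase hi)
          parts_sum := by
            have h1 : 0 < s p := p.parts_pos (hs_mem p)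
            have := Multiset.sum_erase (hs_mem p)
            have h2 := p.parts_sum
            rw [Multiset.sum_cons]
            omega }
  have hf : Function.Injective f := by
    intro p q hpq
    by_cases hp : 1 ∈ p.parts <;> by_cases hq : 1 ∈ q.parts
    · simp only [f, dif_pos hp, dif_pos hq, Sum.inl.injEq] at hpq
      have h := congrArg Nat.Partition.parts hpq
      simp only at h
      apply Nat.Partition.ext
      rw [← Multiset.cons_erase hp, ← Multiset.cons_erase hq, h]
    · simp [f, dif_pos hp, dif_neg hq] at hpq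
    · simp [f, dif_neg hp, dif_pos hq] at hpq
    · simp only [f, dif_neg hp, dif_neg hq, Sum.inr.injEq] at hpq
      have h := congrArg Nat.Partition.parts hpq
      simp only at h
      have h1p : 0 < s p := p.parts_pos (hs_mem p)
      have h1q : 0 < s q := q.parts_pos (hs_mem q)
      have hss : s p = s q := by
        have h3 : s p - 1 ∈ (s q - 1) ::ₘ q.parts.erase (s q) := by
          rw [← h]; exact Multiset.mem_cons_self _ _
        have h4 : s q - 1 ∈ (s p - 1) ::ₘ p.parts.erase (s p) := by
          rw [h]; exact Multiset.mem_cons_self _ _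
        rcases Multiset.mem_cons.mp h3 with h3 | h3
        · omega
        · rcases Multiset.mem_cons.mp h4 with h4 | h4
          · omega
          · have h5 := hs_le q _ (Multiset.mem_of_mem_erase h3)
            have h6 := hs_le p _ (Multiset.mem_of_mem_erase h4)
            omega
      rw [hss] at h
      have h7 := (Multiset.cons_inj_right _).mp h
      apply Nat.Partition.ext
      calc p.parts = s p ::ₘ p.parts.erase (s p) := (Multiset.cons_erase (hs_mem p)).symm
        _ = s q ::ₘ p.parts.erase (s q) := by rw [hss]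
        _ = s q ::ₘ q.parts.erase (s q) := by rw [h7]
        _ = q.parts := Multiset.cons_erase (hs_mem q)
  have := Nat.card_le_card_of_injective f hf
  rw [Nat.card_sum] at this
  omega

/-- Explicit lists of the partitions of small numbers. -/
def ell : ℕ → List (Multiset ℕ)
  | 0 => [0]
  | 1 => [{1}]
  | 2 => [{2}, {1, 1}]
  | 3 => [{3}, {2, 1}, {1, 1, 1}]
  | 4 => [{4}, {3, 1}, {2, 2}, {2, 1, 1}, {1, 1, 1, 1}]
  | 5 => [{5}, {4, 1}, {3, 2}, {3, 1, 1}, {2, 2, 1}, {2, 1, 1, 1}, {1, 1, 1, 1, 1}]
  | _ => []

set_option maxRecDepth 100000 in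
lemma ell_step : ∀ n : Fin 6, ∀ x : Fin 6, 0 < x → x ≤ n → ∀ t ∈ ell (n - x : ℕ), ((x : ℕ) ::ₘ t) ∈ ell n := by
  decide

lemma mem_ell (n : ℕ) (hn : n ≤ 5) (s : Multiset ℕ) (hpos : ∀ i ∈ s, 0 < i) (hsum : s.sum = n) :
    s ∈ ell n := by
  induction n using Nat.strong_induction_on generalizing s with
  | _ n ih =>
    by_cases hs : s = 0
    · subst hs
      simp only [Multiset.sum_zero] at hsum
      subst hsum
      simp [ell]
    · obtain ⟨x, hx⟩ := Multiset.exists_mem_of_ne_zero hs
      obtain ⟨t, rfl⟩ := Multiset.exists_cons_of_mem hx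
      rw [Multiset.sum_cons] at hsum
      have hx0 : 0 < x := hpos x (Multiset.mem_cons_self _ _)
      have ht := ih (n - x) (by omega) (by omega) t
        (fun i hi => hpos i (Multiset.mem_cons_of_mem hi)) (by omega)
      exact ell_step ⟨n, by omega⟩ ⟨x, by omega⟩ hx0 (by simp only [Fin.le_def]; omega) t ht

theorem card_partition_five : Nat.card (Nat.Partition 5) ≤ 8 := by
  classical
  let F : Finset (Multiset ℕ) := (ell 5).toFinset
  have hF : F.card ≤ 8 := by
    have := List.toFinset_card_le (ell 5)
    simp only [ell, List.length_cons, List.length_nil] at this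
    exact this.trans (by norm_num)
  let f : Nat.Partition 5 → F := fun p =>
    ⟨p.parts, List.mem_toFinset.mpr (mem_ell 5 le_rfl p.parts (fun _ hi => p.parts_pos hi) p.parts_sum)⟩
  have hf : Function.Injective f := by
    intro p q h
    exact Nat.Partition.ext (congrArg Subtype.val h)
  have := Nat.card_le_card_of_injective f hf
  rw [Nat.card_eq_fintype_card (α := F), Fintype.card_coe] at this
  omega

/-- `p(m) ≤ 2^(m-2)` for `m ≥ 5`. -/
theorem card_partition_le (m : ℕ) (hm : 5 ≤ m) : Nat.card (Nat.Partition m) ≤ 2 ^ (m - 2) := by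
  induction m, hm using Nat.le_induction with
  | base => simpa using card_partition_five
  | succ m hm ih =>
    have := card_partition_succ_le m
    have h2 : m + 1 - 2 = (m - 2) + 1 := by omega
    rw [h2, pow_succ]
    omega

end Count

section Parity

variable {α : Type*} [Fintype α] [DecidableEq α]

/-- The sign of a multiset of cycle lengths. -/
def nu (s : Multiset ℕ) : ℤˣ := (s.map fun n => -(-1 : ℤˣ) ^ n).prod

@[simp] lemma nu_add (s t : Multiset ℕ) : nu (s + t) = nu s * nu t := by
  simp [nu, Multiset.map_add, Multiset.prod_add]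

@[simp] lemma nu_cons (a : ℕ) (s : Multiset ℕ) : nu (a ::ₘ s) = (-(-1 : ℤˣ) ^ a) * nu s := by
  simp [nu]

lemma nu_replicate_one (k : ℕ) : nu (Multiset.replicate k 1) = 1 := by
  simp [nu, Multiset.map_replicate]

lemma nu_of_odd (s : Multiset ℕ) (h : ∀ i ∈ s, Odd i) : nu s = 1 := by
  induction s using Multiset.induction_on with
  | empty => simp [nu]
  | cons a s ih =>
    rw [nu_cons, ih (fun i hi => h i (Multiset.mem_cons_of_mem hi))]
    have : (-1 : ℤˣ) ^ a = -1 := (h a (Multiset.mem_cons_self _ _)).neg_one_pow
    simp [this]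

lemma pow_eq_nu (s : Multiset ℕ) : (-1 : ℤˣ) ^ (s.sum + Multiset.card s) = nu s := by
  induction s using Multiset.induction_on with
  | empty => simp [nu]
  | cons a s ih =>
    rw [nu_cons, ← ih, Multiset.sum_cons, Multiset.card_cons, ← add_assoc, add_assoc a, pow_add, pow_add]
    simp

lemma sign_eq_nu (σ : Perm α) : sign σ = nu σ.partition.parts := by
  rw [parts_partition, nu_add, nu_replicate_one, mul_one, sign_of_cycleType, pow_eq_nu]

/-- Every partition of `card α` is the cycle partition of a permutation. -/
theorem exists_perm_partition (p : (Fintype.card α).Partition) : ∃ σ : Perm α, σ.partition = p := by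
  classical
  set s := p.parts.filter (fun n => 2 ≤ n) with hs
  set r := p.parts.filter (fun n => ¬ 2 ≤ n) with hr
  have hsr : s + r = p.parts := Multiset.filter_add_not _ _
  have h1 : r = Multiset.replicate (Multiset.card r) 1 := by
    apply Multiset.eq_replicate.mpr ⟨rfl, ?_⟩
    intro b hb
    have hb1 := Multiset.mem_filter.mp hb
    have := p.parts_pos hb1.1
    omega
  have hsum : s.sum + Multiset.card r = Fintype.card α := by
    have := p.parts_sum
    rw [← hsr, Multiset.sum_add, h1] at this
    simpa using this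
  obtain ⟨σ, hσ⟩ := (exists_with_cycleType_iff (α := α) (m := s)).mpr
    ⟨by omega, fun a ha => (Multiset.mem_filter.mp ha).2⟩
  refine ⟨σ, ?_⟩
  apply Nat.Partition.ext
  have hsup : σ.support.card = s.sum := by rw [← sum_cycleType, hσ]
  rw [parts_partition, hσ, ← hsr, hsup]
  congr 1
  rw [h1]
  congr 1
  omega

/-- Conjugacy classes of the symmetric group correspond to partitions. -/
noncomputable def classEquiv (α : Type*) [Fintype α] [DecidableEq α] :
    ConjClasses (Perm α) ≃ (Fintype.card α).Partition :=
  Equiv.ofBijective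
    (fun c => Quotient.lift (fun σ : Perm α => σ.partition)
      (fun _ _ h => partition_eq_of_isConj.mp h) c)
    (by
      constructor
      · intro c d h
        obtain ⟨x, rfl⟩ := ConjClasses.mk_surjective c
        obtain ⟨y, rfl⟩ := ConjClasses.mk_surjective d
        exact ConjClasses.mk_eq_mk_iff_isConj.mpr (partition_eq_of_isConj.mpr h)
      · intro p
        obtain ⟨σ, hσ⟩ := exists_perm_partition p
        exact ⟨ConjClasses.mk σ, hσ⟩)

/-- Replace a part `a` by `a - 1` and `1`. -/
noncomputable def tr {m : ℕ} (p : m.Partition) : m.Partition :=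
  open Classical in
  if h : ∃ a ∈ p.parts, 2 ≤ a then
    { parts := (h.choose - 1) ::ₘ 1 ::ₘ p.parts.erase h.choose
      parts_pos := by
        intro i hi
        have h2 := h.choose_spec
        rcases Multiset.mem_cons.mp hi with rfl | hi
        · omega
        · rcases Multiset.mem_cons.mp hi with rfl | hi
          · omega
          · exact p.parts_pos (Multiset.mem_of_mem_erase hi)
      parts_sum := by
        have h2 := h.choose_spec
        have h3 := Multiset.sum_erase h2.1
        have h4 := p.parts_sum
        rw [Multiset.sum_cons, Multiset.sum_cons]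
        omega }
  else p

/-- Partitions into distinct odd parts. -/
def Bad {m : ℕ} (p : m.Partition) : Prop := (∀ i ∈ p.parts, Odd i) ∧ p.parts.Nodup

lemma Bad.exists_part {m : ℕ} (hm : 2 ≤ m) {p : m.Partition} (hp : Bad p) :
    ∃ a ∈ p.parts, 2 ≤ a := by
  by_contra h
  push Not at h
  have h1 : p.parts = Multiset.replicate (Multiset.card p.parts) 1 := by
    apply Multiset.eq_replicate.mpr ⟨rfl, ?_⟩
    intro b hb
    have := h b hb
    have := p.parts_pos hb
    omega
  have h2 : Multiset.card p.parts ≤ 1 := by
    have h3 := (Multiset.nodup_iff_count_le_one.mp hp.2) 1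
    rw [h1, Multiset.count_replicate_self] at h3
    exact h3
  have h4 := p.parts_sum
  rw [h1] at h4
  simp at h4
  omega

lemma tr_parts {m : ℕ} (hm : 2 ≤ m) {p : m.Partition} (hp : Bad p) :
    ∃ a ∈ p.parts, 2 ≤ a ∧ (tr p).parts = (a - 1) ::ₘ 1 ::ₘ p.parts.erase a := by
  have h := hp.exists_part hm
  refine ⟨h.choose, h.choose_spec.1, h.choose_spec.2, ?_⟩
  simp only [tr, dif_pos h]

lemma nu_tr {m : ℕ} (hm : 2 ≤ m) {p : m.Partition} (hp : Bad p) : nu (tr p).parts = -1 := by
  obtain ⟨a, ha, h2, he⟩ := tr_parts hm hp
  rw [he, nu_cons, nu_cons, nu_of_odd (p.parts.erase a)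
    (fun i hi => hp.1 i (Multiset.mem_of_mem_erase hi))]
  have h3 : Even (a - 1) := by
    have := hp.1 a ha
    exact Nat.Odd.sub_odd this odd_one
  have h4 : (-1 : ℤˣ) ^ (a - 1) = 1 := h3.neg_one_pow
  simp [h4]

lemma tr_injOn {m : ℕ} (hm : 2 ≤ m) {p q : m.Partition} (hp : Bad p) (hq : Bad q)
    (h : tr p = tr q) : p = q := by
  obtain ⟨a, ha, h2, he⟩ := tr_parts hm hp
  obtain ⟨b, hb, h2', he'⟩ := tr_parts hm hq
  have hoa := hp.1 a ha
  have hob := hq.1 b hb
  have hea : Even (a - 1) := Nat.Odd.sub_odd hoa odd_one
  have heb : Even (b - 1) := Nat.Odd.sub_odd hob odd_one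
  have hP : (a - 1) ::ₘ 1 ::ₘ p.parts.erase a = (b - 1) ::ₘ 1 ::ₘ q.parts.erase b := by
    rw [← he, ← he', h]
  have hab : a = b := by
    have h3 : a - 1 ∈ (b - 1) ::ₘ 1 ::ₘ q.parts.erase b := by
      rw [← hP]; exact Multiset.mem_cons_self _ _
    rcases Multiset.mem_cons.mp h3 with h3 | h3
    · omega
    · rcases Multiset.mem_cons.mp h3 with h3 | h3
      · rw [h3] at hea; exact absurd hea (by decide)
      · have := hq.1 _ (Multiset.mem_of_mem_erase h3)
        exact absurd hea (Nat.not_even_iff_odd.mpr this)
  subst hab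
  have h5 := (Multiset.cons_inj_right _).mp ((Multiset.cons_inj_right _).mp hP)
  apply Nat.Partition.ext
  rw [← Multiset.cons_erase ha, ← Multiset.cons_erase hb, h5]

lemma bad_of_centralizer {g : Perm α} (h : Subgroup.centralizer {g} ≤ alternatingGroup α) :
    Bad g.partition := by
  obtain ⟨h1, h2, h3⟩ := centralizer_le_alternating_iff.mp h
  have hsup : g.support.card = g.cycleType.sum := (sum_cycleType g).symm
  have hle : Fintype.card α - g.support.card ≤ 1 := by omega
  constructor
  · intro i hi
    rw [parts_partition, Multiset.mem_add] at hi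
    rcases hi with hi | hi
    · exact h1 i hi
    · rw [Multiset.eq_of_mem_replicate hi]; exact odd_one
  · rw [parts_partition, Multiset.nodup_add]
    refine ⟨Multiset.nodup_iff_count_le_one.mpr h3, ?_, ?_⟩
    · rw [Multiset.nodup_iff_count_le_one]
      intro a
      rw [Multiset.count_replicate]
      split_ifs <;> omega
    · rw [Multiset.disjoint_left]
      intro a ha hb
      rw [Multiset.eq_of_mem_replicate hb] at ha
      have := two_le_of_mem_cycleType ha
      omega

/-- The partition of a class of the alternating group. -/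
noncomputable def part (α : Type*) [Fintype α] [DecidableEq α] :
    ConjClasses (alternatingGroup α) → (Fintype.card α).Partition := fun c =>
  Quotient.lift (fun x : alternatingGroup α => (x : Perm α).partition)
    (fun x y h => partition_eq_of_isConj.mp
      ((alternatingGroup α).subtype.map_isConj (show IsConj x y from h))) c

lemma part_mk (x : alternatingGroup α) : part α (ConjClasses.mk x) = (x : Perm α).partition := rfl

lemma mk_isConj_of_even {x y : alternatingGroup α} {c : Perm α} (hc : sign c = 1)
    (h : c * x * c⁻¹ = y) : IsConj x y := by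
  rw [isConj_iff]
  refine ⟨⟨c, Equiv.Perm.mem_alternatingGroup.mpr hc⟩, ?_⟩
  ext1
  exact h

lemma sign_eq_neg_one {c : Perm α} (hc : sign c ≠ 1) : sign c = -1 := by
  rcases Int.units_eq_one_or (sign c) with h | h
  · exact absurd h hc
  · exact h

lemma key1 {c c' : ConjClasses (alternatingGroup α)} (h : part α c = part α c') (hne : c ≠ c') :
    Bad (part α c) := by
  obtain ⟨x, rfl⟩ := ConjClasses.mk_surjective c
  obtain ⟨y, rfl⟩ := ConjClasses.mk_surjective c'
  rw [part_mk] at h ⊢
  rw [part_mk] at h
  apply bad_of_centralizer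
  have hconj := partition_eq_of_isConj.mpr h
  rw [isConj_iff] at hconj
  obtain ⟨τ, hτ⟩ := hconj
  intro z hz
  by_contra hodd
  have hz' : sign z ≠ 1 := fun h => hodd (Equiv.Perm.mem_alternatingGroup.mpr h)
  apply hne
  apply ConjClasses.mk_eq_mk_iff_isConj.mpr
  by_cases hτs : sign τ = 1
  · exact mk_isConj_of_even hτs hτ
  · have h1 : sign (τ * z) = 1 := by
      rw [map_mul, sign_eq_neg_one hτs, sign_eq_neg_one hz']; rfl
    refine mk_isConj_of_even h1 ?_
    have hcomm : z * x = x * z := Subgroup.mem_centralizer_singleton_iff.mp hz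
    calc τ * z * x * (τ * z)⁻¹ = τ * (z * x) * z⁻¹ * τ⁻¹ := by group
      _ = τ * x * τ⁻¹ := by rw [hcomm]; group
      _ = y := hτ

lemma key2 {c c' c'' : ConjClasses (alternatingGroup α)} (h : part α c = part α c')
    (h' : part α c = part α c'') : c = c' ∨ c = c'' ∨ c' = c'' := by
  obtain ⟨x, rfl⟩ := ConjClasses.mk_surjective c
  obtain ⟨y, rfl⟩ := ConjClasses.mk_surjective c'
  obtain ⟨z, rfl⟩ := ConjClasses.mk_surjective c''
  rw [part_mk, part_mk] at h
  rw [part_mk, part_mk] at h'
  have hc1 := partition_eq_of_isConj.mpr h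
  have hc2 := partition_eq_of_isConj.mpr h'
  rw [isConj_iff] at hc1 hc2
  obtain ⟨τ, hτ⟩ := hc1
  obtain ⟨ρ, hρ⟩ := hc2
  by_cases h1 : sign τ = 1
  · exact Or.inl (ConjClasses.mk_eq_mk_iff_isConj.mpr (mk_isConj_of_even h1 hτ))
  by_cases h2 : sign ρ = 1
  · exact Or.inr (Or.inl (ConjClasses.mk_eq_mk_iff_isConj.mpr (mk_isConj_of_even h2 hρ)))
  refine Or.inr (Or.inr (ConjClasses.mk_eq_mk_iff_isConj.mpr ?_))
  have h3 : sign (ρ * τ⁻¹) = 1 := by
    rw [map_mul, sign_inv, sign_eq_neg_one h1, sign_eq_neg_one h2]; rfl
  refine mk_isConj_of_even h3 ?_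
  calc ρ * τ⁻¹ * y * (ρ * τ⁻¹)⁻¹ = ρ * τ⁻¹ * (τ * x * τ⁻¹) * (ρ * τ⁻¹)⁻¹ := by rw [hτ]
    _ = ρ * x * ρ⁻¹ := by group
    _ = z := hρ

lemma nu_part (c : ConjClasses (alternatingGroup α)) : nu (part α c).parts = 1 := by
  obtain ⟨x, rfl⟩ := ConjClasses.mk_surjective c
  rw [part_mk, ← sign_eq_nu]
  exact Equiv.Perm.mem_alternatingGroup.mp x.2

/-- The alternating group has fewer classes than there are partitions. -/
theorem card_alt_lt (hα : 5 ≤ Fintype.card α) :
    Nat.card (ConjClasses (alternatingGroup α)) < Nat.card (Fintype.card α).Partition := by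
  classical
  have hm : 2 ≤ Fintype.card α := by omega
  let c₀ := Function.invFun (part α)
  have hc₀ : ∀ c, part α (c₀ (part α c)) = part α c := fun c =>
    Function.invFun_eq ⟨c, rfl⟩
  let Θ : ConjClasses (alternatingGroup α) → (Fintype.card α).Partition := fun c =>
    if c = c₀ (part α c) then part α c else tr (part α c)
  have hΘ : Function.Injective Θ := by
    intro c d hcd
    simp only [Θ] at hcd
    by_cases h1 : c = c₀ (part α c) <;> by_cases h2 : d = c₀ (part α d)
    · rw [if_pos h1, if_pos h2] at hcd
      rw [h1, h2, hcd]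
    · rw [if_pos h1, if_neg h2] at hcd
      have hb : Bad (part α d) := key1 (c' := c₀ (part α d)) (hc₀ d).symm h2
      have := nu_part c
      rw [hcd, nu_tr hm hb] at this
      exact absurd this (by decide)
    · rw [if_neg h1, if_pos h2] at hcd
      have hb : Bad (part α c) := key1 (c' := c₀ (part α c)) (hc₀ c).symm h1
      have := nu_part d
      rw [← hcd, nu_tr hm hb] at this
      exact absurd this (by decide)
    · rw [if_neg h1, if_neg h2] at hcd
      have hb1 : Bad (part α c) := key1 (c' := c₀ (part α c)) (hc₀ c).symm h1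
      have hb2 : Bad (part α d) := key1 (c' := c₀ (part α d)) (hc₀ d).symm h2
      have hpq := tr_injOn hm hb1 hb2 hcd
      have h3 : part α (c₀ (part α c)) = part α c := hc₀ c
      have h4 : part α (c₀ (part α c)) = part α d := by rw [h3, hpq]
      rcases key2 h3 h4 with h5 | h5 | h5
      · exact absurd h5.symm h1
      · rw [hpq] at h5
        exact absurd h5.symm h2
      · exact h5
  haveI : Finite (ConjClasses (alternatingGroup α)) := Quotient.finite _
  haveI : Fintype (ConjClasses (alternatingGroup α)) := Fintype.ofFinite _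
  rw [Nat.card_eq_fintype_card, Nat.card_eq_fintype_card]
  apply Fintype.card_lt_of_injective_not_surjective Θ hΘ
  intro hsurj
  -- the transposition
  obtain ⟨a, b, hab⟩ := Fintype.exists_pair_of_one_lt_card (α := α) (by omega)
  obtain ⟨c, hc⟩ := hsurj (swap a b).partition
  have hsw : (swap a b).partition.parts =
      2 ::ₘ Multiset.replicate (Fintype.card α - 2) 1 := by
    rw [parts_partition, (isCycle_swap hab).cycleType, card_support_swap hab]
    simp
  have hnu : nu (swap a b).partition.parts = -1 := by
    rw [← sign_eq_nu, sign_swap hab]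
  simp only [Θ] at hc
  by_cases h1 : c = c₀ (part α c)
  · rw [if_pos h1] at hc
    have := nu_part c
    rw [hc, hnu] at this
    exact absurd this (by decide)
  · rw [if_neg h1] at hc
    have hb : Bad (part α c) := key1 (c' := c₀ (part α c)) (hc₀ c).symm h1
    obtain ⟨e, he, h2, hee⟩ := tr_parts hm hb
    rw [hc, hsw] at hee
    have hodd := hb.1 e he
    have heven : Even (e - 1) := Nat.Odd.sub_odd hodd odd_one
    have h3 : e - 1 ∈ 2 ::ₘ Multiset.replicate (Fintype.card α - 2) 1 := by
      rw [hee]; exact Multiset.mem_cons_self _ _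
    have h4 : e - 1 = 2 := by
      rcases Multiset.mem_cons.mp h3 with h3 | h3
      · exact h3
      · rw [Multiset.eq_of_mem_replicate h3] at heven
        exact absurd heven (by decide)
    rw [h4] at hee
    have h5 := (Multiset.cons_inj_right _).mp hee
    have h6 : Fintype.card α - 2 = (Fintype.card α - 3) + 1 := by omega
    rw [h6, Multiset.replicate_succ] at h5
    have h7 := (Multiset.cons_inj_right _).mp h5
    have h8 := (Multiset.nodup_iff_count_le_one.mp (hb.2.erase e)) 1
    rw [← h7, Multiset.count_replicate_self] at h8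
    omega

end Parity

end Cfsg.Agent.Lib.ClassSizes.AltClass
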