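import Mathlib
import Cfsg.Agent.Lib.ClassSizes.CMN2
import Cfsg.Agent.S4134
import Cfsg.Agent.Lib.ClassSizes.PrimeClass

/-! The class size pattern `{1, m, mn}`: an element of size `mn` and `t`-power order does not commute
with an element of size `m` and `s`-power order. -/

set_option autoImplicit false
set_option linter.style.haveILetI false

namespace Cfsg.Agent.Lib.ClassSizes.CMN

open Subgroup Cfsg Cfsg.Agent.Lib.Core
open scoped Pointwise

section Gen

variable {X : Type*} [Group X] [Finite X]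

theorem index_centralizer_sub (O Q₀ : Subgroup X) (hcover : ∀ k, ∃ o ∈ O, ∃ b ∈ Q₀, k = o * b)
    (hcomm : ∀ o ∈ O, ∀ x ∈ Q₀, x * o = o * x) (e : O) :
    (centralizer ({e} : Set O)).index = (cz (e : X)).index := by
  have h1 : centralizer ({e} : Set O) = (cz (e : X)).subgroupOf O := by
    ext u
    rw [Subgroup.mem_subgroupOf, Subgroup.mem_centralizer_singleton_iff, mem_cz]
    exact ⟨fun h => congrArg Subtype.val h, fun h => Subtype.ext h⟩
  rw [h1]
  apply Cfsg.Agent.Lib.ClassSizes.PrimeClass.index_subgroupOf_eq_of_cover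
  intro g
  obtain ⟨o, ho, b, hb, rfl⟩ := hcover g
  exact ⟨o, ho, b, mem_cz.2 (hcomm e e.2 b hb), rfl⟩

theorem mem_of_coprime_of_isPGroup_quotient {s : ℕ} (O : Subgroup X) [O.Normal]
    (hO : IsPGroup s (X ⧸ O)) {y : X} (hy : (orderOf y).Coprime s) : y ∈ O := by
  obtain ⟨k, hk⟩ := hO (y : X ⧸ O)
  have h1 : ((y : X ⧸ O)) ^ orderOf y = 1 := by
    rw [← QuotientGroup.mk_pow, pow_orderOf_eq_one, QuotientGroup.mk_one]
  have h2 : Nat.Coprime (orderOf y) (s ^ k) := Nat.Coprime.pow_right _ hy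
  have h3 := orderOf_dvd_of_pow_eq_one hk
  have h4 := orderOf_dvd_of_pow_eq_one h1
  have h5 : ((y : X ⧸ O)) = 1 := orderOf_eq_one_iff.1 (Nat.eq_one_of_dvd_coprimes h2 h4 h3)
  exact (QuotientGroup.eq_one_iff y).1 h5

theorem mem_of_pow_mem_of_coprime {H : Subgroup X} {v : X} {N : ℕ} (hv : v ^ N ∈ H)
    (hco : (orderOf v).Coprime N) : v ∈ H := by
  by_cases h1 : orderOf v = 1
  · rw [orderOf_eq_one_iff.1 h1]
    exact H.one_mem
  have h2 : 1 < orderOf v := by
    have := orderOf_pos v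
    omega
  obtain ⟨M, -, hM⟩ := Nat.exists_mul_mod_eq_one_of_coprime hco.symm h2
  have h3 : v = (v ^ N) ^ M := by
    rw [← pow_mul, ← pow_mod_orderOf, hM, pow_one]
  rw [h3]
  exact H.pow_mem hv M

/-- The relative index is unchanged when going to a covering subgroup. -/
theorem relIndex_eq_of_cover {T K C : Subgroup X} (hTK : T ≤ K)
    (hc : ∀ k ∈ K, ∃ τ ∈ T, ∃ l ∈ C, k = τ * l) : C.relIndex T = C.relIndex K := by
  have h1 := Cfsg.Agent.Lib.ClassSizes.PrimeClass.index_subgroupOf_eq_of_cover (T.subgroupOf K) (C.subgroupOf K) (by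
    rintro ⟨k, hk⟩
    obtain ⟨τ, hτ, l, hl, rfl⟩ := hc k hk
    have hlK : l ∈ K := by
      have h2 : l = τ⁻¹ * (τ * l) := by group
      rw [h2]
      exact K.mul_mem (K.inv_mem (hTK hτ)) hk
    exact ⟨⟨τ, hTK hτ⟩, hτ, ⟨l, hlK⟩, hl, rfl⟩)
  have h2 : C.relIndex K = (C.subgroupOf K).index := rfl
  rw [h2, ← h1]
  let e : (T.subgroupOf K) ≃* T := Subgroup.subgroupOfEquivOfLe hTK
  have h3 : ((C.subgroupOf K).subgroupOf (T.subgroupOf K)) = (C.subgroupOf T).comap e.toMonoidHom := by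
    ext u
    rfl
  rw [h3]
  exact (Subgroup.index_comap_of_surjective _ e.surjective).symm

theorem alpha1X {s t n : ℕ} [hs : Fact s.Prime] [ht : Fact t.Prime] (hst : s ≠ t)
    (hn : 1 < n) (htn : t ∣ n) (O : Subgroup X) [hOn : O.Normal] (hO : IsPGroup s (X ⧸ O)) (Q₀ : Subgroup X)
    (hQ₀ : ¬ s ∣ Q₀.index) (hcomm : ∀ o ∈ O, ∀ x ∈ Q₀, x * o = o * x)
    (hcl : ∀ e ∈ O, (cz e).index = 1 ∨ (cz e).index = n) {y : X} (hy : y ∈ O) (hyn : (cz y).index = n)
    (hyt : ∃ f, orderOf y = t ^ f) :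
    (∃ a, n = t ^ a) ∧ ∃ T : Subgroup X, IsPGroup t T ∧ ¬ t ∣ T.index ∧ y ∈ T ∧
      ∀ k : X, ∃ τ ∈ T, ∃ l : X, (∀ u ∈ T, u * l = l * u) ∧ k = τ * l := by
  have hcover := cover_of_isPGroup_quotient O hO Q₀ hQ₀
  have hidx := index_centralizer_sub O Q₀ hcover hcomm
  obtain ⟨p₀, hp₀, a, hna, hall⟩ := Cfsg.Agent.S4134.result (G := O) n hn
    (fun e => by rw [hidx]; exact hcl e e.2)
    ⟨⟨y, hy⟩, by rw [hidx]; exact hyn⟩
  have hp₀t : p₀ = t := by
    rw [hna] at htn
    exact ((Nat.prime_dvd_prime_iff_eq ht.out hp₀.out).1 (ht.out.dvd_of_dvd_pow htn)).symm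
  subst hp₀t
  refine ⟨⟨a, hna⟩, ?_⟩
  obtain ⟨P⟩ : Nonempty (Sylow p₀ O) := inferInstance
  obtain ⟨hPn, ⟨N, hNn, hNc, hNab, hNP⟩, -⟩ := hall P
  refine ⟨(P : Subgroup O).map O.subtype, P.2.map _, ?_, ?_, ?_⟩
  · rw [Subgroup.index_map_subtype]
    intro hd
    rcases (Nat.Prime.dvd_mul ht.out).1 hd with h1 | h1
    · exact P.not_dvd_index h1
    · obtain ⟨f, hf⟩ := IsPGroup.iff_card.1 hO
      rw [Subgroup.index_eq_card, hf] at h1
      exact hst.symm ((Nat.prime_dvd_prime_iff_eq ht.out hs.out).1 (ht.out.dvd_of_dvd_pow h1))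
  · refine ⟨⟨y, hy⟩, ?_, rfl⟩
    obtain ⟨f, hf⟩ := hyt
    have h1 : IsPGroup p₀ (zpowers (⟨y, hy⟩ : O)) := by
      apply IsPGroup.of_card (n := f)
      rw [Nat.card_zpowers, Subgroup.orderOf_mk, hf]
    obtain ⟨Q, hQ⟩ := h1.exists_le_sylow
    haveI := Sylow.unique_of_normal P hPn
    have h2 : Q = P := Subsingleton.elim _ _
    rw [h2] at hQ
    exact hQ (mem_zpowers _)
  · intro k
    obtain ⟨o, ho, b, hb, rfl⟩ := hcover k
    have h1 : (⟨o, ho⟩ : O) ∈ ((N ⊔ (P : Subgroup O) : Subgroup O) : Set O) := by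
      rw [hNc.sup_eq_top]
      trivial
    rw [Subgroup.mul_normal] at h1
    obtain ⟨ν, hν, π, hπ, h2⟩ := h1
    have h3 : (ν : X) * (π : X) = o := congrArg Subtype.val h2
    have h4 : (ν : X) * (π : X) = (π : X) * (ν : X) := congrArg Subtype.val (hNP ν hν π hπ)
    refine ⟨(π : X), ⟨π, hπ, rfl⟩, (ν : X) * b, ?_, ?_⟩
    · rintro _ ⟨w, hw, rfl⟩
      have h5 : (ν : X) * (w : X) = (w : X) * (ν : X) := congrArg Subtype.val (hNP ν hν w hw)
      have h6 := hcomm w w.2 b hb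
      show (w : X) * ((ν : X) * b) = ((ν : X) * b) * (w : X)
      calc (w : X) * ((ν : X) * b) = ((w : X) * (ν : X)) * b := by group
        _ = ((ν : X) * (w : X)) * b := by rw [h5]
        _ = (ν : X) * ((w : X) * b) := by group
        _ = (ν : X) * (b * (w : X)) := by rw [h6.symm]
        _ = _ := by group
    · rw [← mul_assoc, ← h4, h3]

end Gen

theorem order_conj_eq {G : Type*} [Group G] (g x : G) : orderOf (g * x * g⁻¹) = orderOf x :=
  orderOf_injective (MulAut.conj g).toMonoidHom (MulAut.conj g).injective x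

namespace Hyp

variable {G : Type*} [Group G] [Finite G] {m n : ℕ} (h : Hyp G m n)
include h

theorem alpha1 {s t : ℕ} [hs : Fact s.Prime] [ht : Fact t.Prime] (hsm : s ∣ m) (htn : t ∣ n) {c y : G}
    (hcs : ∃ e, orderOf c = s ^ e) (hcz : (cz c).index = m) (hy : y ∈ cz c) (hyt : ∃ f, orderOf y = t ^ f)
    (hysz : (cz y).index = m * n) :
    (∃ a, n = t ^ a) ∧ ∃ T : Subgroup G, SylIn t T (cz c) ∧ y ∈ T ∧
      ∀ k ∈ cz c, ∃ τ ∈ T, ∃ l ∈ cz c, (∀ u ∈ T, u * l = l * u) ∧ k = τ * l := by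
  have hst : s ≠ t := by
    rintro rfl
    exact h.not_dvd_n hs.out hsm htn
  have hc0 : c ∉ center G := by
    intro hc
    have := index_cz_eq_one_iff.2 hc
    have := h.hm
    omega
  obtain ⟨e, he⟩ := hcs
  obtain ⟨f, hf⟩ := hyt
  haveI := h.solvable
  have hcopst : ∀ w : G, (orderOf w).Coprime s → (orderOf c).Coprime (orderOf w) := by
    intro w hw
    rw [he]
    exact Nat.Coprime.pow_left e hw.symm
  have hyco : (orderOf y).Coprime s := by
    rw [hf]
    exact Nat.Coprime.pow_left f ((Nat.coprime_primes ht.out hs.out).2 hst.symm)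
  obtain ⟨hO1, hO2⟩ := direct (X := cz c) (p := s) (by
    intro w hw
    have hw' : (orderOf (w : G)).Coprime s := by rwa [Subgroup.orderOf_coe]
    have hd := h.not_dvd_rel hs.out hsm hc0 w.2 (hcopst _ hw')
    obtain ⟨S, hS, hSw⟩ := exists_sylIn_le_of_not_dvd hd
    refine ⟨hS.toSylow, fun x hx => ?_⟩
    have hx' : (x : G) ∈ S := hx
    exact Subtype.ext (mem_cz.1 (hSw hx')))
  obtain ⟨Q₀⟩ : Nonempty (Sylow s (cz c)) := inferInstance
  have hsidx : ∀ w : cz c, (cz w).index = (cz (w : G)).relIndex (cz c) := by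
    intro w
    have : cz w = (cz (w : G)).subgroupOf (cz c) := by
      ext u
      rw [Subgroup.mem_subgroupOf, mem_cz, mem_cz]
      exact ⟨fun h => congrArg Subtype.val h, fun h => Subtype.ext h⟩
    rw [this]
    rfl
  have hcy : c ∈ cz y := mem_cz.2 (mem_cz.1 hy).symm
  have hyK : cz y ≤ cz c := h.cz_le_of_big hysz hcy (hcopst y hyco).symm
  have hyn : (cz y).relIndex (cz c) = n := by
    have h1 := Subgroup.relIndex_mul_index hyK
    rw [hysz, hcz, mul_comm m n] at h1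
    exact Nat.eq_of_mul_eq_mul_right h.m_pos h1
  have hyO : (⟨y, hy⟩ : cz c) ∈ pPrimeCore s (cz c) :=
    mem_of_coprime_of_isPGroup_quotient _ hO1 (by rwa [Subgroup.orderOf_mk])
  obtain ⟨hna, T, hT1, hT2, hT3, hT4⟩ := alpha1X hst h.hn htn (pPrimeCore s (cz c)) hO1 Q₀ Q₀.not_dvd_index
    (fun o ho x hx => hO2 Q₀ o ho x hx)
    (by
      intro e he'
      rw [hsidx]
      apply h.rel_cases hc0 e.2
      apply hcopst
      rw [Subgroup.orderOf_coe]
      have h2 : orderOf (⟨e, he'⟩ : pPrimeCore s (cz c)) ∣ Nat.card (pPrimeCore s (cz c)) := orderOf_dvd_natCard _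
      rw [Subgroup.orderOf_mk] at h2
      exact Nat.Coprime.coprime_dvd_left h2 (pPrimeCore_coprime s _))
    hyO (by rw [hsidx]; exact hyn) ⟨f, by rwa [Subgroup.orderOf_mk]⟩
  refine ⟨hna, T.map (cz c).subtype, ⟨map_subtype_le _, hT1.map _, ?_⟩, ⟨⟨y, hy⟩, hT3, rfl⟩, ?_⟩
  · have h1 : (T.map (cz c).subtype).relIndex (cz c) = T.index := by
      unfold relIndex subgroupOf
      rw [Subgroup.comap_map_eq_self_of_injective (cz c).subtype_injective]
    rwa [h1]
  · intro k hk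
    obtain ⟨τ, hτ, l, hl, hkl⟩ := hT4 ⟨k, hk⟩
    refine ⟨τ, ⟨τ, hτ, rfl⟩, l, l.2, ?_, congrArg Subtype.val hkl⟩
    rintro _ ⟨u, hu, rfl⟩
    exact congrArg Subtype.val (hl u hu)

theorem alpha {s t : ℕ} [hs : Fact s.Prime] [ht : Fact t.Prime] (hsm : s ∣ m) (htn : t ∣ n) {c y : G}
    (hcs : ∃ e, orderOf c = s ^ e) (hcz : (cz c).index = m) (hy : y ∈ cz c) (hyt : ∃ f, orderOf y = t ^ f)
    (hysz : (cz y).index = m * n) : False := by
  obtain ⟨⟨a, hna⟩, T, hT, hyT, hcov⟩ := h.alpha1 hsm htn hcs hcz hy hyt hysz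
  have hst : s ≠ t := by
    rintro rfl
    exact h.not_dvd_n hs.out hsm htn
  have htm : ¬ t ∣ m := fun hd => h.not_dvd_n ht.out hd htn
  have hc0 : c ∉ center G := by
    intro hc
    have := index_cz_eq_one_iff.2 hc
    have := h.hm
    omega
  have hcm : (t : ℕ).Coprime m := (Nat.Prime.coprime_iff_not_dvd ht.out).2 htm
  have hTidx : ¬ t ∣ T.index := by
    have h1 := Subgroup.relIndex_mul_index hT.1
    rw [← h1, hcz]
    intro hd
    rcases (Nat.Prime.dvd_mul ht.out).1 hd with h2 | h2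
    · exact hT.2.2 h2
    · exact htm h2
  have hTG : SylIn t T ⊤ := ⟨le_top, hT.2.1, by rwa [Subgroup.relIndex_top_right]⟩
  let T' : Sylow t G := hT.2.1.toSylow hTidx
  have hTord : ∀ u ∈ T, ∃ j, orderOf u = t ^ j := by
    intro u hu
    obtain ⟨k, hk⟩ := (IsPGroup.iff_orderOf.1 hT.2.1) ⟨u, hu⟩
    exact ⟨k, by rwa [Subgroup.orderOf_mk] at hk⟩
  obtain ⟨e, he⟩ := hcs
  have hTcoc : ∀ u ∈ T, (orderOf c).Coprime (orderOf u) := by
    intro u hu
    obtain ⟨j, hj⟩ := hTord u hu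
    rw [he, hj]
    exact Nat.Coprime.pow _ _ ((Nat.coprime_primes hs.out ht.out).2 hst)
  have hd : ∀ v ∈ cz c, (orderOf v).Coprime t → ∀ u ∈ T, u * v = v * u := by
    intro v hv hvo u hu
    obtain ⟨τ, hτ, l, hl, hlc, hvv⟩ := hcov v hv
    have hN : v ^ (Nat.card T) = l ^ (Nat.card T) := by
      have hcm' : Commute τ l := hlc τ hτ
      have h1 : τ ^ (Nat.card T) = 1 := by
        have h2 : ((⟨τ, hτ⟩ : T) ^ (Nat.card T) : T) = 1 := pow_card_eq_one'
        exact congrArg Subtype.val h2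
      rw [hvv, hcm'.mul_pow, h1, one_mul]
    have h1 : v ^ (Nat.card T) ∈ cz u := by
      rw [hN]
      apply Subgroup.pow_mem
      exact mem_cz.2 (hlc u hu).symm
    obtain ⟨f', hf'⟩ := IsPGroup.iff_card.1 hT.2.1
    have h2 := mem_of_pow_mem_of_coprime h1 (by rw [hf']; exact Nat.Coprime.pow_right _ hvo)
    exact (mem_cz.1 h2).symm
  have hrel : ∀ w ∈ T, (cz w).relIndex T = (cz w).relIndex (cz c) := by
    intro w hw
    apply relIndex_eq_of_cover hT.1
    intro k hk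
    obtain ⟨τ, hτ, l, hl, hlc, rfl⟩ := hcov k hk
    exact ⟨τ, hτ, l, mem_cz.2 (hlc w hw).symm, rfl⟩
  have hcardT : ∀ w ∈ T, (cz w).relIndex (cz c) = n → ∀ R : Subgroup G, R ≤ T → R ≤ cz w →
      Nat.card T ∣ Nat.card R * n → R = cz w ⊓ T := by
    intro w hw hwn R hRT hRw hdiv
    have h1 := Cfsg.Agent.Lib.PSolv.card_inf_mul_relIndex (cz w) T
    rw [hrel w hw, hwn] at h1
    rw [← h1] at hdiv
    have h2 := Nat.dvd_of_mul_dvd_mul_right h.n_pos hdiv
    exact Subgroup.eq_of_le_of_card_ge (le_inf hRw hRT) (Nat.le_of_dvd Nat.card_pos h2)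
  have hyn : (cz y).relIndex (cz c) = n := by
    have hcy : c ∈ cz y := mem_cz.2 (mem_cz.1 hy).symm
    have hyK : cz y ≤ cz c := h.cz_le_of_big hysz hcy (hTcoc y hyT).symm
    have h1 := Subgroup.relIndex_mul_index hyK
    rw [hysz, hcz, mul_comm m n] at h1
    exact Nat.eq_of_mul_eq_mul_right h.m_pos h1
  have key : ∀ (v : G) (R : Subgroup G), (orderOf v).Coprime t → SylIn t R (cz v) → R ≤ T → v ∈ cz c := by
    intro v R hvo hR hRT
    have hdiv : Nat.card T ∣ Nat.card R * n := by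
      have h1 := hTG.card
      have h2 := hR.card
      have h3 := Subgroup.card_mul_index (cz v)
      have h4 : (cz v).index ≠ 0 := Subgroup.index_ne_zero_of_finite
      have h5 : Nat.card (cz v) ≠ 0 := Nat.card_pos.ne'
      rw [Subgroup.card_top, ← h3, Nat.factorization_mul h5 h4, Finsupp.add_apply, pow_add, ← h2] at h1
      rw [h1]
      apply mul_dvd_mul_left
      have h6 : t ^ (cz v).index.factorization t ∣ (cz v).index := Nat.ordProj_dvd _ _
      have h7 : (cz v).index ∣ m * n := by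
        rcases h.hsz v with h8 | h8 | h8 <;> rw [h8]
        · exact one_dvd _
        · exact dvd_mul_right _ _
      exact Nat.Coprime.dvd_of_dvd_mul_left (Nat.Coprime.pow_left _ hcm) (h6.trans h7)
    by_cases hRb : ∃ y' ∈ R, (cz y').index = m * n
    · obtain ⟨y', hy'R, hy'⟩ := hRb
      have h1 : v ∈ cz y' := mem_cz.2 (mem_cz.1 (hR.1 hy'R)).symm
      obtain ⟨j, hj⟩ := hTord y' (hRT hy'R)
      have h2 := h.cz_le_of_big hy' h1 (by rw [hj]; exact Nat.Coprime.pow_left _ hvo.symm)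
      have h3 : c ∈ cz y' := mem_cz.2 (mem_cz.1 (hT.1 (hRT hy'R))).symm
      have h4 := h2 h3
      exact mem_cz.2 (mem_cz.1 h4).symm
    push Not at hRb
    have hRZ : ∀ r ∈ R, r ∈ Zf G := by
      intro r hr
      obtain ⟨j, hj⟩ := hTord r (hRT hr)
      apply h.mem_Zf
      · rw [hj]
        exact Nat.Coprime.pow_left _ hcm
      · rcases h.hsz r with h8 | h8 | h8
        · rw [h8]
          exact one_dvd _
        · rw [h8]
        · exact absurd h8 (hRb r hr)
    by_cases hRy : R ≤ cz y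
    · exfalso
      have h1 := hcardT y hyT hyn R hRT hRy hdiv
      have h2 : y ∈ R := by
        rw [h1]
        exact ⟨mem_cz.2 rfl, hyT⟩
      exact hRb y h2 hysz
    obtain ⟨r, hrR, hry⟩ := Set.not_subset.1 hRy
    have hrT := hRT hrR
    have hrc : r ∉ center G := fun hc => hry (mem_cz.2 (Subgroup.mem_center_iff.1 hc y).symm)
    have hrel1 : (cz r).relIndex (cz c) ≠ 1 := by
      intro h1
      have h2 := Subgroup.relIndex_eq_one.1 h1
      exact hry (mem_cz.2 (mem_cz.1 (h2 hy)).symm)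
    have hreln : (cz r).relIndex (cz c) = n :=
      (h.rel_cases hc0 (hT.1 hrT) (hTcoc r hrT)).resolve_left hrel1
    have hRr : R ≤ cz r := fun u hu => mem_cz.2 (Zf_comm (hRZ u hu) (hRZ r hrR))
    have hReq := hcardT r hrT hreln R hRT hRr hdiv
    have hrsz : (cz r).index = m := (h.index_ne_one_cases hrc).resolve_right (hRb r hrR)
    have hnd : ¬ t ∣ (cz r).index := by
      rw [hrsz]
      exact htm
    obtain ⟨Q, hQ⟩ := Cfsg.Agent.Lib.PSolv.exists_sylow_le_of_not_dvd_index hnd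
    obtain ⟨g, hg⟩ := MulAction.exists_smul_eq G T' Q
    have hz : ∀ u ∈ T, u * (g⁻¹ * r * g) = (g⁻¹ * r * g) * u := by
      intro u hu
      have h4 : MulAut.conj g • u ∈ MulAut.conj g • (T' : Subgroup G) :=
        Subgroup.smul_mem_pointwise_smul _ _ _ hu
      have h5 : (MulAut.conj g • (T' : Subgroup G) : Subgroup G) = (Q : Subgroup G) := by
        rw [← hg]
        rfl
      rw [h5] at h4
      have h7 : g * u * g⁻¹ * r = r * (g * u * g⁻¹) := mem_cz.1 (hQ h4)
      calc u * (g⁻¹ * r * g) = g⁻¹ * ((g * u * g⁻¹) * r) * g := by group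
        _ = g⁻¹ * (r * (g * u * g⁻¹)) * g := by rw [h7]
        _ = _ := by group
    have hzZf : g⁻¹ * r * g ∈ Zf G := by
      have := (inferInstance : (Zf G).Normal).conj_mem r (hRZ r hrR) g⁻¹
      simpa using this
    have hzc : g⁻¹ * r * g = g⁻¹ * r * g⁻¹⁻¹ := by simp
    have hzord : ∃ k, orderOf (g⁻¹ * r * g) = t ^ k := by
      obtain ⟨j, hj⟩ := hTord r hrT
      refine ⟨j, ?_⟩
      rw [hzc, order_conj_eq, hj]
    have hzT : g⁻¹ * r * g ∈ T :=
      hTG.mem_of_comm (mem_top _) hzord hz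
    have hzR : g⁻¹ * r * g ∈ R := by
      rw [hReq]
      exact ⟨mem_cz.2 (Zf_comm hzZf (hRZ r hrR)), hzT⟩
    have hvz : v ∈ cz (g⁻¹ * r * g) := mem_cz.2 (mem_cz.1 (hR.1 hzR)).symm
    have hKz : cz c ≤ cz (g⁻¹ * r * g) := by
      intro k hk
      obtain ⟨τ, hτ, l, hl, hlc, rfl⟩ := hcov k hk
      apply mem_cz.2
      have h1 := hz τ hτ
      have h2 := hlc _ hzT
      calc τ * l * (g⁻¹ * r * g) = τ * (l * (g⁻¹ * r * g)) := by group
        _ = τ * ((g⁻¹ * r * g) * l) := by rw [h2]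
        _ = (τ * (g⁻¹ * r * g)) * l := by group
        _ = ((g⁻¹ * r * g) * τ) * l := by rw [h1]
        _ = _ := by group
    have hidx : (cz (g⁻¹ * r * g)).index = m := by
      rw [hzc, index_cz_conj, hrsz]
    have heq := eq_of_le_of_index_eq hKz (hcz.trans hidx.symm)
    rw [heq]
    exact hvz
  have hall : ∀ w : G, (orderOf w).Coprime t → ∃ Q : Sylow t G, ∀ x ∈ (Q : Subgroup G), x * w = w * x := by
    intro w hw
    obtain ⟨R, hR⟩ := exists_sylIn (p := t) (cz w)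
    obtain ⟨R₁, hR₁, hRR₁⟩ := exists_sylIn_ge hR.2.1 (le_top : R ≤ ⊤)
    obtain ⟨g, -, hg⟩ := sylIn_conj hR₁ hTG
    have hw' : (orderOf (g * w * g⁻¹)).Coprime t := by rwa [order_conj_eq]
    have hR₂ : SylIn t (R.map (MulAut.conj g).toMonoidHom) (cz (g * w * g⁻¹)) := by
      apply sylIn_of_card
      · rintro _ ⟨x, hx, rfl⟩
        apply mem_cz.2
        have h1 := mem_cz.1 (hR.1 hx)
        show g * x * g⁻¹ * (g * w * g⁻¹) = g * w * g⁻¹ * (g * x * g⁻¹)
        calc g * x * g⁻¹ * (g * w * g⁻¹) = g * (x * w) * g⁻¹ := by group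
          _ = g * (w * x) * g⁻¹ := by rw [h1]
          _ = _ := by group
      · exact hR.2.1.map _
      · rw [Subgroup.card_map_of_injective (MulAut.conj g).injective, hR.card]
        congr 2
        have h1 := Subgroup.card_mul_index (cz w)
        have h2 := Subgroup.card_mul_index (cz (g * w * g⁻¹))
        rw [index_cz_conj] at h2
        rw [← h1] at h2
        have h3 : 0 < (cz w).index := Nat.pos_of_ne_zero Subgroup.index_ne_zero_of_finite
        rw [Nat.eq_of_mul_eq_mul_right h3 h2]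
    have hR₂T : R.map (MulAut.conj g).toMonoidHom ≤ T := by
      rintro _ ⟨x, hx, rfl⟩
      exact (hg x).1 (hRR₁ hx)
    have hk := key _ _ hw' hR₂ hR₂T
    have hcomm := hd _ hk hw'
    refine ⟨g⁻¹ • T', fun x hx => ?_⟩
    have h5 : ((g⁻¹ • T' : Sylow t G) : Subgroup G) = MulAut.conj g⁻¹ • (T' : Subgroup G) := rfl
    rw [h5, Subgroup.mem_pointwise_smul_iff_inv_smul_mem] at hx
    have h6 : g * x * g⁻¹ ∈ T := by
      have h7 : (MulAut.conj g⁻¹)⁻¹ • x = g * x * g⁻¹ := by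
        rw [← map_inv, inv_inv]
        rfl
      rw [h7] at hx
      exact hx
    have h8 := hcomm _ h6
    calc x * w = g⁻¹ * ((g * x * g⁻¹) * (g * w * g⁻¹)) * g := by group
      _ = g⁻¹ * ((g * w * g⁻¹) * (g * x * g⁻¹)) * g := by rw [h8]
      _ = _ := by group
  haveI := h.solvable
  obtain ⟨hO1, hO2⟩ := direct (X := G) (p := t) hall
  obtain ⟨S⟩ : Nonempty (Sylow s G) := inferInstance
  have hSy : (S : Subgroup G) ≤ cz y := by
    intro u hu
    have huo : (orderOf u).Coprime t := by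
      obtain ⟨k, hk⟩ := (IsPGroup.iff_orderOf.1 S.2) ⟨u, hu⟩
      rw [Subgroup.orderOf_mk] at hk
      rw [hk]
      exact Nat.Coprime.pow_left _ ((Nat.coprime_primes hs.out ht.out).2 hst)
    have huO := mem_of_coprime_of_isPGroup_quotient _ hO1 huo
    exact mem_cz.2 (hO2 T' u huO y hyT).symm
  exact Cfsg.Agent.Lib.PSolv.not_dvd_index_of_sylow_le S hSy (by
    rw [hysz]
    exact hsm.trans (dvd_mul_right _ _))

end Hyp

end Cfsg.Agent.Lib.ClassSizes.CMN
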