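import Mathlib
import Cfsg.Agent.Lib.ClassSizes.CMN3

/-! The class size pattern `{1, m, mn}`: elements of prime power order, the prime dividing `n`,
have size dividing `m`. -/

set_option autoImplicit false
set_option linter.style.haveILetI false

namespace Cfsg.Agent.Lib.ClassSizes.CMN

open Subgroup Cfsg Cfsg.Agent.Lib.Core
open scoped Pointwise

variable {G : Type*} [Group G] [Finite G]

/-- A `t`-element is conjugate into a subgroup of index prime to `t`. -/
theorem exists_conj_mem_of_not_dvd {t : ℕ} [ht : Fact t.Prime] {H : Subgroup G} (hH : ¬ t ∣ H.index) {y : G}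
    (hy : ∃ f, orderOf y = t ^ f) : ∃ g, g * y * g⁻¹ ∈ H := by
  obtain ⟨f, hf⟩ := hy
  have h1 : IsPGroup t (zpowers y) := by
    apply IsPGroup.of_card (n := f)
    rw [Nat.card_zpowers, hf]
  obtain ⟨Q₁, hQ₁⟩ := h1.exists_le_sylow
  obtain ⟨Q, hQ⟩ := Cfsg.Agent.Lib.PSolv.exists_sylow_le_of_not_dvd_index hH
  obtain ⟨g, hg⟩ := MulAction.exists_smul_eq G Q₁ Q
  refine ⟨g, hQ ?_⟩
  have h4 : MulAut.conj g • y ∈ MulAut.conj g • (Q₁ : Subgroup G) :=
    Subgroup.smul_mem_pointwise_smul _ _ _ (hQ₁ (mem_zpowers y))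
  have h5 : (MulAut.conj g • (Q₁ : Subgroup G) : Subgroup G) = (Q : Subgroup G) := by
    rw [← hg]
    rfl
  rw [h5] at h4
  exact h4

theorem eq_one_of_order_coprime {s : ℕ} {x : G} (h1 : (orderOf x).Coprime s) (h2 : ∃ k, orderOf x = s ^ k) :
    x = 1 := by
  obtain ⟨k, hk⟩ := h2
  have h3 : (orderOf x).Coprime (s ^ k) := Nat.Coprime.pow_right _ h1
  rw [hk] at h3
  rw [← orderOf_eq_one_iff, hk]
  exact Nat.coprime_self _ |>.1 h3

namespace Hyp

variable {m n : ℕ} (h : Hyp G m n)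
include h

theorem caseA {r t : ℕ} [hr : Fact r.Prime] [ht : Fact t.Prime] (hrn : r ∣ n) (htn : t ∣ n) {z y : G} {i f : ℕ}
    (hzr : orderOf z = r ^ i) (hz0 : z ∉ center G) (hzsz : (cz z).index = m) (hy : y ∈ cz z)
    (hyt : orderOf y = t ^ f) (hysz : (cz y).index = m * n) : False := by
  haveI := h.solvable
  obtain ⟨s, hsp, hsm⟩ := Nat.exists_prime_and_dvd h.hm.ne'
  haveI hs : Fact s.Prime := ⟨hsp⟩
  have hsn := h.not_dvd_n hsp hsm
  have hrm : ¬ r ∣ m := fun hd => h.not_dvd_n hr.out hd hrn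
  have hsr : r ≠ s := by
    rintro rfl
    exact hrm hsm
  have hst : t ≠ s := by
    rintro rfl
    exact hsn htn
  have hy0 : y ∉ center G := by
    intro hc
    have := index_cz_eq_one_iff.2 hc
    have hm := h.hm
    have hn := h.hn
    have : 1 < m * n := by nlinarith
    omega
  -- the normal part
  have hN₁ : ((Zt G (n ^ Nat.card G)).subgroupOf (cz z)) ≤ pPrimeCore s (cz z) := by
    apply le_pPrimeCore inferInstance
    refine ((Nat.Prime.coprime_iff_not_dvd hsp).2 fun hd => ?_).symm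
    obtain ⟨u, hu⟩ := exists_prime_orderOf_dvd_card' (p := s) hd
    have h1 := (mem_Zt.1 u.2).2
    have h2 : orderOf ((u : cz z) : G) = s := by
      rw [Subgroup.orderOf_coe, Subgroup.orderOf_coe, hu]
    have h3 : orderOf ((u : cz z) : G) ∣ n ^ Nat.card G := orderOf_dvd_of_pow_eq_one h1
    rw [h2] at h3
    exact hsn (hsp.dvd_of_dvd_pow h3)
  have hO : IsPGroup s ((cz z) ⧸ pPrimeCore s (cz z)) := by
    apply isPGroup_quotient_pPrimeCore _ hN₁
    rintro q j w hq hqs ho hwN
    have ho' : orderOf (w : G) = q ^ j := by rwa [Subgroup.orderOf_coe]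
    by_cases hqr : q = r
    · subst hqr
      by_cases hwb : (cz (w : G)).index = m * n
      · have hw0 : (w : G) ∉ center G := by
          intro hc
          have := index_cz_eq_one_iff.2 hc
          have hm := h.hm
          have hn := h.hn
          have : 1 < m * n := by nlinarith
          omega
        obtain ⟨S, hS⟩ := exists_sylIn (p := s) (cz (w : G))
        have hSD : S ≤ cz z := by
          intro b hb
          obtain ⟨k, hk⟩ := (IsPGroup.iff_orderOf.1 hS.2.1) ⟨b, hb⟩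
          rw [Subgroup.orderOf_mk] at hk
          have h1 := h.cz_le_of_big hwb (hS.1 hb) (by
            rw [ho', hk]
            exact Nat.Coprime.pow _ _ ((Nat.coprime_primes hq hsp).2 hqs))
          have h2 : z ∈ cz (w : G) := mem_cz.2 (mem_cz.1 w.2).symm
          exact mem_cz.2 (mem_cz.1 (h1 h2)).symm
        have hSy : SylIn s S (cz z) := by
          apply sylIn_of_card hSD hS.2.1
          rw [hS.card, h.fact_eq hsp hsm hw0 hz0]
        refine ⟨hSy.toSylow, fun x hx => ?_⟩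
        have hx' : (x : G) ∈ S := hx
        exact Subtype.ext (mem_cz.1 (hS.1 hx'))
      · exfalso
        apply hwN
        rw [Subgroup.mem_subgroupOf]
        refine mem_Zt.2 ⟨h.mem_Zf ?_ ?_, ?_⟩
        · rw [ho']
          exact Nat.Coprime.pow_left _ ((Nat.Prime.coprime_iff_not_dvd hr.out).2 hrm)
        · rcases h.hsz (w : G) with h8 | h8 | h8
          · rw [h8]
            exact one_dvd _
          · rw [h8]
          · exact absurd h8 hwb
        · have h1 : orderOf (w : G) ∣ n ^ Nat.card G := by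
            rw [ho']
            have hj : j ≤ Nat.card G := by
              have h2 : q ^ j ∣ Nat.card G := by
                rw [← ho']
                exact orderOf_dvd_natCard _
              have h3 : q ^ j ≤ Nat.card G := Nat.le_of_dvd Nat.card_pos h2
              exact (Nat.lt_pow_self hq.one_lt).le.trans h3
            exact (pow_dvd_pow q hj).trans (pow_dvd_pow_of_dvd hrn _)
          rw [← orderOf_dvd_iff_pow_eq_one]
          exact h1
    · have hco : (orderOf z).Coprime (orderOf (w : G)) := by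
        rw [hzr, ho']
        exact Nat.Coprime.pow _ _ ((Nat.coprime_primes hr.out hq).2 (Ne.symm hqr))
      have hd := h.not_dvd_rel hsp hsm hz0 w.2 hco
      obtain ⟨S, hS, hSw⟩ := exists_sylIn_le_of_not_dvd hd
      refine ⟨hS.toSylow, fun x hx => ?_⟩
      have hx' : (x : G) ∈ S := hx
      exact Subtype.ext (mem_cz.1 (hSw hx'))
  -- Sylow `s`-subgroup of `C(y)`
  obtain ⟨S_y, hSy⟩ := exists_sylIn (p := s) (cz y)
  have hSord : ∀ b ∈ S_y, ∃ k, orderOf b = s ^ k := by
    intro b hb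
    obtain ⟨k, hk⟩ := (IsPGroup.iff_orderOf.1 hSy.2.1) ⟨b, hb⟩
    exact ⟨k, by rwa [Subgroup.orderOf_mk] at hk⟩
  have hSbig : ∀ b ∈ S_y, cz y ≤ cz b := by
    intro b hb
    obtain ⟨k, hk⟩ := hSord b hb
    apply h.cz_le_of_big hysz (hSy.1 hb)
    rw [hyt, hk]
    exact Nat.Coprime.pow _ _ ((Nat.coprime_primes ht.out hsp).2 hst)
  have hzy : z ∈ cz y := mem_cz.2 (mem_cz.1 hy).symm
  have hSD : S_y ≤ cz z := fun b hb => mem_cz.2 (mem_cz.1 (hSbig b hb hzy)).symm
  have hSyD : SylIn s S_y (cz z) := by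
    apply sylIn_of_card hSD hSy.2.1
    rw [hSy.card, h.fact_eq hsp hsm hy0 hz0]
  -- Sylow `t`-subgroup of `C(z)`
  have hzpow : IsPGroup t (zpowers y) := by
    apply IsPGroup.of_card (n := f)
    rw [Nat.card_zpowers, hyt]
  obtain ⟨T, hT, hyT⟩ := exists_sylIn_ge hzpow ((zpowers_le.2 hy) : zpowers y ≤ cz z)
  have hyT' : y ∈ T := hyT (mem_zpowers y)
  have hTord : ∀ u ∈ T, ∃ k, orderOf u = t ^ k := by
    intro u hu
    obtain ⟨k, hk⟩ := (IsPGroup.iff_orderOf.1 hT.2.1) ⟨u, hu⟩
    exact ⟨k, by rwa [Subgroup.orderOf_mk] at hk⟩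
  -- normalizer growth
  have hTc : T ≤ centralizer (S_y : Set G) := by
    by_contra hne
    have hYlt : (centralizer (S_y : Set G)).subgroupOf T < ⊤ := by
      refine lt_top_iff_ne_top.2 fun hYt => hne fun u hu => ?_
      have h1 : (⟨u, hu⟩ : T) ∈ (centralizer (S_y : Set G)).subgroupOf T := hYt ▸ mem_top _
      exact h1
    haveI : Group.IsNilpotent T := hT.2.1.isNilpotent
    have hnc := normalizerCondition_of_isNilpotent (G := T) _ hYlt
    obtain ⟨g, hgN, hgY⟩ := SetLike.exists_of_lt hnc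
    have hgD : (g : G) ∈ cz z := hT.1 g.2
    rw [Subgroup.mem_normalizer_iff] at hgN
    have hyY : (⟨y, hyT'⟩ : T) ∈ (centralizer (S_y : Set G)).subgroupOf T := by
      rw [Subgroup.mem_subgroupOf, Subgroup.mem_centralizer_iff]
      intro b hb
      exact mem_cz.1 (hSy.1 hb)
    have hy2 : g⁻¹ * (⟨y, hyT'⟩ : T) * g ∈ (centralizer (S_y : Set G)).subgroupOf T := by
      rw [hgN]
      have : g * (g⁻¹ * (⟨y, hyT'⟩ : T) * g) * g⁻¹ = (⟨y, hyT'⟩ : T) := by group
      rw [this]
      exact hyY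
    rw [Subgroup.mem_subgroupOf, Subgroup.mem_centralizer_iff] at hy2
    apply hgY
    rw [Subgroup.mem_subgroupOf, Subgroup.mem_centralizer_iff]
    intro b hb
    have hbD := hSD hb
    have h1 : b * ((g : G)⁻¹ * y * g) = ((g : G)⁻¹ * y * g) * b := hy2 b hb
    have hb' : (g : G) * b * (g : G)⁻¹ ∈ S_y := by
      apply hSy.mem_of_comm
      · apply mem_cz.2
        calc (g : G) * b * (g : G)⁻¹ * y = g * (b * ((g : G)⁻¹ * y * g)) * (g : G)⁻¹ := by group
          _ = g * (((g : G)⁻¹ * y * g) * b) * (g : G)⁻¹ := by rw [h1]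
          _ = _ := by group
      · obtain ⟨k, hk⟩ := hSord b hb
        exact ⟨k, by rw [order_conj_eq, hk]⟩
      · intro x hx
        have h2 : (g : G) * b * (g : G)⁻¹ ∈ cz y := by
          apply mem_cz.2
          calc (g : G) * b * (g : G)⁻¹ * y = g * (b * ((g : G)⁻¹ * y * g)) * (g : G)⁻¹ := by group
            _ = g * (((g : G)⁻¹ * y * g) * b) * (g : G)⁻¹ := by rw [h1]
            _ = _ := by group
        exact (mem_cz.1 (hSbig x hx h2)).symm
    have hc1S : (g : G) * b * (g : G)⁻¹ * b⁻¹ ∈ S_y := S_y.mul_mem hb' (S_y.inv_mem hb)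
    have hgO : (⟨g, hgD⟩ : cz z) ∈ pPrimeCore s (cz z) := by
      apply mem_of_coprime_of_isPGroup_quotient _ hO
      rw [Subgroup.orderOf_mk]
      obtain ⟨k, hk⟩ := hTord g g.2
      rw [hk]
      exact Nat.Coprime.pow_left _ ((Nat.coprime_primes ht.out hsp).2 hst)
    have hc1O : (⟨g, hgD⟩ : cz z) * ((⟨b, hbD⟩ : cz z) * (⟨g, hgD⟩ : cz z)⁻¹ * (⟨b, hbD⟩ : cz z)⁻¹) ∈
        pPrimeCore s (cz z) :=
      (pPrimeCore s (cz z)).mul_mem hgO ((pPrimeCore_normal s (cz z)).conj_mem _
        ((pPrimeCore s (cz z)).inv_mem hgO) _)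
    have hc1co : (orderOf ((g : G) * b * (g : G)⁻¹ * b⁻¹)).Coprime s := by
      have h2 : orderOf ((⟨_, hc1O⟩ : pPrimeCore s (cz z))) ∣ Nat.card (pPrimeCore s (cz z)) :=
        orderOf_dvd_natCard _
      rw [Subgroup.orderOf_mk] at h2
      have h3 : (((⟨g, hgD⟩ : cz z) * ((⟨b, hbD⟩ : cz z) * (⟨g, hgD⟩ : cz z)⁻¹ * (⟨b, hbD⟩ : cz z)⁻¹) : cz z) : G) =
          (g : G) * b * (g : G)⁻¹ * b⁻¹ := by
        simp only [Subgroup.coe_mul, Subgroup.coe_inv]
        group
      rw [← h3, Subgroup.orderOf_coe]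
      exact Nat.Coprime.coprime_dvd_left h2 (pPrimeCore_coprime s _)
    have hc1 := eq_one_of_order_coprime hc1co (hSord _ hc1S)
    have h3 : (g : G) * b * (g : G)⁻¹ = b := mul_inv_eq_one.1 hc1
    exact (mul_inv_eq_iff_eq_mul.1 h3).symm
  -- finishing
  obtain ⟨c, hcS, hcc⟩ := Set.not_subset.1 (h.sylIn_not_central hsm hy0 hSy)
  obtain ⟨k, hk⟩ := hSord c hcS
  have hTcc : T ≤ cz c := fun u hu => mem_cz.2 ((Subgroup.mem_centralizer_iff.1 (hTc hu)) c hcS).symm
  have hrelc : (cz c).relIndex (cz z) = 1 := by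
    have hco : (orderOf z).Coprime (orderOf c) := by
      rw [hzr, hk]
      exact Nat.Coprime.pow _ _ ((Nat.coprime_primes hr.out hsp).2 hsr)
    rcases h.rel_cases hz0 (hSD hcS) hco with h1 | h1
    · exact h1
    · exfalso
      have h2 : (cz c).relIndex (cz z) ∣ T.relIndex (cz z) := Subgroup.relIndex_dvd_of_le_left _ hTcc
      rw [h1] at h2
      exact hT.2.2 (htn.trans h2)
  have hDc : cz z ≤ cz c := Subgroup.relIndex_eq_one.1 hrelc
  have hcsz : (cz c).index = m := by
    have hd : (cz c).index ∣ m := hzsz ▸ Subgroup.index_dvd_of_le hDc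
    rcases h.index_ne_one_cases hcc with h1 | h1
    · exact h1
    · exfalso
      rw [h1] at hd
      have hm := h.hm
      have hn := h.hn
      have h2 := Nat.le_of_dvd (by omega) hd
      nlinarith
  exact h.alpha hsm htn ⟨k, hk⟩ hcsz (hDc hy) ⟨f, hyt⟩ hysz

/-- Elements of `t`-power order, `t ∣ n`, have size dividing `m`. -/
theorem tau_small {t : ℕ} [ht : Fact t.Prime] (htn : t ∣ n) {y : G} (hyt : ∃ f, orderOf y = t ^ f) :
    (cz y).index ≠ m * n := by
  intro hysz
  have htm : ¬ t ∣ m := fun hd => h.not_dvd_n ht.out hd htn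
  by_cases hA : ∃ (r i : ℕ) (z : G), r.Prime ∧ r ∣ n ∧ orderOf z = r ^ i ∧ z ∉ center G ∧ (cz z).index ≠ m * n
  · obtain ⟨r, i, z, hr, hrn, hzr, hz0, hzsz⟩ := hA
    haveI : Fact r.Prime := ⟨hr⟩
    have hzm : (cz z).index = m := (h.index_ne_one_cases hz0).resolve_right hzsz
    obtain ⟨g, hg⟩ := exists_conj_mem_of_not_dvd (H := cz z) (by rw [hzm]; exact htm) hyt
    obtain ⟨f, hf⟩ := hyt
    exact h.caseA hrn htn hzr hz0 hzm hg (f := f) (by rw [order_conj_eq, hf]) (by rw [index_cz_conj, hysz])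
  · push Not at hA
    obtain ⟨x, hx⟩ := h.hexm
    obtain ⟨i, r, j, hr, ho, hi, -, hidx⟩ := h.exists_primary hx
    haveI : Fact r.Prime := ⟨hr⟩
    have hrm : r ∣ m := by
      by_contra hrm
      by_cases hrn : r ∣ n
      · have h1 := hA r j _ hr hrn ho hi
        rw [hidx] at h1
        have h2 : m * 1 = m * n := by rw [mul_one]; exact h1
        have h3 := Nat.eq_of_mul_eq_mul_left h.m_pos h2
        exact h.n_ne_one h3.symm
      · have h1 := h.prime_dvd hrm hrn
        have hj : j ≠ 0 := by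
          rintro rfl
          rw [pow_zero, orderOf_eq_one_iff] at ho
          rw [ho] at hi
          exact hi (center G).one_mem
        apply h1
        have h2 : r ^ j ∣ Nat.card G := ho ▸ orderOf_dvd_natCard _
        exact (dvd_pow_self r hj).trans h2
    obtain ⟨g, hg⟩ := exists_conj_mem_of_not_dvd (H := cz (x ^ i)) (by rw [hidx]; exact htm) hyt
    obtain ⟨f, hf⟩ := hyt
    exact h.alpha hrm htn ⟨j, ho⟩ hidx hg ⟨f, by rw [order_conj_eq, hf]⟩ (by rw [index_cz_conj, hysz])

end Hyp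

end Cfsg.Agent.Lib.ClassSizes.CMN
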