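import Mathlib
import Cfsg.Agent.Lib.ClassSizes.CMN3

/-! A `p`-group acting on an abelian `p'`-group with prescribed stabilizers. -/

set_option autoImplicit false
set_option linter.style.haveILetI false

namespace Cfsg.Agent.Lib.ClassSizes.CMN

open Subgroup Cfsg Cfsg.Agent.Lib.Core

section PowerTrick

variable {X : Type*} [Group X]

theorem comm_conj_central {v g : X} (hg : v * g * v⁻¹ * g⁻¹ ∈ center X) (u : X) :
    u * (v * g * v⁻¹ * g⁻¹) = (v * g * v⁻¹ * g⁻¹) * u := Subgroup.mem_center_iff.1 hg u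

theorem power_trick [Finite X] {p : ℕ} (hX : IsPGroup p X) (v : X)
    (hv : ∀ g, v * g * v⁻¹ * g⁻¹ ∈ center X) (hvne : v ∉ center X)
    (hdich : v ^ p ∉ center X → ∀ g, g * v ^ p = v ^ p * g → g ∈ cz v) :
    (∀ g, g ^ p ∈ cz v) ∧ ∀ g h, g * h * g⁻¹ * h⁻¹ ∈ cz v := by
  let θ : X → X := fun g => v * g * v⁻¹ * g⁻¹
  have hθc : ∀ g u, u * θ g = θ g * u := fun g u => Subgroup.mem_center_iff.1 (hv g) u
  have hθmul : ∀ g h, θ (g * h) = θ g * θ h := by
    intro g h
    have h1 : θ (g * h) = θ g * (g * θ h * g⁻¹) := by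
      show v * (g * h) * v⁻¹ * (g * h)⁻¹ = (v * g * v⁻¹ * g⁻¹) * (g * (v * h * v⁻¹ * h⁻¹) * g⁻¹)
      group
    rw [h1, hθc h g]
    group
  have hθone : θ 1 = 1 := by
    show v * 1 * v⁻¹ * 1⁻¹ = 1
    group
  have hθpow : ∀ g (k : ℕ), θ (g ^ k) = θ g ^ k := by
    intro g k
    induction k with
    | zero => simpa using hθone
    | succ k ih => rw [pow_succ, hθmul, ih, pow_succ]
  have hθinv : ∀ g, θ g⁻¹ = (θ g)⁻¹ := by
    intro g
    have h1 := hθmul g⁻¹ g
    rw [inv_mul_cancel, hθone] at h1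
    exact eq_inv_of_mul_eq_one_left h1.symm
  have hvk : ∀ g (k : ℕ), v ^ k * g * (v ^ k)⁻¹ * g⁻¹ = θ g ^ k := by
    intro g k
    induction k with
    | zero => simp
    | succ k ih =>
      have h1 : v ^ (k + 1) * g * (v ^ (k + 1))⁻¹ * g⁻¹ =
          v * (v ^ k * g * (v ^ k)⁻¹ * g⁻¹) * g * v⁻¹ * g⁻¹ := by
        rw [pow_succ']
        group
      rw [h1, ih]
      have h2 : ∀ (z : X) (k : ℕ), z * θ g ^ k = θ g ^ k * z := by
        intro z k
        exact (Commute.pow_right (show Commute z (θ g) from hθc g z) k).eq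
      rw [h2 v k, pow_succ]
      show θ g ^ k * v * g * v⁻¹ * g⁻¹ = θ g ^ k * (v * g * v⁻¹ * g⁻¹)
      group
  have hmem : ∀ g, g ∈ cz v ↔ θ g = 1 := by
    intro g
    rw [mem_cz']
    show v * g = g * v ↔ v * g * v⁻¹ * g⁻¹ = 1
    constructor
    · intro h
      rw [h]
      group
    · intro h
      have h1 : v * g * v⁻¹ = g := mul_inv_eq_one.1 h
      exact mul_inv_eq_iff_eq_mul.1 h1
  have hvp : v ^ p ∈ center X := by
    by_contra hnc
    have hd := hdich hnc
    obtain ⟨g₀, hg₀⟩ : ∃ g, g ∉ cz v := by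
      by_contra hcon
      push Not at hcon
      apply hvne
      rw [Subgroup.mem_center_iff]
      intro g
      exact mem_cz.1 (hcon g)
    have h1 : ∀ k : ℕ, g₀ ^ (p ^ k) ∉ cz v := by
      intro k
      induction k with
      | zero => simpa using hg₀
      | succ k ih =>
        intro hk
        apply ih
        apply hd
        -- the `p`-th commutator is trivial
        have h2 : (g₀ ^ (p ^ k)) ^ p ∈ cz v := by
          rw [← pow_mul, ← pow_succ]
          exact hk
        rw [hmem, hθpow, ← hvk] at h2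
        have h3 : v ^ p * g₀ ^ (p ^ k) * (v ^ p)⁻¹ = g₀ ^ (p ^ k) := mul_inv_eq_one.1 h2
        exact (mul_inv_eq_iff_eq_mul.1 h3).symm
    obtain ⟨k, hk⟩ := hX g₀
    apply h1 k
    rw [hk]
    exact (cz v).one_mem
  constructor
  · intro g
    rw [hmem, hθpow, ← hvk]
    have h1 : v ^ p * g = g * v ^ p := (Subgroup.mem_center_iff.1 hvp g).symm
    rw [h1]
    group
  · intro g h
    rw [hmem, hθmul, hθmul, hθmul, hθinv, hθinv]
    have h1 : θ h * (θ g)⁻¹ = (θ g)⁻¹ * θ h := by
      have := hθc g (θ h)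
      have h2 : Commute (θ h) (θ g) := this
      exact h2.inv_right.eq
    calc θ g * θ h * (θ g)⁻¹ * (θ h)⁻¹ = θ g * (θ h * (θ g)⁻¹) * (θ h)⁻¹ := by group
      _ = θ g * ((θ g)⁻¹ * θ h) * (θ h)⁻¹ := by rw [h1]
      _ = 1 := by group

theorem exists_z2 [Finite X] {p : ℕ} [hp : Fact p.Prime] (hX : IsPGroup p X) (R : Subgroup X) [hR : R.Normal]
    (hRc : ¬ R ≤ center X) : ∃ v ∈ R, v ∉ center X ∧ ∀ g, v * g * v⁻¹ * g⁻¹ ∈ center X := by
  let π := QuotientGroup.mk' (center X)
  have hsurj : Function.Surjective π := QuotientGroup.mk'_surjective _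
  haveI : Group.IsNilpotent (X ⧸ center X) := by
    have : IsPGroup p (X ⧸ center X) := hX.to_quotient _
    exact this.isNilpotent
  have hN : R.map π ≠ ⊥ := by
    intro hb
    apply hRc
    intro r hr
    have h1 : π r ∈ R.map π := ⟨r, hr, rfl⟩
    rw [hb, Subgroup.mem_bot] at h1
    exact (QuotientGroup.eq_one_iff r).1 h1
  haveI hNn : (R.map π).Normal := hR.map π hsurj
  have h1 := normal_inf_center_ne_bot (R.map π) hN
  rcases (R.map π ⊓ center (X ⧸ center X)).bot_or_exists_ne_one with h2 | ⟨w, hw, hw1⟩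
  · exact absurd h2 h1
  obtain ⟨v, hvR, rfl⟩ := (Subgroup.mem_inf.1 hw).1
  refine ⟨v, hvR, fun hc => hw1 ((QuotientGroup.eq_one_iff v).2 hc), fun g => ?_⟩
  rw [← QuotientGroup.eq_one_iff]
  have h3 : π v * π g = π g * π v := (Subgroup.mem_center_iff.1 (Subgroup.mem_inf.1 hw).2 (π g)).symm
  have h4 : π (v * g * v⁻¹ * g⁻¹) = 1 := by
    rw [map_mul, map_mul, map_mul, map_inv, map_inv, h3]
    group
  exact h4

end PowerTrick

section Action

variable {X : Type*} [Group X] {A : Type*} [CommGroup A] (φ : X →* MulAut A)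

theorem apply_mul_apply (u v : X) (a : A) : φ (u * v) a = φ u (φ v a) := by
  rw [map_mul]
  rfl

theorem apply_one_apply (a : A) : φ 1 a = a := by
  rw [map_one]
  rfl

/-- The stabilizer of a point. -/
def St (a : A) : Subgroup X where
  carrier := {u | φ u a = a}
  mul_mem' := by
    intro u v hu hv
    show φ (u * v) a = a
    rw [apply_mul_apply, show φ v a = a from hv]
    exact hu
  one_mem' := apply_one_apply φ a
  inv_mem' := by
    intro u hu
    show φ u⁻¹ a = a
    have h1 : φ u a = a := hu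
    calc φ u⁻¹ a = φ u⁻¹ (φ u a) := by rw [h1]
      _ = a := by rw [← apply_mul_apply, inv_mul_cancel, apply_one_apply]

theorem mem_St {a : A} {u : X} : u ∈ St φ a ↔ φ u a = a := Iff.rfl

/-- The fixed points of an element. -/
def Fx (x : X) : Subgroup A where
  carrier := {a | φ x a = a}
  mul_mem' := by
    intro a b ha hb
    show φ x (a * b) = a * b
    rw [map_mul, show φ x a = a from ha, show φ x b = b from hb]
  one_mem' := map_one _
  inv_mem' := by
    intro a ha
    show φ x a⁻¹ = a⁻¹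
    rw [map_inv, show φ x a = a from ha]

/-- The fixed points of a subgroup. -/
def CA (K : Subgroup X) : Subgroup A where
  carrier := {a | ∀ k ∈ K, φ k a = a}
  mul_mem' := by
    intro a b ha hb k hk
    rw [map_mul, ha k hk, hb k hk]
  one_mem' := fun _ _ => map_one _
  inv_mem' := by
    intro a ha k hk
    rw [map_inv, ha k hk]

theorem ker_le_St (a : A) : φ.ker ≤ St φ a := by
  intro u hu
  rw [mem_St, MonoidHom.mem_ker.1 hu]
  rfl

theorem mem_ker_of_forall {u : X} (h : ∀ a : A, a ≠ 1 → φ u a = a) : u ∈ φ.ker := by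
  rw [MonoidHom.mem_ker]
  ext a
  by_cases ha : a = 1
  · rw [ha, map_one]
    rfl
  · exact h a ha

theorem St_inv (a : A) : St φ a⁻¹ = St φ a := by
  ext u
  rw [mem_St, mem_St, map_inv, inv_inj]

theorem normal_of_index_p [Finite X] {p : ℕ} [hp : Fact p.Prime] (hX : IsPGroup p X) {H : Subgroup X}
    (hH : H.index = p) : H.Normal := by
  apply Subgroup.normal_of_index_eq_minFac_card
  obtain ⟨k, hk⟩ := IsPGroup.iff_card.1 hX
  rw [hk, hH]
  have hk0 : k ≠ 0 := by
    rintro rfl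
    have h1 : H.index ∣ Nat.card X := Subgroup.index_dvd_card H
    rw [hk, hH, pow_zero] at h1
    exact hp.out.one_lt.ne' (Nat.dvd_one.1 h1)
  exact (Nat.Prime.pow_minFac hp.out hk0).symm

theorem cover_of_index_p [Finite X] {p : ℕ} [hp : Fact p.Prime] {S₁ S₀ : Subgroup X} [hn : S₀.Normal]
    (h₁ : S₁.index = p) (h₀ : S₀.index = p) (hne : S₁ ≠ S₀) : ∀ x, ∃ s₁ ∈ S₁, ∃ s₀ ∈ S₀, x = s₁ * s₀ := by
  have h1 : (S₁ ⊔ S₀).index ∣ p := h₀ ▸ Subgroup.index_dvd_of_le le_sup_right
  have h2 : (S₁ ⊔ S₀) = ⊤ := by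
    rcases (Nat.dvd_prime hp.out).1 h1 with h3 | h3
    · exact Subgroup.index_eq_one.1 h3
    · exfalso
      have h4 := eq_of_le_of_index_eq (le_sup_right : S₀ ≤ S₁ ⊔ S₀) (h₀.trans h3.symm)
      have h5 : S₁ ≤ S₀ := h4 ▸ le_sup_left
      exact hne (eq_of_le_of_index_eq h5 (h₁.trans h₀.symm))
  intro x
  have h3 : x ∈ ((S₁ ⊔ S₀ : Subgroup X) : Set X) := by
    rw [h2]
    trivial
  rw [Subgroup.mul_normal] at h3
  obtain ⟨s₁, hs₁, s₀, hs₀, rfl⟩ := h3
  exact ⟨s₁, hs₁, s₀, hs₀, rfl⟩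

theorem st_mul_le (a₁ a₀ : A) (hn₁ : (St φ a₁).Normal) (hn₀ : (St φ a₀).Normal)
    (hcov : ∀ x, ∃ s₁ ∈ St φ a₁, ∃ s₀ ∈ St φ a₀, x = s₁ * s₀)
    (hf : ∀ a : A, (∀ x, φ x a = a) → a = 1) (g : X) (hg : g ∈ St φ (a₁ * a₀)) :
    g ∈ St φ a₁ ∧ g ∈ St φ a₀ := by
  have h1 : φ g a₁ * φ g a₀ = a₁ * a₀ := by
    rw [← map_mul]
    exact hg
  have hb2 : a₁⁻¹ * φ g a₁ = a₀ * (φ g a₀)⁻¹ := by
    rw [eq_mul_inv_of_mul_eq h1]
    group
  have hconj : ∀ (a : A), (St φ a).Normal → ∀ s ∈ St φ a, φ s (φ g a) = φ g a := by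
    intro a hn s hs
    have h3 : g⁻¹ * s * g ∈ St φ a := by
      have := hn.conj_mem s hs g⁻¹
      simpa using this
    calc φ s (φ g a) = φ (g * (g⁻¹ * s * g)) a := by
          rw [show g * (g⁻¹ * s * g) = s * g by group, apply_mul_apply]
      _ = φ g (φ (g⁻¹ * s * g) a) := apply_mul_apply φ _ _ _
      _ = φ g a := by rw [show φ (g⁻¹ * s * g) a = a from h3]
  have h2 : ∀ s ∈ St φ a₁, φ s (a₁⁻¹ * φ g a₁) = a₁⁻¹ * φ g a₁ := by
    intro s hs
    rw [map_mul, map_inv, hconj a₁ hn₁ s hs, show φ s a₁ = a₁ from hs]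
  have h3 : ∀ s ∈ St φ a₀, φ s (a₁⁻¹ * φ g a₁) = a₁⁻¹ * φ g a₁ := by
    intro s hs
    rw [hb2, map_mul, map_inv, hconj a₀ hn₀ s hs, show φ s a₀ = a₀ from hs]
  have hb1 : a₁⁻¹ * φ g a₁ = 1 := by
    apply hf
    intro x
    obtain ⟨s₁, hs₁, s₀, hs₀, rfl⟩ := hcov x
    rw [apply_mul_apply, h3 s₀ hs₀, h2 s₁ hs₁]
  constructor
  · exact (inv_mul_eq_one.1 hb1).symm
  · rw [hb2] at hb1
    exact (mul_inv_eq_one.1 hb1).symm

/-- An elementary abelian group acting with a single kernel on nontrivial `W` has order `p`. -/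
theorem lemmaE [Finite X] [Finite A] {p : ℕ} (hp : p.Prime) (W : Subgroup A) (hW : ∀ u, ∀ w ∈ W, φ u w ∈ W)
    (hcop : (Nat.card W).Coprime p) (hne : W ≠ ⊥) (Ker : Subgroup X) (hKne : Ker ≠ ⊤)
    (hKW : ∀ k ∈ Ker, ∀ w ∈ W, φ k w = w) (hfree : ∀ w ∈ W, w ≠ 1 → ∀ u, φ u w = w → u ∈ Ker)
    (hpow : ∀ g, g ^ p ∈ Ker) (hcomm : ∀ g h, g * h * g⁻¹ * h⁻¹ ∈ Ker) : Ker.index = p := by
  haveI : Fact p.Prime := ⟨hp⟩
  haveI hKn : Ker.Normal := ⟨fun k hk g => by
    have h1 := hcomm g k
    have h2 : g * k * g⁻¹ = (g * k * g⁻¹ * k⁻¹) * k := by group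
    rw [h2]
    exact Ker.mul_mem h1 hk⟩
  let act : X →* Monoid.End W :=
    { toFun := fun u =>
        { toFun := fun w => ⟨φ u w, hW u w w.2⟩
          map_one' := Subtype.ext (map_one _)
          map_mul' := fun a b => Subtype.ext (map_mul _ _ _) }
      map_one' := by
        ext w
        exact apply_one_apply φ _
      map_mul' := fun u v => by
        ext w
        exact apply_mul_apply φ _ _ _ }
  have hactK : ∀ k ∈ Ker, act k = 1 := by
    intro k hk
    ext w
    exact hKW k hk w w.2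
  obtain ⟨g, hg⟩ : ∃ g, g ∉ Ker := by
    by_contra hcon
    push Not at hcon
    exact hKne (eq_top_iff.2 fun x _ => hcon x)
  let q := QuotientGroup.mk' Ker
  have hq1 : q g ≠ 1 := fun h => hg ((QuotientGroup.eq_one_iff g).1 h)
  have hqp : ∀ h, (q h) ^ p = 1 := by
    intro h
    rw [← map_pow]
    exact (QuotientGroup.eq_one_iff _).2 (hpow h)
  have hog : orderOf (q g) = p := orderOf_eq_prime (hqp g) hq1
  have hall : ∀ y : X ⧸ Ker, y ∈ zpowers (q g) := by
    by_contra hcon
    push Not at hcon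
    obtain ⟨y, hy⟩ := hcon
    obtain ⟨h, rfl⟩ := QuotientGroup.mk'_surjective Ker y
    have hcommu : Commute (act g) (act h) := by
      show act g * act h = act h * act g
      rw [← map_mul, ← map_mul]
      have h1 : g * h = (g * h * g⁻¹ * h⁻¹) * (h * g) := by group
      rw [h1, map_mul, hactK _ (hcomm g h), one_mul]
    have h2 : ∀ w : W, w ^ p = 1 := by
      apply two_free hp (act g) (act h) hcommu
      · rw [← map_pow]
        exact hactK _ (hpow g)
      · rw [← map_pow]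
        exact hactK _ (hpow h)
      · intro i j hi hj hij w hw
        by_contra hw1
        have hw1' : (w : A) ≠ 1 := fun h => hw1 (Subtype.ext h)
        have h3 : g ^ i * h ^ j ∈ Ker := by
          apply hfree w w.2 hw1'
          have h4 : act (g ^ i * h ^ j) w = w := by
            rw [map_mul, map_pow, map_pow]
            exact hw
          exact congrArg Subtype.val h4
        have h5 : (q g) ^ i * (q h) ^ j = 1 := by
          rw [← map_pow, ← map_pow, ← map_mul]
          exact (QuotientGroup.eq_one_iff _).2 h3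
        by_cases hj0 : j = 0
        · subst hj0
          have hi0 : i ≠ 0 := by simpa using hij
          rw [pow_zero, mul_one] at h5
          have h6 := orderOf_dvd_of_pow_eq_one h5
          rw [hog] at h6
          have := Nat.le_of_dvd (by omega) h6
          omega
        · apply hy
          have h6 : (q h) ^ j ∈ zpowers (q g) := by
            have : (q h) ^ j = ((q g) ^ i)⁻¹ := eq_inv_of_mul_eq_one_right h5
            rw [this]
            exact inv_mem (pow_mem (mem_zpowers _) _)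
          apply mem_of_pow_mem_of_coprime h6
          have h7 : Nat.Coprime p j := (Nat.Prime.coprime_iff_not_dvd hp).2 fun hd => by
            have := Nat.le_of_dvd (by omega) hd
            omega
          exact Nat.Coprime.coprime_dvd_left (orderOf_dvd_of_pow_eq_one (hqp h)) h7
    obtain ⟨w, hw⟩ := Subgroup.ne_bot_iff_exists_ne_one.1 hne
    have h3 := orderOf_dvd_of_pow_eq_one (h2 w)
    have h4 := orderOf_dvd_natCard w
    exact hw (orderOf_eq_one_iff.1 (Nat.eq_one_of_dvd_coprimes hcop h4 h3))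
  have h7 := orderOf_eq_card_of_forall_mem_zpowers hall
  rw [hog] at h7
  rw [Subgroup.index_eq_card]
  exact h7.symm

/-- The final stage of the analysis of class sizes `{1, m, mn}`. -/
theorem final_stage [Finite X] [Finite A] {p m : ℕ} [hp : Fact p.Prime] (hX : IsPGroup p X)
    (hcopA : (Nat.card A).Coprime p) (hm : 1 < m) (hnt : Nontrivial A)
    (ha : ∀ a : A, a ≠ 1 → (St φ a).index = m)
    (hb : ∀ x : X, x ∉ center X → (cz x).index = m)
    (hc : ∀ x : X, x ∉ φ.ker → ∀ a : A, a ≠ 1 → φ x a = a → cz x ≤ St φ a)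
    (hd : ∀ a : A, a ≠ 1 → ∀ u ∈ St φ a, ∀ w ∈ St φ a, u * w = w * u)
    (he : ∀ x y : X, x ∉ φ.ker → y ∉ φ.ker → Nat.card (Fx φ x) = Nat.card (Fx φ y))
    (hf : ∀ a : A, (∀ x, φ x a = a) → a = 1)
    (hg : center X ≤ φ.ker) :
    m = p ∧ (∀ a : A, a ≠ 1 → St φ a = φ.ker) ∧ ¬ φ.ker ≤ center X := by
  obtain ⟨a₁', ha₁'⟩ := exists_ne (1 : A)
  have hcz_eq : ∀ (v : X) (a : A), v ∉ center X → a ≠ 1 → cz v ≤ St φ a → cz v = St φ a :=
    fun v a hv ha' hle => eq_of_le_of_index_eq hle ((hb v hv).trans (ha a ha').symm)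
  have hreduce : ∀ (v : X) (a₀ : A), v ∉ center X → (∀ g, v * g * v⁻¹ * g⁻¹ ∈ center X) → a₀ ≠ 1 →
      St φ a₀ = cz v → m = p := by
    intro v a₀ hv hvg ha₀ hS
    obtain ⟨hpow, hcomm⟩ := power_trick hX v hvg hv (by
      intro hnc g hgc
      have h1 : cz v ≤ cz (v ^ p) := cz_le_cz_pow v p
      have h2 := eq_of_le_of_index_eq h1 ((hb v hv).trans (hb _ hnc).symm)
      rw [h2]
      exact mem_cz.2 hgc)
    have hKn : ∀ u, ∀ k ∈ cz v, u * k * u⁻¹ ∈ cz v := by
      intro u k hk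
      have h1 := hcomm u k
      have h2 : u * k * u⁻¹ = (u * k * u⁻¹ * k⁻¹) * k := by group
      rw [h2]
      exact (cz v).mul_mem h1 hk
    have hWinv : ∀ u, ∀ w ∈ CA φ (cz v), φ u w ∈ CA φ (cz v) := by
      intro u w hw k hk
      have h1 := hw (u⁻¹ * k * u) (by
        have := hKn u⁻¹ k hk
        simpa using this)
      calc φ k (φ u w) = φ (u * (u⁻¹ * k * u)) w := by
            rw [show u * (u⁻¹ * k * u) = k * u by group, apply_mul_apply]
        _ = φ u (φ (u⁻¹ * k * u) w) := apply_mul_apply φ _ _ _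
        _ = φ u w := by rw [h1]
    have hidx := lemmaE φ hp.out (CA φ (cz v)) hWinv
      (Nat.Coprime.coprime_dvd_left (Subgroup.card_subgroup_dvd_card _) hcopA)
      (by
        intro hbot
        have h1 : a₀ ∈ CA φ (cz v) := by
          intro k hk
          rw [← hS] at hk
          exact hk
        rw [hbot] at h1
        exact ha₀ h1)
      (cz v)
      (by
        intro htop
        apply hv
        rw [← index_cz_eq_one_iff, htop, Subgroup.index_top])
      (fun k hk w hw => hw k hk)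
      (by
        intro w hw hw1 u hu
        rw [hcz_eq v w hv hw1 (fun k hk => hw k hk)]
        exact hu)
      hpow hcomm
    rw [hb v hv] at hidx
    exact hidx
  by_cases hQ : φ.ker ≤ center X
  · exfalso
    have hnz : ¬ (⊤ : Subgroup X) ≤ center X := by
      intro htop
      have h1 : St φ a₁' = ⊤ := eq_top_iff.2 (htop.trans (hg.trans (ker_le_St φ _)))
      have h2 := ha a₁' ha₁'
      rw [h1, Subgroup.index_top] at h2
      omega
    obtain ⟨v, -, hv, hvg⟩ := exists_z2 hX ⊤ hnz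
    have hvk : v ∉ φ.ker := fun h => hv (hQ h)
    by_cases hfix : ∃ a₀ : A, a₀ ≠ 1 ∧ φ v a₀ = a₀
    · obtain ⟨a₀, ha₀, hva₀⟩ := hfix
      have hS₀ : St φ a₀ = cz v := (hcz_eq v a₀ hv ha₀ (hc v hvk a₀ ha₀ hva₀)).symm
      have hmp : m = p := hreduce v a₀ hv hvg ha₀ hS₀
      have hex : ∃ a₁ : A, a₁ ≠ 1 ∧ St φ a₁ ≠ St φ a₀ := by
        by_contra hcon
        push Not at hcon
        apply hvk
        apply mem_ker_of_forall
        intro a ha'
        have h2 : v ∈ St φ a := by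
          rw [hcon a ha', hS₀]
          exact mem_cz.2 rfl
        exact h2
      obtain ⟨a₁, ha₁, hne⟩ := hex
      have hi₁ : (St φ a₁).index = p := (ha a₁ ha₁).trans hmp
      have hi₀ : (St φ a₀).index = p := (ha a₀ ha₀).trans hmp
      haveI hn₁ := normal_of_index_p hX hi₁
      haveI hn₀ := normal_of_index_p hX hi₀
      have hcov := cover_of_index_p hi₁ hi₀ hne
      have ha₃ : a₁ * a₀ ≠ 1 := by
        intro h1
        apply hne
        rw [eq_inv_of_mul_eq_one_left h1, St_inv]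
      have hle := st_mul_le φ a₁ a₀ hn₁ hn₀ hcov hf
      have h1 : St φ (a₁ * a₀) = St φ a₁ :=
        eq_of_le_of_index_eq (fun g hg' => (hle g hg').1) ((ha _ ha₃).trans (ha _ ha₁).symm)
      have h2 : St φ (a₁ * a₀) = St φ a₀ :=
        eq_of_le_of_index_eq (fun g hg' => (hle g hg').2) ((ha _ ha₃).trans (ha _ ha₀).symm)
      exact hne (h1.symm.trans h2)
    · push Not at hfix
      have hFv : Fx φ v = ⊥ := by
        rw [eq_bot_iff]
        intro a ha'
        by_contra ha1
        exact hfix a ha1 ha'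
      have hall : ∀ x, x ∉ φ.ker → ∀ a, φ x a = a → a = 1 := by
        intro x hx a hax
        have h1 := he x v hx hvk
        rw [hFv, Subgroup.card_bot] at h1
        have h2 : Fx φ x = ⊥ := Subgroup.eq_bot_of_card_eq _ h1
        have h3 : a ∈ Fx φ x := hax
        rw [h2] at h3
        exact h3
      have h4 : St φ a₁' ≤ φ.ker := by
        intro u hu
        by_contra hun
        exact ha₁' (hall u hun a₁' hu)
      have h7 : center X = St φ a₁' := le_antisymm (hg.trans (ker_le_St φ _)) (h4.trans hQ)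
      have h8 : center X ≤ cz v := fun u hu => mem_cz.2 (Subgroup.mem_center_iff.1 hu v).symm
      have h9 := eq_of_le_of_index_eq h8 (by rw [h7, ha _ ha₁', hb v hv])
      exact hv (h9 ▸ mem_cz.2 rfl)
  · obtain ⟨v, hvk, hv, hvg⟩ := exists_z2 hX φ.ker hQ
    have hSv : ∀ a, a ≠ 1 → St φ a = cz v := by
      intro a ha'
      have h1 : St φ a ≤ cz v := fun u hu => mem_cz.2 (hd a ha' u hu v (ker_le_St φ a hvk))
      exact eq_of_le_of_index_eq h1 ((ha a ha').trans (hb v hv).symm)
    refine ⟨hreduce v a₁' hv hvg ha₁' (hSv _ ha₁'), ?_, hQ⟩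
    intro a ha'
    apply le_antisymm
    · intro u hu
      rw [hSv a ha'] at hu
      apply mem_ker_of_forall
      intro a'' ha''
      have : u ∈ St φ a'' := by
        rw [hSv _ ha'']
        exact hu
      exact this
    · exact ker_le_St φ a

end Action

end Cfsg.Agent.Lib.ClassSizes.CMN
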