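import Mathlib
import Cfsg.Agent.Lib.ClassSizes.CMN4
import Cfsg.Agent.Lib.ClassSizes.CMN5
import Cfsg.Agent.Lib.PSmall.Basic
import Cfsg.Agent.S4134

/-! The class size pattern `{1, m, mn}`: the splitting of `G`. -/

set_option autoImplicit false
set_option linter.style.haveILetI false

namespace Cfsg.Agent.Lib.ClassSizes.CMN

open Subgroup Cfsg Cfsg.Agent.Lib.Core

variable {G : Type*} [Group G]

theorem card_eq_mul_of_factor [Finite G] (C A B : Subgroup G) (hAB : A ⊓ B = ⊥)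
    (hf : ∀ c ∈ C, ∃ a ∈ C ⊓ A, ∃ b ∈ C ⊓ B, c = a * b) :
    Nat.card C = Nat.card (C ⊓ A : Subgroup G) * Nat.card (C ⊓ B : Subgroup G) := by
  rw [← Nat.card_prod]
  symm
  refine Nat.card_congr (Equiv.ofBijective
    (fun u : (C ⊓ A : Subgroup G) × (C ⊓ B : Subgroup G) =>
      (⟨(u.1 : G) * (u.2 : G), C.mul_mem (Subgroup.mem_inf.1 u.1.2).1 (Subgroup.mem_inf.1 u.2.2).1⟩ : C)) ⟨?_, ?_⟩)
  · rintro ⟨⟨a, ha⟩, ⟨b, hb⟩⟩ ⟨⟨a', ha'⟩, ⟨b', hb'⟩⟩ heq
    have h1 : a * b = a' * b' := congrArg Subtype.val heq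
    have h2 : a'⁻¹ * a = b' * b⁻¹ := by
      calc a'⁻¹ * a = a'⁻¹ * (a * b) * b⁻¹ := by group
        _ = a'⁻¹ * (a' * b') * b⁻¹ := by rw [h1]
        _ = _ := by group
    have h3 : a'⁻¹ * a ∈ A ⊓ B := by
      refine Subgroup.mem_inf.2 ⟨A.mul_mem (A.inv_mem (Subgroup.mem_inf.1 ha').2) (Subgroup.mem_inf.1 ha).2, ?_⟩
      rw [h2]
      exact B.mul_mem (Subgroup.mem_inf.1 hb').2 (B.inv_mem (Subgroup.mem_inf.1 hb).2)
    rw [hAB, Subgroup.mem_bot] at h3
    have h4 : a = a' := (inv_mul_eq_one.1 h3).symm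
    subst h4
    have h5 : b = b' := mul_left_cancel h1
    subst h5
    rfl
  · rintro ⟨c, hc⟩
    obtain ⟨a, ha, b, hb, rfl⟩ := hf c hc
    exact ⟨⟨⟨a, ha⟩, ⟨b, hb⟩⟩, rfl⟩

theorem split_nat {α β m n : ℕ} (hc : m.Coprime n) (h1 : α.Coprime m) (h2 : β.Coprime n) (h : α * β = m * n) :
    α = n ∧ β = m := by
  have hα : α ∣ n := Nat.Coprime.dvd_of_dvd_mul_left h1 (Dvd.intro _ h)
  have hn : n ∣ α := Nat.Coprime.dvd_of_dvd_mul_right h2.symm (h ▸ dvd_mul_left n m)
  have hβ : β ∣ m := Nat.Coprime.dvd_of_dvd_mul_right h2 (Dvd.intro_left _ h)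
  have hm : m ∣ β := Nat.Coprime.dvd_of_dvd_mul_left h1.symm (h ▸ dvd_mul_right m n)
  exact ⟨Nat.dvd_antisymm hα hn, Nat.dvd_antisymm hβ hm⟩

/-- A normal abelian `n`-part with a complement. -/
structure Cpl (G : Type*) [Group G] (A B : Subgroup G) (m n : ℕ) : Prop where
  hyp : Hyp G m n
  nA : A.Normal
  comm : ∀ x ∈ A, ∀ y ∈ A, x * y = y * x
  inf : A ⊓ B = ⊥
  cover : ∀ g, ∃ a ∈ A, ∃ b ∈ B, g = a * b
  cA : (Nat.card A).Coprime m
  cB : (Nat.card B).Coprime n
  cAB : (Nat.card A).Coprime (Nat.card B)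

namespace Cpl

variable {A B : Subgroup G} {m n : ℕ} (c : Cpl G A B m n)
include c

theorem factor_comm {x a b : G} (hx : x ∈ B) (ha : a ∈ A) (hb : b ∈ B) (hg : (a * b) * x = x * (a * b)) :
    a * x = x * a ∧ b * x = x * b := by
  have hA := c.nA
  have h1 : a⁻¹ * (x * a * x⁻¹) = b * (x * b * x⁻¹)⁻¹ := by
    have h2 : a * b = x * (a * b) * x⁻¹ := eq_mul_inv_of_mul_eq hg
    calc a⁻¹ * (x * a * x⁻¹) = a⁻¹ * (x * (a * b) * x⁻¹) * (x * b * x⁻¹)⁻¹ := by group
      _ = a⁻¹ * (a * b) * (x * b * x⁻¹)⁻¹ := by rw [← h2]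
      _ = _ := by group
  have h3 : a⁻¹ * (x * a * x⁻¹) ∈ A ⊓ B := by
    refine Subgroup.mem_inf.2 ⟨A.mul_mem (A.inv_mem ha) (hA.conj_mem a ha x), ?_⟩
    rw [h1]
    exact B.mul_mem hb (B.inv_mem (B.mul_mem (B.mul_mem hx hb) (B.inv_mem hx)))
  rw [c.inf, Subgroup.mem_bot] at h3
  have h4 : x * a * x⁻¹ = a := (inv_mul_eq_one.1 h3).symm
  rw [h3] at h1
  have h5 : b = x * b * x⁻¹ := by
    have := h1.symm
    exact mul_inv_eq_one.1 this
  constructor
  · exact (mul_inv_eq_iff_eq_mul.1 h4).symm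
  · exact (mul_inv_eq_iff_eq_mul.1 h5.symm).symm

variable [Finite G]

theorem card_G : Nat.card G = Nat.card A * Nat.card B := by
  have h1 := card_eq_mul_of_factor ⊤ A B c.inf (by
    intro g _
    obtain ⟨a, ha, b, hb, rfl⟩ := c.cover g
    exact ⟨a, Subgroup.mem_inf.2 ⟨mem_top _, ha⟩, b, Subgroup.mem_inf.2 ⟨mem_top _, hb⟩, rfl⟩)
  rw [top_inf_eq, top_inf_eq, Subgroup.card_top] at h1
  exact h1

theorem index_A : A.index = Nat.card B := by
  have h1 := Subgroup.card_mul_index A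
  rw [c.card_G] at h1
  exact Nat.eq_of_mul_eq_mul_left Nat.card_pos h1

theorem index_eq_mul {x : G} (hx : x ∈ B) : (cz x).index = (cz x).relIndex A * (cz x).relIndex B := by
  have h1 := card_eq_mul_of_factor (cz x) A B c.inf (by
    intro g hg
    obtain ⟨a, ha, b, hb, rfl⟩ := c.cover g
    obtain ⟨h2, h3⟩ := c.factor_comm hx ha hb (mem_cz.1 hg)
    exact ⟨a, Subgroup.mem_inf.2 ⟨mem_cz.2 h2, ha⟩, b, Subgroup.mem_inf.2 ⟨mem_cz.2 h3, hb⟩, rfl⟩)
  have h2 := Cfsg.Agent.Lib.PSolv.card_inf_mul_relIndex (cz x) A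
  have h3 := Cfsg.Agent.Lib.PSolv.card_inf_mul_relIndex (cz x) B
  have h4 := Subgroup.card_mul_index (cz x)
  rw [c.card_G, ← h2, ← h3, h1] at h4
  have h5 : Nat.card (cz x ⊓ A : Subgroup G) * Nat.card (cz x ⊓ B : Subgroup G) ≠ 0 :=
    (Nat.mul_pos Nat.card_pos Nat.card_pos).ne'
  apply Nat.eq_of_mul_eq_mul_left (Nat.pos_of_ne_zero h5)
  rw [h4]
  ring

theorem rel_A_coprime (x : G) : ((cz x).relIndex A).Coprime m :=
  Nat.Coprime.coprime_dvd_left (Subgroup.relIndex_dvd_card _ _) c.cA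

theorem rel_B_coprime (x : G) : ((cz x).relIndex B).Coprime n :=
  Nat.Coprime.coprime_dvd_left (Subgroup.relIndex_dvd_card _ _) c.cB

theorem rel_of_big {x : G} (hx : x ∈ B) (hsz : (cz x).index = m * n) :
    (cz x).relIndex A = n ∧ (cz x).relIndex B = m :=
  split_nat c.hyp.hcop (c.rel_A_coprime x) (c.rel_B_coprime x) ((c.index_eq_mul hx).symm.trans hsz)

theorem rel_of_m {x : G} (hx : x ∈ B) (hsz : (cz x).index = m) :
    (cz x).relIndex A = 1 ∧ (cz x).relIndex B = m := by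
  have h1 := c.index_eq_mul hx
  rw [hsz] at h1
  have h2 : (cz x).relIndex A = 1 :=
    Nat.Coprime.eq_one_of_dvd (c.rel_A_coprime x) (Dvd.intro _ h1.symm)
  rw [h2, one_mul] at h1
  exact ⟨h2, h1.symm⟩

theorem rel_of_one {x : G} (hx : x ∈ B) (hsz : (cz x).index = 1) :
    (cz x).relIndex A = 1 ∧ (cz x).relIndex B = 1 := by
  have h1 := c.index_eq_mul hx
  rw [hsz] at h1
  exact ⟨Nat.eq_one_of_mul_eq_one_right h1.symm, Nat.eq_one_of_mul_eq_one_left h1.symm⟩

theorem le_cz_of_m {x : G} (hsz : (cz x).index ∣ m) : A ≤ cz x := by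
  haveI := c.nA
  have h1 : (cz x).relIndex A ∣ (cz x).index := Cfsg.Agent.Lib.PSolv.relIndex_dvd_index_of_normal_right _ _
  have h2 : (cz x).relIndex A = 1 := Nat.Coprime.eq_one_of_dvd (c.rel_A_coprime x) (h1.trans hsz)
  exact Subgroup.relIndex_eq_one.1 h2

/-- The centre of the complement is central in `G`. -/
theorem central_of_center_B {x : G} (hx : x ∈ B) (hc : B ≤ cz x) : x ∈ center G := by
  have h1 : (cz x).relIndex B = 1 := Subgroup.relIndex_eq_one.2 hc
  have h2 := c.index_eq_mul hx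
  rw [h1, mul_one] at h2
  by_contra hxc
  have hh := c.hyp
  have h3 : m ∣ (cz x).relIndex A := h2 ▸ hh.m_dvd_index hxc
  have h4 := Nat.Coprime.eq_one_of_dvd (c.rel_A_coprime x).symm h3
  have := hh.hm
  omega

theorem exists_p : ∃ (p : ℕ) (_ : Fact p.Prime) (a : ℕ), m = p ^ a ∧ IsPGroup p B := by
  have hh := c.hyp
  have hidx : ∀ x : B, (centralizer ({x} : Set B)).index = (cz (x : G)).relIndex B := by
    intro x
    have : centralizer ({x} : Set B) = (cz (x : G)).subgroupOf B := by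
      ext u
      rw [Subgroup.mem_subgroupOf, Subgroup.mem_centralizer_singleton_iff, mem_cz]
      exact ⟨fun h => congrArg Subtype.val h, fun h => Subtype.ext h⟩
    rw [this]
    rfl
  have hcases : ∀ x : B, (cz (x : G)).relIndex B = 1 ∨ (cz (x : G)).relIndex B = m := by
    intro x
    rcases hh.hsz x with h1 | h1 | h1
    · left
      exact (c.rel_of_one x.2 h1).2
    · right
      exact (c.rel_of_m x.2 h1).2
    · right
      exact (c.rel_of_big x.2 h1).2
  have hex : ∃ x : B, (x : G) ∉ center G := by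
    by_contra hcon
    push Not at hcon
    obtain ⟨y, hy⟩ := hh.exists_noncentral
    apply hy
    rw [Subgroup.mem_center_iff]
    intro g
    obtain ⟨a, ha, b, hb, rfl⟩ := c.cover g
    obtain ⟨a', ha', b', hb', rfl⟩ := c.cover y
    have h1 := Subgroup.mem_center_iff.1 (hcon ⟨b, hb⟩)
    have h2 := Subgroup.mem_center_iff.1 (hcon ⟨b', hb'⟩)
    simp only at h1 h2
    have h3 := c.comm a ha a' ha'
    calc a * b * (a' * b') = a * (b * a') * b' := by group
      _ = a * (a' * b) * b' := by rw [h1 a']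
      _ = (a * a') * b * b' := by group
      _ = (a' * a) * b * b' := by rw [h3]
      _ = a' * a * (b * b') := by group
      _ = a' * a * (b' * b) := by rw [h1 b']
      _ = a' * (a * b') * b := by group
      _ = a' * (b' * a) * b := by rw [h2 a]
      _ = _ := by group
  obtain ⟨x₀, hx₀⟩ := hex
  have hx₀m : (cz (x₀ : G)).relIndex B = m := by
    rcases hh.index_ne_one_cases hx₀ with h1 | h1
    · exact (c.rel_of_m x₀.2 h1).2
    · exact (c.rel_of_big x₀.2 h1).2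
  obtain ⟨p, hp, a, hma, hall⟩ := Cfsg.Agent.S4134.result (G := B) m hh.hm
    (fun e => by rw [hidx]; exact hcases e) ⟨x₀, by rw [hidx]; exact hx₀m⟩
  refine ⟨p, hp, a, hma, ?_⟩
  obtain ⟨P⟩ : Nonempty (Sylow p B) := inferInstance
  obtain ⟨hPn, ⟨N, hNn, hNc, hNab, hNP⟩, -⟩ := hall P
  have hWc : N.map B.subtype ≤ center G := by
    rintro _ ⟨w, hw, rfl⟩
    apply c.central_of_center_B w.2
    intro b hb
    apply mem_cz.2
    have h1 : (⟨b, hb⟩ : B) ∈ ((N ⊔ (P : Subgroup B) : Subgroup B) : Set B) := by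
      rw [hNc.sup_eq_top]
      trivial
    rw [Subgroup.mul_normal] at h1
    obtain ⟨ν, hν, π, hπ, h2⟩ := h1
    have h3 : (ν : B) * w = w * ν :=
      congrArg Subtype.val (hNab.is_comm.comm (⟨ν, hν⟩ : N) (⟨w, hw⟩ : N))
    have h4 : w * π = π * w := hNP w hw π hπ
    have h5 : (w : B) * ⟨b, hb⟩ = ⟨b, hb⟩ * w := by
      rw [← h2]
      calc w * (ν * π) = (w * ν) * π := by group
        _ = (ν * w) * π := by rw [h3]
        _ = ν * (w * π) := by group
        _ = ν * (π * w) := by rw [h4]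
        _ = _ := by group
    exact (congrArg Subtype.val h5).symm
  have hN0 : N = ⊥ := by
    have hcard : Nat.card (N.map B.subtype) = Nat.card N :=
      Subgroup.card_map_of_injective B.subtype_injective
    have h1 := Subgroup.card_mul_index (N.map B.subtype)
    rw [hcard, c.card_G, ← hNc.card_mul_card] at h1
    have h2 : (N.map B.subtype).index = Nat.card A * Nat.card (P : Subgroup B) := by
      apply Nat.eq_of_mul_eq_mul_left (Nat.card_pos : 0 < Nat.card N)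
      rw [h1]
      ring
    have hbot := eq_bot_of_central hh.hnodf (N.map B.subtype) hWc (by
      rw [hcard, h2]
      apply Nat.Coprime.mul_right
      · have h3 : Nat.card N ∣ Nat.card B := Subgroup.card_subgroup_dvd_card _
        exact Nat.Coprime.coprime_dvd_left h3 c.cAB.symm
      · rw [← hNc.index_eq_card]
        exact P.card_coprime_index.symm)
    exact (Subgroup.map_eq_bot_iff_of_injective _ B.subtype_injective).1 hbot
  have hPt : (P : Subgroup B) = ⊤ := by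
    have h1 := hNc.sup_eq_top
    rw [hN0, bot_sup_eq] at h1
    exact h1
  obtain ⟨f, hf⟩ := IsPGroup.iff_card.1 P.2
  rw [hPt, Subgroup.card_top] at hf
  exact IsPGroup.of_card hf

end Cpl

section Split

variable {X : Type*} [Group X] [Finite X] {A : Type*} [CommGroup A] [Finite A] (φ : X →* MulAut A)

theorem exists_norm_hom : ∃ τ : A →* A, (∀ y a, τ (φ y a) = τ a) ∧ (∀ y a, φ y (τ a) = τ a) ∧
    ∀ a, (∀ x, φ x a = a) → τ a = a ^ Nat.card X := by
  classical
  haveI := Fintype.ofFinite X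
  refine ⟨{ toFun := fun a => ∏ x : X, φ x a
            map_one' := by simp
            map_mul' := fun a b => by simp [Finset.prod_mul_distrib] }, ?_, ?_, ?_⟩
  · intro y a
    show ∏ x : X, φ x (φ y a) = ∏ x : X, φ x a
    simp_rw [← apply_mul_apply]
    exact Fintype.prod_equiv (Equiv.mulRight y) _ _ (fun _ => rfl)
  · intro y a
    show φ y (∏ x : X, φ x a) = ∏ x : X, φ x a
    rw [map_prod]
    simp_rw [← apply_mul_apply]
    exact Fintype.prod_equiv (Equiv.mulLeft y) _ _ (fun _ => rfl)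
  · intro a ha
    show ∏ x : X, φ x a = _
    simp [ha, Finset.prod_const, Nat.card_eq_fintype_card]

theorem split_of_coprime (hco : (Nat.card A).Coprime (Nat.card X)) (τ : A →* A)
    (h2 : ∀ y a, φ y (τ a) = τ a) (h3 : ∀ a, (∀ x, φ x a = a) → τ a = a ^ Nat.card X) (a : A) :
    ∃ a₀ a₁, a = a₀ * a₁ ∧ (∀ x, φ x a₀ = a₀) ∧ τ a₁ = 1 := by
  let F : Subgroup A := CA φ ⊤
  have hF : (Nat.card F).Coprime (Nat.card X) :=
    Nat.Coprime.coprime_dvd_left (Subgroup.card_subgroup_dvd_card _) hco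
  have hτa : τ a ∈ F := fun k _ => h2 k a
  obtain ⟨f, hf⟩ := (powCoprime hF).surjective ⟨τ a, hτa⟩
  have hf' : (f : A) ^ Nat.card X = τ a := congrArg Subtype.val hf
  have hfix : ∀ x, φ x (f : A) = f := fun x => f.2 x (mem_top x)
  refine ⟨f, (f : A)⁻¹ * a, by group, hfix, ?_⟩
  rw [map_mul, map_inv, h3 _ hfix, hf']
  group

end Split

namespace Hyp

variable {m n : ℕ} (h : Hyp G m n) [Finite G]
include h

theorem mem_A {t : ℕ} [ht : Fact t.Prime] (htn : t ∣ n) {y : G} (hyt : ∃ f, orderOf y = t ^ f) :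
    y ∈ Zt G (n ^ Nat.card G) := by
  have hsz := h.tau_small htn hyt
  obtain ⟨f, hf⟩ := hyt
  have htm : ¬ t ∣ m := fun hd => h.not_dvd_n ht.out hd htn
  refine mem_Zt.2 ⟨h.mem_Zf ?_ ?_, ?_⟩
  · rw [hf]
    exact Nat.Coprime.pow_left _ ((Nat.Prime.coprime_iff_not_dvd ht.out).2 htm)
  · rcases h.hsz y with h8 | h8 | h8
    · rw [h8]
      exact one_dvd _
    · rw [h8]
    · exact absurd h8 hsz
  · have h1 : orderOf y ∣ n ^ Nat.card G := by
      rw [hf]
      have hj : f ≤ Nat.card G := by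
        have h2 : t ^ f ∣ Nat.card G := by
          rw [← hf]
          exact orderOf_dvd_natCard _
        have h3 : t ^ f ≤ Nat.card G := Nat.le_of_dvd Nat.card_pos h2
        exact (Nat.lt_pow_self ht.out.one_lt).le.trans h3
      exact (pow_dvd_pow t hj).trans (pow_dvd_pow_of_dvd htn _)
    rw [← orderOf_dvd_iff_pow_eq_one]
    exact h1

omit h in
theorem prime_dvd_of_dvd_card_A {n r : ℕ} (hr : r.Prime) (hd : r ∣ Nat.card (Zt G (n ^ Nat.card G))) : r ∣ n := by
  haveI : Fact r.Prime := ⟨hr⟩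
  obtain ⟨u, hu⟩ := exists_prime_orderOf_dvd_card' (p := r) hd
  have h1 := (mem_Zt.1 u.2).2
  have h3 : orderOf (u : G) ∣ n ^ Nat.card G := orderOf_dvd_of_pow_eq_one h1
  rw [Subgroup.orderOf_coe, hu] at h3
  exact hr.dvd_of_dvd_pow h3

theorem not_dvd_index_A {r : ℕ} [hr : Fact r.Prime] (hrn : r ∣ n) : ¬ r ∣ (Zt G (n ^ Nat.card G)).index := by
  obtain ⟨Q⟩ : Nonempty (Sylow r G) := inferInstance
  apply Cfsg.Agent.Lib.PSolv.not_dvd_index_of_sylow_le Q
  intro y hy
  obtain ⟨k, hk⟩ := (IsPGroup.iff_orderOf.1 Q.2) ⟨y, hy⟩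
  exact h.mem_A hrn ⟨k, by rwa [Subgroup.orderOf_mk] at hk⟩

theorem exists_cpl : ∃ B, Cpl G (Zt G (n ^ Nat.card G)) B m n := by
  have hcAB : (Nat.card (Zt G (n ^ Nat.card G))).Coprime (Zt G (n ^ Nat.card G)).index :=
    Nat.coprime_of_dvd fun r hr h1 h2 => by
      haveI : Fact r.Prime := ⟨hr⟩
      exact h.not_dvd_index_A (prime_dvd_of_dvd_card_A hr h1) h2
  obtain ⟨B, hB⟩ := Subgroup.exists_right_complement'_of_coprime hcAB
  have hBc : Nat.card B = (Zt G (n ^ Nat.card G)).index := hB.symm.index_eq_card.symm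
  refine ⟨B, ⟨h, inferInstance, ?_, hB.disjoint.eq_bot, ?_, ?_, ?_, ?_⟩⟩
  · intro x hx y hy
    exact Zf_comm (mem_Zt.1 hx).1 (mem_Zt.1 hy).1
  · intro g
    have h1 : g ∈ ((Zt G (n ^ Nat.card G) ⊔ B : Subgroup G) : Set G) := by
      rw [hB.sup_eq_top]
      trivial
    rw [Subgroup.normal_mul] at h1
    obtain ⟨a, ha, b, hb, rfl⟩ := h1
    exact ⟨a, ha, b, hb, rfl⟩
  · exact Nat.coprime_of_dvd fun r hr h1 h2 => h.not_dvd_n hr h2 (prime_dvd_of_dvd_card_A hr h1)
  · exact Nat.coprime_of_dvd fun r hr h1 h2 => by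
      haveI : Fact r.Prime := ⟨hr⟩
      exact h.not_dvd_index_A h2 (hBc ▸ h1)
  · rw [hBc]
    exact hcAB

end Hyp

/-- A group with an abelian subgroup of index `p` and a class of size `p`. -/
theorem index_center_eq {X : Type*} [Group X] [Finite X] {p : ℕ} [hp : Fact p.Prime] (Q : Subgroup X) [Q.Normal]
    (hQi : Q.index = p) (hQab : ∀ u ∈ Q, ∀ w ∈ Q, u * w = w * u) {x : X} (hx : x ∉ Q)
    (hxi : (cz x).index = p) (hQc : ¬ Q ≤ center X) (hcQ : center X ≤ Q) : (center X).index = p ^ 2 := by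
  have hsup : Q ⊔ zpowers x = ⊤ := by
    have h1 : (Q ⊔ zpowers x).index ∣ p := hQi ▸ Subgroup.index_dvd_of_le le_sup_left
    rcases (Nat.dvd_prime hp.out).1 h1 with h2 | h2
    · exact Subgroup.index_eq_one.1 h2
    · exfalso
      have h3 := eq_of_le_of_index_eq (le_sup_left : Q ≤ Q ⊔ zpowers x) (hQi.trans h2.symm)
      apply hx
      rw [h3]
      exact mem_sup_right (mem_zpowers x)
  have hcen : center X = cz x ⊓ Q := by
    apply le_antisymm
    · intro u hu
      exact Subgroup.mem_inf.2 ⟨mem_cz.2 (Subgroup.mem_center_iff.1 hu x).symm, hcQ hu⟩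
    · intro u hu
      obtain ⟨hu1, hu2⟩ := Subgroup.mem_inf.1 hu
      rw [Subgroup.mem_center_iff]
      intro g
      have hg : g ∈ ((Q ⊔ zpowers x : Subgroup X) : Set X) := by
        rw [hsup]
        trivial
      rw [Subgroup.normal_mul] at hg
      obtain ⟨q, hq, w, hw, rfl⟩ := hg
      obtain ⟨i, rfl⟩ := Subgroup.mem_zpowers_iff.1 hw
      have h1 := hQab u hu2 q hq
      have h2 : Commute u (x ^ i) := Commute.zpow_right (mem_cz.1 hu1) i
      calc q * x ^ i * u = q * (x ^ i * u) := by group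
        _ = q * (u * x ^ i) := by rw [h2.eq]
        _ = (q * u) * x ^ i := by group
        _ = (u * q) * x ^ i := by rw [h1]
        _ = _ := by group
  have h4 : (cz x).relIndex Q ∣ p := hxi ▸ Cfsg.Agent.Lib.PSolv.relIndex_dvd_index_of_normal_right _ _
  have h5 : (cz x ⊓ Q).index = (cz x).relIndex Q * Q.index := by
    rw [← Subgroup.relIndex_mul_index (inf_le_right : cz x ⊓ Q ≤ Q), Subgroup.inf_relIndex_right]
  rcases (Nat.dvd_prime hp.out).1 h4 with h6 | h6
  · exfalso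
    apply hQc
    rw [hcen]
    exact le_inf (Subgroup.relIndex_eq_one.1 h6) le_rfl
  · rw [hcen, h5, h6, hQi]
    ring

namespace Cpl

variable {A B : Subgroup G} {m n : ℕ} (c : Cpl G A B m n)

/-- The commutative group structure of `A`. -/
@[reducible] def cg : CommGroup A :=
  { (inferInstance : Group A) with mul_comm := fun x y => Subtype.ext (c.comm x x.2 y y.2) }

variable [Finite G]
include c

theorem fixed_trivial : A ⊓ center G = ⊥ := by
  haveI hA := c.nA
  letI := c.cg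
  let φ : B →* MulAut A := (MulAut.conjNormal).comp B.subtype
  obtain ⟨τ, h1, h2, h3⟩ := exists_norm_hom φ
  have hsplit := split_of_coprime φ c.cAB τ h2 h3
  have hcen : ∀ a₀ : A, (∀ x, φ x a₀ = a₀) → (a₀ : G) ∈ center G := by
    intro a₀ ha₀
    rw [Subgroup.mem_center_iff]
    intro g
    obtain ⟨a, ha, b, hb, rfl⟩ := c.cover g
    have h4 : b * a₀ * b⁻¹ = a₀ := congrArg Subtype.val (ha₀ ⟨b, hb⟩)
    have h5 : b * a₀ = a₀ * b := mul_inv_eq_iff_eq_mul.1 h4
    have h6 := c.comm a ha a₀ a₀.2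
    calc a * b * a₀ = a * (b * a₀) := by group
      _ = a * (a₀ * b) := by rw [h5]
      _ = (a * a₀) * b := by group
      _ = (a₀ * a) * b := by rw [h6]
      _ = _ := by group
  have hA₁n : ((τ.ker).map A.subtype).Normal := ⟨by
    rintro _ ⟨x, hx, rfl⟩ g
    obtain ⟨a, ha, b, hb, rfl⟩ := c.cover g
    have hy : φ ⟨b, hb⟩ x ∈ τ.ker := by
      rw [MonoidHom.mem_ker, h1]
      exact hx
    refine ⟨_, hy, ?_⟩
    show b * x * b⁻¹ = a * b * x * (a * b)⁻¹
    have h7 := c.comm a ha (b * x * b⁻¹) (hA.conj_mem _ x.2 b)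
    calc b * x * b⁻¹ = (b * x * b⁻¹) * a * a⁻¹ := by group
      _ = a * (b * x * b⁻¹) * a⁻¹ := by rw [h7]
      _ = _ := by group⟩
  have hdecomp : ∀ g, ∃ a₀ : A, (∀ x, φ x a₀ = a₀) ∧ ∃ y ∈ (τ.ker).map A.subtype ⊔ B, g = a₀ * y := by
    intro g
    obtain ⟨a, ha, b, hb, rfl⟩ := c.cover g
    obtain ⟨a₀, a₁, h4, h5, h6⟩ := hsplit ⟨a, ha⟩
    refine ⟨a₀, h5, (a₁ : G) * b, Subgroup.mul_mem _ (mem_sup_left ⟨a₁, h6, rfl⟩) (mem_sup_right hb), ?_⟩
    have h7 : a = (a₀ : G) * a₁ := congrArg Subtype.val h4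
    rw [h7]
    group
  apply c.hyp.hnodf (A ⊓ center G) ((τ.ker).map A.subtype ⊔ B) inferInstance
  · refine ⟨fun x hx g => ?_⟩
    obtain ⟨a₀, ha₀, y, hy, rfl⟩ := hdecomp g
    have h4 := hcen a₀ ha₀
    have h5 : (a₀ : G) * y * x * ((a₀ : G) * y)⁻¹ = y * x * y⁻¹ := by
      have h6 : ∀ z, z * (a₀ : G) = a₀ * z := Subgroup.mem_center_iff.1 h4
      calc (a₀ : G) * y * x * ((a₀ : G) * y)⁻¹ = (a₀ : G) * (y * x * y⁻¹) * (a₀ : G)⁻¹ := by group
        _ = (y * x * y⁻¹) * a₀ * (a₀ : G)⁻¹ := by rw [h6]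
        _ = _ := by group
    rw [h5]
    exact Subgroup.mul_mem _ (Subgroup.mul_mem _ hy hx) (Subgroup.inv_mem _ hy)
  · rw [eq_bot_iff]
    intro x hx
    obtain ⟨hx1, hx2⟩ := Subgroup.mem_inf.1 hx
    obtain ⟨hx3, hx4⟩ := Subgroup.mem_inf.1 hx1
    have hx5 : x ∈ (((τ.ker).map A.subtype ⊔ B : Subgroup G) : Set G) := hx2
    rw [Subgroup.normal_mul] at hx5
    obtain ⟨a₁', ⟨a₁, ha₁, rfl⟩, b, hb, rfl⟩ := hx5
    have hbA : b ∈ A ⊓ B := by
      refine Subgroup.mem_inf.2 ⟨?_, hb⟩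
      have h4 : b = (A.subtype a₁)⁻¹ * (A.subtype a₁ * b) := by group
      rw [h4]
      exact A.mul_mem (A.inv_mem a₁.2) hx3
    rw [c.inf, Subgroup.mem_bot] at hbA
    subst hbA
    simp only [mul_one] at hx4 ⊢
    have hfix : ∀ u, φ u a₁ = a₁ := by
      intro u
      apply Subtype.ext
      show (u : G) * a₁ * (u : G)⁻¹ = a₁
      have h6 : (u : G) * a₁ = a₁ * u := Subgroup.mem_center_iff.1 hx4 u
      rw [h6]
      group
    have h7 := h3 a₁ hfix
    have h8 : a₁ ^ Nat.card B = 1 := by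
      rw [← h7]
      exact ha₁
    have h9 := orderOf_dvd_of_pow_eq_one h8
    have h10 := orderOf_dvd_natCard a₁
    have h11 : a₁ = 1 := orderOf_eq_one_iff.1 (Nat.eq_one_of_dvd_coprimes c.cAB h10 h9)
    rw [h11]
    exact Subgroup.one_mem _
  · rw [eq_top_iff]
    intro g _
    obtain ⟨a₀, ha₀, y, hy, rfl⟩ := hdecomp g
    exact Subgroup.mul_mem _ (mem_sup_left (Subgroup.mem_inf.2 ⟨a₀.2, hcen a₀ ha₀⟩)) (mem_sup_right hy)
  · exact ⟨⟨fun x y => Subtype.ext (c.comm x (Subgroup.mem_inf.1 x.2).1 y (Subgroup.mem_inf.1 y.2).1)⟩⟩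

theorem main {p k : ℕ} [hp : Fact p.Prime] (hmk : m = p ^ k) (hBp : IsPGroup p B) :
    m.Prime ∧ m ∣ n - 1 ∧ (∃ M : Subgroup G, M.Normal ∧ (M : Set G) = {x : G | (Subgroup.centralizer ({x} : Set G)).index = 1 ∨ (Subgroup.centralizer ({x} : Set G)).index = m} ∧ M.index = m ∧ IsMulCommutative M) ∧ (∃ N : Subgroup G, N.Normal ∧ (Nat.card N).Coprime m ∧ ∃ a : ℕ, N.index = m ^ a) ∧ ∀ P : Sylow m G, Nat.card (commutator (P : Subgroup G)) = m := by
  have hh := c.hyp
  haveI hA := c.nA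
  have hAz := c.fixed_trivial
  have hk0 : k ≠ 0 := by
    rintro rfl
    have := hh.hm
    rw [hmk] at this
    simp at this
  have hpm : p ∣ m := hmk ▸ dvd_pow_self p hk0
  have hAp : (Nat.card A).Coprime p := Nat.Coprime.coprime_dvd_right hpm c.cA
  obtain ⟨f, hf⟩ := IsPGroup.iff_card.1 hBp
  have hnB : ∀ x : G, A ≤ cz x → (cz x).index ≠ m * n := by
    intro x hAx hsz
    have h1 : (cz x).index ∣ Nat.card B := by
      rw [← c.index_A]
      exact Subgroup.index_dvd_of_le hAx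
    rw [hsz] at h1
    have h2 : n ∣ Nat.card B := (dvd_mul_left n m).trans h1
    exact hh.n_ne_one (Nat.Coprime.eq_one_of_dvd c.cB.symm h2)
  have hsza : ∀ a : A, a ≠ 1 → (cz (a : G)).index = m := by
    intro a ha
    have h1 : (a : G) ∉ center G := by
      intro hc'
      have h2 : (a : G) ∈ A ⊓ center G := Subgroup.mem_inf.2 ⟨a.2, hc'⟩
      rw [hAz, Subgroup.mem_bot] at h2
      exact ha (Subtype.ext h2)
    exact (hh.index_ne_one_cases h1).resolve_right (hnB a (fun y hy => mem_cz.2 (c.comm y hy a a.2)))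
  letI := c.cg
  let φ : B →* MulAut A := (MulAut.conjNormal).comp B.subtype
  have hφ : ∀ (u : B) (a : A), φ u a = a ↔ (u : G) ∈ cz (a : G) := by
    intro u a
    rw [mem_cz]
    constructor
    · intro h
      have h1 : (u : G) * a * (u : G)⁻¹ = a := congrArg Subtype.val h
      exact mul_inv_eq_iff_eq_mul.1 h1
    · intro h
      apply Subtype.ext
      show (u : G) * a * (u : G)⁻¹ = a
      rw [h]
      group
  have hker : ∀ u : B, u ∈ φ.ker ↔ A ≤ cz (u : G) := by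
    intro u
    constructor
    · intro hu y hy
      have h1 : φ u ⟨y, hy⟩ = ⟨y, hy⟩ := ker_le_St φ _ hu
      exact mem_cz.2 (mem_cz.1 ((hφ u ⟨y, hy⟩).1 h1)).symm
    · intro h
      rw [MonoidHom.mem_ker]
      ext a
      exact congrArg Subtype.val ((hφ u a).2 (mem_cz.2 (mem_cz.1 (h a.2)).symm))
  have hSt : ∀ a : A, St φ a = (cz (a : G)).subgroupOf B := by
    intro a
    ext u
    rw [mem_St, hφ, Subgroup.mem_subgroupOf]
  have hczB : ∀ x : B, cz x = (cz (x : G)).subgroupOf B := by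
    intro x
    ext u
    rw [Subgroup.mem_subgroupOf, mem_cz, mem_cz]
    exact ⟨fun h => congrArg Subtype.val h, fun h => Subtype.ext h⟩
  have hFx : ∀ x : B, Fx φ x = (cz (x : G)).subgroupOf A := by
    intro x
    ext a
    show φ x a = a ↔ _
    rw [hφ, Subgroup.mem_subgroupOf, mem_cz, mem_cz]
    exact eq_comm
  have hcovB : ∀ K : Subgroup G, A ≤ K → ∀ g, ∃ u ∈ B, ∃ v ∈ K, g = u * v := by
    intro K hK g
    obtain ⟨a', ha', b', hb', h1⟩ := c.cover g⁻¹
    refine ⟨b'⁻¹, B.inv_mem hb', a'⁻¹, K.inv_mem (hK ha'), ?_⟩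
    rw [← mul_inv_rev, ← h1, inv_inv]
  have hbig : ∀ x : B, x ∉ φ.ker → (cz (x : G)).index = m * n := by
    intro x hx
    rcases hh.hsz x with h1 | h1 | h1
    · exact absurd ((hker x).2 (c.le_cz_of_m (by rw [h1]; exact one_dvd _))) hx
    · exact absurd ((hker x).2 (c.le_cz_of_m (by rw [h1]))) hx
    · exact h1
  have hcoxa : ∀ (x : B) (a : A), (orderOf (x : G)).Coprime (orderOf (a : G)) := by
    intro x a
    rw [Subgroup.orderOf_coe, Subgroup.orderOf_coe]
    exact (Nat.Coprime.coprime_dvd_left (orderOf_dvd_natCard a)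
      (Nat.Coprime.coprime_dvd_right (orderOf_dvd_natCard x) c.cAB)).symm
  have ha : ∀ a : A, a ≠ 1 → (St φ a).index = m := by
    intro a ha'
    rw [hSt, Cfsg.Agent.Lib.ClassSizes.PrimeClass.index_subgroupOf_eq_of_cover B (cz (a : G))
      (hcovB _ (fun y hy => mem_cz.2 (c.comm y hy a a.2))), hsza a ha']
  have hb : ∀ x : B, x ∉ center B → (cz x).index = m := by
    intro x hx
    rw [hczB]
    have hxG : (x : G) ∉ center G := by
      intro hc'
      apply hx
      rw [Subgroup.mem_center_iff]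
      intro g
      exact Subtype.ext (Subgroup.mem_center_iff.1 hc' g)
    rcases hh.index_ne_one_cases hxG with h1 | h1
    · exact (c.rel_of_m x.2 h1).2
    · exact (c.rel_of_big x.2 h1).2
  have hc : ∀ x : B, x ∉ φ.ker → ∀ a : A, a ≠ 1 → φ x a = a → cz x ≤ St φ a := by
    intro x hx a _ hfix u hu
    have h1 := hh.cz_le_of_big (hbig x hx) (mem_cz.2 (mem_cz.1 ((hφ x a).1 hfix)).symm) (hcoxa x a)
    rw [hczB] at hu
    exact (hφ u a).2 (h1 hu)
  have hd : ∀ a : A, a ≠ 1 → ∀ u ∈ St φ a, ∀ w ∈ St φ a, u * w = w * u := by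
    intro a ha' u hu w hw
    have hu' : (u : G) ∈ cz (a : G) := (hφ u a).1 hu
    have hw' : (w : G) ∈ cz (a : G) := (hφ w a).1 hw
    have hAK : A ≤ cz (a : G) := fun y hy => mem_cz.2 (c.comm y hy a a.2)
    have hfac : ∀ g ∈ cz (a : G), ∃ a' ∈ A, ∃ b' ∈ B ⊓ cz (a : G), g = a' * b' := by
      intro g hg
      obtain ⟨a', ha'', b', hb', rfl⟩ := c.cover g
      refine ⟨a', ha'', b', Subgroup.mem_inf.2 ⟨hb', ?_⟩, rfl⟩
      have h1 : b' = a'⁻¹ * (a' * b') := by group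
      rw [h1]
      exact Subgroup.mul_mem _ (Subgroup.inv_mem _ (hAK ha'')) hg
    have hR : SylIn p (B ⊓ cz (a : G)) (cz (a : G)) := by
      refine ⟨inf_le_right, hBp.to_le inf_le_left, ?_⟩
      have h1 := card_eq_mul_of_factor (cz (a : G)) A B c.inf (by
        intro g hg
        obtain ⟨a', ha'', b', hb', rfl⟩ := hfac g hg
        exact ⟨a', Subgroup.mem_inf.2 ⟨hAK ha'', ha''⟩, b',
          Subgroup.mem_inf.2 ⟨(Subgroup.mem_inf.1 hb').2, (Subgroup.mem_inf.1 hb').1⟩, rfl⟩)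
      have h2 := Cfsg.Agent.Lib.PSolv.card_inf_mul_relIndex (B ⊓ cz (a : G)) (cz (a : G))
      rw [inf_eq_left.2 (inf_le_right : B ⊓ cz (a : G) ≤ cz (a : G)), h1, inf_eq_right.2 hAK,
        inf_comm (cz (a : G)) B, mul_comm] at h2
      have h3 := Nat.eq_of_mul_eq_mul_right Nat.card_pos h2
      rw [h3]
      intro hd'
      exact (Nat.Prime.coprime_iff_not_dvd hp.out).1 hAp.symm hd'
    have hac : (a : G) ∉ center G := by
      intro hc'
      have h2 : (a : G) ∈ A ⊓ center G := Subgroup.mem_inf.2 ⟨a.2, hc'⟩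
      rw [hAz, Subgroup.mem_bot] at h2
      exact ha' (Subtype.ext h2)
    have hnd := hh.not_dvd_rel hp.out hpm hac hu' (hcoxa u a).symm
    obtain ⟨S₁, hS₁, hS₁u⟩ := exists_sylIn_le_of_not_dvd hnd
    obtain ⟨k', hk', hkk⟩ := sylIn_conj hR hS₁
    obtain ⟨a', ha'', b', hb', rfl⟩ := hfac k' hk'
    obtain ⟨hb'B, hb'K⟩ := Subgroup.mem_inf.1 hb'
    have hw'' : (w : G) ∈ B ⊓ cz (a : G) := Subgroup.mem_inf.2 ⟨w.2, hw'⟩
    have hw3 : b'⁻¹ * (w : G) * b' ∈ B ⊓ cz (a : G) :=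
      Subgroup.mul_mem _ (Subgroup.mul_mem _ (Subgroup.inv_mem _ hb') hw'') hb'
    have h4 := (hkk _).1 hw3
    have h5 : a' * b' * (b'⁻¹ * (w : G) * b') * (a' * b')⁻¹ = a' * w * a'⁻¹ := by group
    rw [h5] at h4
    have h6 : (a' * w * a'⁻¹) * u = u * (a' * w * a'⁻¹) := mem_cz.1 (hS₁u h4)
    have h7 : a' * w * a'⁻¹ = (a' * (w * a'⁻¹ * (w : G)⁻¹)) * w := by group
    rw [h7] at h6
    have h8 := (c.factor_comm u.2 (A.mul_mem ha'' (hA.conj_mem _ (A.inv_mem ha'') w)) w.2 h6).2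
    exact (Subtype.ext h8).symm
  have hcard : ∀ x : B, x ∉ φ.ker → Nat.card (Fx φ x) * n = Nat.card A := by
    intro x hx
    rw [hFx]
    have h1 := Subgroup.card_mul_index ((cz (x : G)).subgroupOf A)
    have h2 : ((cz (x : G)).subgroupOf A).index = n := (c.rel_of_big x.2 (hbig x hx)).1
    rw [h2] at h1
    exact h1
  have he : ∀ x y : B, x ∉ φ.ker → y ∉ φ.ker → Nat.card (Fx φ x) = Nat.card (Fx φ y) := by
    intro x y hx hy
    exact Nat.eq_of_mul_eq_mul_right hh.n_pos ((hcard x hx).trans (hcard y hy).symm)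
  have hf' : ∀ a : A, (∀ x, φ x a = a) → a = 1 := by
    intro a hfix
    have h1 : (a : G) ∈ center G := by
      rw [Subgroup.mem_center_iff]
      intro g
      obtain ⟨a', ha', b', hb', rfl⟩ := c.cover g
      have h5 : b' * a = a * b' := mem_cz.1 ((hφ ⟨b', hb'⟩ a).1 (hfix ⟨b', hb'⟩))
      have h6 := c.comm a' ha' a a.2
      calc a' * b' * a = a' * (b' * a) := by group
        _ = a' * (a * b') := by rw [h5]
        _ = (a' * a) * b' := by group
        _ = (a * a') * b' := by rw [h6]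
        _ = _ := by group
    have h2 : (a : G) ∈ A ⊓ center G := Subgroup.mem_inf.2 ⟨a.2, h1⟩
    rw [hAz, Subgroup.mem_bot] at h2
    exact Subtype.ext h2
  have hg : center B ≤ φ.ker := by
    intro x hx
    rw [hker]
    have h1 : (x : G) ∈ center G := by
      apply c.central_of_center_B x.2
      intro u hu
      exact mem_cz.2 (congrArg Subtype.val (Subgroup.mem_center_iff.1 hx ⟨u, hu⟩))
    intro y _
    exact mem_cz.2 (Subgroup.mem_center_iff.1 h1 y)
  have hnt : Nontrivial A := by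
    by_contra hnt
    rw [not_nontrivial_iff_subsingleton] at hnt
    obtain ⟨x, hx⟩ := hh.hexn
    have h1 : m * n ∣ Nat.card G := hx ▸ Subgroup.index_dvd_card _
    rw [c.card_G, Nat.card_of_subsingleton (1 : A), one_mul] at h1
    exact hh.n_ne_one (Nat.Coprime.eq_one_of_dvd c.cB.symm ((dvd_mul_left n m).trans h1))
  obtain ⟨hmp, hStk, hQc⟩ := final_stage φ hBp hAp hh.hm hnt ha hb hc hd he hf' hg
  subst hmp
  obtain ⟨a₀, ha₀⟩ := exists_ne (1 : A)
  have hMiff : ∀ x : G, x ∈ centralizer (A : Set G) ↔ A ≤ cz x := by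
    intro x
    rw [Subgroup.mem_centralizer_iff]
    exact ⟨fun h y hy => mem_cz.2 (h y hy), fun h y hy => mem_cz.1 (h hy)⟩
  refine ⟨hp.out, ?_, ⟨centralizer (A : Set G), inferInstance, ?_, ?_, ?_⟩, ⟨A, hA, c.cA, f, ?_⟩, ?_⟩
  · obtain ⟨x, hx⟩ : ∃ x : B, x ∉ φ.ker := by
      by_contra hcon
      push Not at hcon
      have h1 := ha a₀ ha₀
      have h2 : St φ a₀ = ⊤ := eq_top_iff.2 fun x _ => ker_le_St φ a₀ (hcon x)
      rw [h2, Subgroup.index_top] at h1
      have := hh.hm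
      omega
    have hFb : Fx φ x = ⊥ := by
      rw [eq_bot_iff]
      intro a ha'
      by_contra ha1
      apply hx
      rw [← hStk a ha1]
      exact ha'
    have h1 := hcard x hx
    rw [hFb, Subgroup.card_bot, one_mul] at h1
    letI : MulAction B A := MulAction.compHom A φ
    have hfp : Nat.card (MulAction.fixedPoints B A) = 1 := by
      rw [Nat.card_eq_one_iff_unique]
      refine ⟨⟨?_⟩, ⟨⟨1, fun u => map_one (φ u)⟩⟩⟩
      rintro ⟨a, ha'⟩ ⟨a', ha''⟩
      have h2 : a = 1 := hf' a ha'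
      have h3 : a' = 1 := hf' a' ha''
      exact Subtype.ext (h2.trans h3.symm)
    have h2 := hBp.card_modEq_card_fixedPoints A
    rw [hfp, ← h1] at h2
    have hn1 : 1 ≤ n := hh.n_pos
    exact (Nat.modEq_iff_dvd' hn1).1 h2.symm
  · ext x
    show x ∈ centralizer (A : Set G) ↔ _
    rw [hMiff]
    constructor
    · intro h1
      rcases hh.hsz x with h2 | h2 | h2
      · exact Or.inl h2
      · exact Or.inr h2
      · exact absurd h2 (hnB x h1)
    · rintro (h2 | h2)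
      · exact c.le_cz_of_m (by show (cz x).index ∣ _; rw [show (cz x).index = 1 from h2]; exact one_dvd _)
      · exact c.le_cz_of_m (by show (cz x).index ∣ _; rw [show (cz x).index = _ from h2])
  · rw [← Cfsg.Agent.Lib.ClassSizes.PrimeClass.index_subgroupOf_eq_of_cover B (centralizer (A : Set G))
      (hcovB _ (fun y hy => (hMiff y).2 (fun z hz => mem_cz.2 (c.comm z hz y hy))))]
    have h1 : (centralizer (A : Set G)).subgroupOf B = φ.ker := by
      ext u
      rw [Subgroup.mem_subgroupOf, hMiff, hker]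
    rw [h1, ← hStk a₀ ha₀]
    exact ha a₀ ha₀
  · refine ⟨⟨fun x y => Subtype.ext ?_⟩⟩
    obtain ⟨x, hx⟩ := x
    obtain ⟨y, hy⟩ := y
    show x * y = y * x
    obtain ⟨a₁, ha₁, b₁, hb₁, rfl⟩ := c.cover x
    obtain ⟨a₂, ha₂, b₂, hb₂, rfl⟩ := c.cover y
    have hAM : ∀ z ∈ A, z ∈ centralizer (A : Set G) := fun z hz =>
      (hMiff z).2 (fun w hw => mem_cz.2 (c.comm w hw z hz))
    have hb₁M : b₁ ∈ centralizer (A : Set G) := by
      have h1 : b₁ = a₁⁻¹ * (a₁ * b₁) := by group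
      rw [h1]
      exact Subgroup.mul_mem _ (Subgroup.inv_mem _ (hAM a₁ ha₁)) hx
    have hb₂M : b₂ ∈ centralizer (A : Set G) := by
      have h1 : b₂ = a₂⁻¹ * (a₂ * b₂) := by group
      rw [h1]
      exact Subgroup.mul_mem _ (Subgroup.inv_mem _ (hAM a₂ ha₂)) hy
    have hk₁ : (⟨b₁, hb₁⟩ : B) ∈ St φ a₀ := by
      rw [hStk a₀ ha₀, hker]
      exact (hMiff b₁).1 hb₁M
    have hk₂ : (⟨b₂, hb₂⟩ : B) ∈ St φ a₀ := by
      rw [hStk a₀ ha₀, hker]
      exact (hMiff b₂).1 hb₂M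
    have h1 : b₁ * b₂ = b₂ * b₁ := congrArg Subtype.val (hd a₀ ha₀ _ hk₁ _ hk₂)
    have h2 : a₂ * b₁ = b₁ * a₂ := (Subgroup.mem_centralizer_iff.1 hb₁M) a₂ ha₂
    have h3 : a₁ * b₂ = b₂ * a₁ := (Subgroup.mem_centralizer_iff.1 hb₂M) a₁ ha₁
    have h4 := c.comm a₁ ha₁ a₂ ha₂
    calc a₁ * b₁ * (a₂ * b₂) = a₁ * (b₁ * a₂) * b₂ := by group
      _ = a₁ * (a₂ * b₁) * b₂ := by rw [h2]
      _ = (a₁ * a₂) * (b₁ * b₂) := by group
      _ = (a₂ * a₁) * (b₂ * b₁) := by rw [h1, h4]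
      _ = a₂ * (a₁ * b₂) * b₁ := by group
      _ = a₂ * (b₂ * a₁) * b₁ := by rw [h3]
      _ = _ := by group
  · rw [c.index_A, hf]
  · intro P
    have hBnd : ¬ m ∣ B.index := by
      have h1 := Subgroup.card_mul_index B
      rw [c.card_G, mul_comm] at h1
      have h2 : B.index = Nat.card A := Nat.eq_of_mul_eq_mul_right Nat.card_pos h1
      rw [h2]
      intro hd'
      exact (Nat.Prime.coprime_iff_not_dvd hp.out).1 hAp.symm hd'
    let B' : Sylow m G := hBp.toSylow hBnd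
    have hcB : Nat.card (commutator B) = m := by
      apply Cfsg.Agent.Lib.PSmall.card_commutator_of_index_center hp.out
      obtain ⟨x, hx⟩ : ∃ x : B, x ∉ φ.ker := by
        by_contra hcon
        push Not at hcon
        have h1 := ha a₀ ha₀
        have h2 : St φ a₀ = ⊤ := eq_top_iff.2 fun x _ => ker_le_St φ a₀ (hcon x)
        rw [h2, Subgroup.index_top] at h1
        have := hh.hm
        omega
      refine index_center_eq φ.ker (by rw [← hStk a₀ ha₀]; exact ha a₀ ha₀) ?_ hx (hb x fun h1 => hx (hg h1)) hQc hg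
      intro u hu w hw
      rw [← hStk a₀ ha₀] at hu hw
      exact hd a₀ ha₀ u hu w hw
    have he' : B ≃* P := Sylow.equiv B' P
    have h1 : (commutator B).map he'.toMonoidHom = commutator P := by
      rw [_root_.commutator_def, _root_.commutator_def, Subgroup.map_commutator,
        Subgroup.map_top_of_surjective _ he'.surjective]
    rw [← h1, Subgroup.card_map_of_injective he'.injective, hcB]

end Cpl

end Cfsg.Agent.Lib.ClassSizes.CMN
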