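import Mathlib
import Cfsg.Agent.Lib.KS2.QuatSylow
import Cfsg.Agent.Lib.Classical.Tori
import Cfsg.Agent.Lib.Classical.SL2Sylow

/-! Redundant Sylow subgroups of `SL(2, q)` and `PSL(2, q)`. -/

set_option autoImplicit false

namespace Cfsg.Agent.Lib.ClassSizes.SLRedundant

open Cfsg.Agent.Lib.KS2.SL2
open Matrix
open scoped MatrixGroups Pointwise

/-- Redundant Sylow subgroups. -/
def Red (p : ℕ) [Fact p.Prime] (G : Type*) [Group G] : Prop :=
  ∃ Q : Sylow p G, ∀ x : G, (∃ k : ℕ, orderOf x = p ^ k) → ∃ P : Sylow p G, P ≠ Q ∧ x ∈ P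

section sylow

variable {G : Type*} [Group G] {p : ℕ} [Fact p.Prime]

theorem mem_smul_sylow (g : G) (P : Sylow p G) (x : G) : x ∈ g • P ↔ g⁻¹ * x * g ∈ P := by
  change x ∈ ((g • P : Sylow p G) : Subgroup G) ↔ _
  rw [Sylow.coe_subgroup_smul, Subgroup.mem_pointwise_smul_iff_inv_smul_mem]
  simp [MulAut.smul_def]
  rfl

theorem exists_sylow_of_order [Finite G] {x : G} (hx : ∃ k : ℕ, orderOf x = p ^ k) :
    ∃ P : Sylow p G, x ∈ P := by
  obtain ⟨k, hk⟩ := hx
  have hP : IsPGroup p (Subgroup.zpowers x) := by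
    apply IsPGroup.of_card (n := k)
    rw [Nat.card_zpowers, hk]
  obtain ⟨P, hP'⟩ := hP.exists_le_sylow
  exact ⟨P, hP' (Subgroup.mem_zpowers x)⟩

end sylow

section dic

variable {F : Type*} [Field F] [Finite F] {T : Subgroup SL(2, F)} {w : SL(2, F)}

/-- The data of the Sylow `2`-subgroup in a dicyclic configuration. -/
theorem exists_QData (hD : IsDic T w) (hcyc : IsCyclic T) (h4 : 4 ∣ Nat.card T)
    (hidx : ¬ 4 ∣ T.index) :
    ∃ (Q : Subgroup SL(2, F)) (hData : QData T w Q), ¬ 2 ∣ hData.S.index ∧ IsCyclic Q ∧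
      4 ∣ Nat.card Q := by
  classical
  have hf2 : Fact (Nat.Prime 2) := ⟨Nat.prime_two⟩
  obtain ⟨Q₀⟩ : Nonempty (Sylow 2 T) := inferInstance
  set Q := (Q₀ : Subgroup T).map T.subtype with hQ
  have hQcard : Nat.card Q = Nat.card Q₀ :=
    (Nat.card_congr (Subgroup.equivMapOfInjective (Q₀ : Subgroup T) T.subtype T.subtype_injective).toEquiv).symm
  have hQmul : Nat.card Q₀ * (Q₀ : Subgroup T).index = Nat.card T := Subgroup.card_mul_index _
  have hQodd : ¬ 2 ∣ (Q₀ : Subgroup T).index := Q₀.not_dvd_index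
  have hQ4 : 4 ∣ Nat.card Q := by
    rw [hQcard]
    have hco : Nat.Coprime 4 (Q₀ : Subgroup T).index :=
      (Nat.Coprime.pow_left 2 ((Nat.Prime.coprime_iff_not_dvd Nat.prime_two).mpr hQodd))
    rw [← hQmul] at h4
    exact hco.dvd_of_dvd_mul_right h4
  have hData : QData T w Q := by
    refine ⟨hD, Subgroup.map_subtype_le _, Q₀.isPGroup'.map _, ?_⟩
    intro t ht k htk
    have hnorm : Subgroup.zpowers (⟨t, ht⟩ : T) ≤ Subgroup.normalizer ((Q₀ : Subgroup T) : Set T) := by
      intro y _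
      rw [Subgroup.mem_normalizer_iff]
      intro z
      have : y * z * y⁻¹ = z := by
        apply Subtype.ext
        have := hD.comm y.1 y.2 z.1 z.2
        simp only [Subgroup.coe_mul, Subgroup.coe_inv]
        rw [this, mul_inv_cancel_right]
      rw [this]
    have hp : IsPGroup 2 (Subgroup.zpowers (⟨t, ht⟩ : T)) := by
      rintro ⟨_, n, rfl⟩
      refine ⟨k, ?_⟩
      apply Subtype.ext
      show ((⟨t, ht⟩ : T) ^ n) ^ (2 ^ k) = 1
      have h1 : (⟨t, ht⟩ : T) ^ (2 ^ k) = 1 := Subtype.ext htk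
      rw [← zpow_natCast, ← _root_.zpow_mul, mul_comm, _root_.zpow_mul, zpow_natCast, h1, _root_.one_zpow]
    have hsup := IsPGroup.to_sup_of_normal_left' Q₀.isPGroup' hp hnorm
    have hmax := Q₀.is_maximal' hsup le_sup_left
    have hmem : (⟨t, ht⟩ : T) ∈ (Q₀ : Subgroup T) := by
      rw [← hmax]
      exact Subgroup.mem_sup_right (Subgroup.mem_zpowers _)
    exact ⟨_, hmem, rfl⟩
  have hQcyc : IsCyclic Q := by
    have : IsCyclic (Q₀ : Subgroup T) := inferInstance
    exact (Subgroup.equivMapOfInjective (Q₀ : Subgroup T) T.subtype T.subtype_injective).isCyclic.mp this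
  have hSi : ¬ 2 ∣ hData.S.index := by
    intro hdvd
    apply hidx
    have h1 := Subgroup.card_mul_index hData.S
    have h3 := Subgroup.card_mul_index T
    rw [hData.card_S, hQcard] at h1
    rw [← hQmul, ← h1] at h3
    have hpos : 0 < Nat.card Q₀ := Nat.card_pos
    have h5 : (Q₀ : Subgroup T).index * T.index = 2 * hData.S.index := by
      apply Nat.eq_of_mul_eq_mul_left hpos
      calc Nat.card Q₀ * ((Q₀ : Subgroup T).index * T.index) = Nat.card Q₀ * (Q₀ : Subgroup T).index * T.index := by ring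
        _ = 2 * Nat.card Q₀ * hData.S.index := h3
        _ = _ := by ring
    have h6 : 4 ∣ (Q₀ : Subgroup T).index * T.index := by
      rw [h5]
      obtain ⟨m, hm⟩ := hdvd
      exact ⟨m, by rw [hm]; ring⟩
    have hco : Nat.Coprime 4 (Q₀ : Subgroup T).index :=
      (Nat.Coprime.pow_left 2 ((Nat.Prime.coprime_iff_not_dvd Nat.prime_two).mpr hQodd))
    exact hco.dvd_of_dvd_mul_left h6
  exact ⟨Q, hData, hSi, hQcyc, hQ4⟩

variable {Q : Subgroup SL(2, F)}

/-- An element of `Q` with square `-1`. -/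
theorem exists_c (hData : QData T w Q) (hcyc : IsCyclic Q) (h4 : 4 ∣ Nat.card Q) :
    ∃ c ∈ Q, c * c = mone := by
  classical
  obtain ⟨g, hg⟩ := IsCyclic.exists_generator (α := Q)
  have hog : orderOf g = Nat.card Q := by
    rw [← Nat.card_zpowers g, (Subgroup.eq_top_iff' _).mpr hg]
    exact Nat.card_congr Subgroup.topEquiv.toEquiv
  obtain ⟨m, hm⟩ := h4
  have hm0 : 0 < m := by
    have : 0 < Nat.card Q := Nat.card_pos
    rcases Nat.eq_zero_or_pos m with h | h
    · rw [h] at hm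
      omega
    · exact h
  have h2F := hData.dic.two_ne
  refine ⟨((g ^ m : Q) : SL(2, F)), (g ^ m).2, ?_⟩
  have h1 : ((g ^ m : Q) : SL(2, F)) * ((g ^ m : Q) : SL(2, F)) = ((g ^ (2 * m) : Q) : SL(2, F)) := by
    rw [two_mul, pow_add]
    rfl
  rw [h1]
  have h3 : ((g ^ (2 * m) : Q) : SL(2, F)) * ((g ^ (2 * m) : Q) : SL(2, F)) = 1 := by
    have h4 : (g ^ (2 * m) * g ^ (2 * m) : Q) = 1 := by
      rw [← pow_add, show 2 * m + 2 * m = 4 * m by ring, ← hm, ← hog]
      exact pow_orderOf_eq_one g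
    exact congrArg Subtype.val h4
  rcases isScalar_cases _ (isScalar_of_mul_self h2F _ h3) with h5 | h5
  · exfalso
    have h6 : g ^ (2 * m) = 1 := Subtype.ext h5
    have h7 := orderOf_dvd_of_pow_eq_one h6
    rw [hog, hm] at h7
    have := Nat.le_of_dvd (by omega) h7
    omega
  · exact h5

theorem conj_into_Q (hData : QData T w Q) {x c : SL(2, F)} (hx : x ∈ hData.S) (hc : c ∈ Q)
    (hcc : c * c = mone) : ∃ y : SL(2, F), y * x * y⁻¹ ∈ Q := by
  by_cases hxQ : x ∈ Q
  · exact ⟨1, by simpa using hxQ⟩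
  · have hxx := hData.mul_self_of_not_mem hx hxQ
    have hu := hx.resolve_left hxQ
    have hcT := hData.le hc
    have hcinv : c⁻¹ = mone * c := by
      have h1 : mone * c * c = 1 := by
        rw [mul_assoc, hcc]
        exact mone_mul_self
      exact inv_eq_of_mul_eq_one_right (by
        rw [← mul_assoc, ← mone_comm, mul_assoc, hcc]
        exact mone_mul_self)
    have hcw : x * c = mone * (c * x) := by
      set u := w⁻¹ * x with hud
      have hxu : x = w * u := by rw [hud]; group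
      have h1 : u * c = c * u := hData.dic.comm u (hData.le hu) c hcT
      have h2 := hData.dic.wt c hcT
      calc x * c = w * (u * c) := by rw [hxu]; group
        _ = w * (c * u) := by rw [h1]
        _ = (w * c * w⁻¹) * (w * u) := by group
        _ = c⁻¹ * x := by rw [h2, ← hxu]
        _ = mone * (c * x) := by rw [hcinv, mul_assoc]
    refine ⟨quatY hData.dic.two_ne c x hcc hxx hcw, ?_⟩
    have h3 := quatY_conj3 (h2 := hData.dic.two_ne) (c := c) (w := x) (hc := hcc) (hw := hxx) (hcw := hcw)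
    rw [h3]
    simpa using hc

theorem two_sylows (hD : IsDic T w) (hcyc : IsCyclic T) (h4 : 4 ∣ Nat.card T)
    (hidx : ¬ 4 ∣ T.index) {t : SL(2, F)} (htT : t ∈ T) (ht1 : t ≠ 1) (htodd : Odd (orderOf t))
    {x : SL(2, F)} (hx : ∃ k : ℕ, orderOf x = 2 ^ k) :
    ∃ P₁ P₂ : Sylow 2 SL(2, F), P₁ ≠ P₂ ∧ x ∈ P₁ ∧ x ∈ P₂ := by
  classical
  haveI : Fact (Nat.Prime 2) := ⟨Nat.prime_two⟩
  obtain ⟨Q, hData, hSi, hQc, hQ4⟩ := exists_QData hD hcyc h4 hidx
  let S₀ : Sylow 2 SL(2, F) := hData.isPGroup_S.toSylow hSi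
  have hS₀ : ∀ u, u ∈ S₀ ↔ u ∈ hData.S := fun u => Iff.rfl
  have hne : S₀ ≠ t • S₀ := by
    intro he
    have hw : w ∈ S₀ := hData.w_mem
    have h1 : w ∈ t • S₀ := by rw [← he]; exact hw
    rw [mem_smul_sylow] at h1
    have h2 := hD.wt t htT
    have h3 : t⁻¹ * w * t = (t * t)⁻¹ * w := by
      have h5 : w * t = t⁻¹ * w := by
        calc w * t = (w * t * w⁻¹) * w := by group
          _ = t⁻¹ * w := by rw [h2]
      calc t⁻¹ * w * t = t⁻¹ * (w * t) := by group
        _ = t⁻¹ * (t⁻¹ * w) := by rw [h5]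
        _ = (t * t)⁻¹ * w := by group
    rw [h3] at h1
    have h1' : (t * t)⁻¹ * w ∈ hData.S := h1
    have h6 : (t * t)⁻¹ ∈ hData.S := by
      have := hData.S.mul_mem h1' (hData.S.inv_mem hData.w_mem)
      rwa [mul_inv_cancel_right] at this
    have h7 : t * t ∈ hData.S := by
      have := hData.S.inv_mem h6
      rwa [inv_inv] at this
    obtain ⟨k, hk⟩ := hData.isPGroup_S ⟨t * t, h7⟩
    have h8 : (t * t) ^ 2 ^ k = 1 := congrArg Subtype.val hk
    have h9 : t ^ (2 ^ (k + 1)) = 1 := by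
      rw [pow_succ', pow_mul, sq]
      exact h8
    have h10 := orderOf_dvd_of_pow_eq_one h9
    have h11 : Nat.Coprime (orderOf t) (2 ^ (k + 1)) :=
      Nat.Coprime.pow_right _ (Nat.coprime_two_right.mpr htodd)
    have h12 : orderOf t = 1 := Nat.Coprime.eq_one_of_dvd h11 h10
    exact ht1 (orderOf_eq_one_iff.mp h12)
  obtain ⟨P, hxP⟩ := exists_sylow_of_order hx
  obtain ⟨g, hg⟩ := MulAction.exists_smul_eq SL(2, F) S₀ P
  rw [← hg, mem_smul_sylow] at hxP
  obtain ⟨c, hcQ, hcc⟩ := exists_c hData hQc hQ4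
  obtain ⟨y, hy⟩ := conj_into_Q hData hxP hcQ hcc
  set x₂ := y * (g⁻¹ * x * g) * y⁻¹ with hx₂
  let h := g * y⁻¹
  have hhx : h⁻¹ * x * h = x₂ := by
    simp only [h, hx₂]
    group
  refine ⟨h • S₀, h • (t • S₀), ?_, ?_, ?_⟩
  · intro he
    exact hne (smul_left_cancel h he)
  · rw [mem_smul_sylow, hhx]
    exact hData.le_S hy
  · rw [mem_smul_sylow, hhx, mem_smul_sylow]
    have h1 : x₂ * t = t * x₂ := hD.comm _ (hData.le hy) _ htT
    have h2 : t⁻¹ * x₂ * t = x₂ := by
      rw [mul_assoc, h1]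
      group
    rw [h2]
    exact hData.le_S hy

theorem red_of_two_sylows (hD : IsDic T w) (hcyc : IsCyclic T) (h4 : 4 ∣ Nat.card T)
    (hidx : ¬ 4 ∣ T.index) (hT : ¬ ∃ k : ℕ, Nat.card T = 2 ^ k) :
    haveI : Fact (Nat.Prime 2) := ⟨Nat.prime_two⟩
    Red 2 SL(2, F) := by
  classical
  haveI : Fact (Nat.Prime 2) := ⟨Nat.prime_two⟩
  -- an odd order element of `T`
  have hex : ∃ r : ℕ, r.Prime ∧ r ∣ Nat.card T ∧ r ≠ 2 := by
    by_contra hcon
    push Not at hcon
    apply hT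
    refine ⟨_, Nat.eq_prime_pow_of_unique_prime_dvd Nat.card_pos.ne' (fun {d} hd hdv => hcon d hd hdv)⟩
  obtain ⟨r, hr, hrd, hr2⟩ := hex
  haveI : Fact r.Prime := ⟨hr⟩
  obtain ⟨t₀, ht₀⟩ := exists_prime_orderOf_dvd_card' (G := T) r hrd
  have htord : orderOf (t₀ : SL(2, F)) = r := by
    rw [Subgroup.orderOf_coe]
    exact ht₀
  have ht1 : (t₀ : SL(2, F)) ≠ 1 := by
    intro he
    rw [he, orderOf_one] at htord
    exact hr.one_lt.ne htord
  have htodd : Odd (orderOf (t₀ : SL(2, F))) := by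
    rw [htord]
    exact hr.odd_of_ne_two hr2
  obtain ⟨Q₀⟩ : Nonempty (Sylow 2 SL(2, F)) := inferInstance
  refine ⟨Q₀, fun x hx => ?_⟩
  obtain ⟨P₁, P₂, hne, h1, h2⟩ := two_sylows hD hcyc h4 hidx t₀.2 ht1 htodd hx
  by_cases he : P₁ = Q₀
  · refine ⟨P₂, ?_, h2⟩
    rw [← he]
    exact hne.symm
  · exact ⟨P₁, he, h1⟩

theorem not_red_of_two_group (hD : IsDic T w) (hcyc : IsCyclic T) (h4 : 4 ∣ Nat.card T)
    (hidx : ¬ 4 ∣ T.index) (hT : ∃ k : ℕ, Nat.card T = 2 ^ k) :
    haveI : Fact (Nat.Prime 2) := ⟨Nat.prime_two⟩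
    ¬ Red 2 SL(2, F) := by
  classical
  haveI : Fact (Nat.Prime 2) := ⟨Nat.prime_two⟩
  obtain ⟨Q, hData, hSi, hQc, hQ4⟩ := exists_QData hD hcyc h4 hidx
  obtain ⟨k, hk⟩ := hT
  have hTQ : T ≤ Q := by
    intro t ht
    apply hData.max t ht k
    have : (⟨t, ht⟩ : T) ^ Nat.card T = 1 := pow_card_eq_one'
    rw [hk] at this
    exact congrArg Subtype.val this
  have hQT : Q = T := le_antisymm hData.le hTQ
  let S₀ : Sylow 2 SL(2, F) := hData.isPGroup_S.toSylow hSi
  obtain ⟨g₀, hg₀⟩ := IsCyclic.exists_generator (α := T)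
  have hog : orderOf (g₀ : SL(2, F)) = Nat.card T := by
    rw [Subgroup.orderOf_coe, ← Nat.card_zpowers g₀, (Subgroup.eq_top_iff' _).mpr hg₀]
    exact Nat.card_congr Subgroup.topEquiv.toEquiv
  set x₀ : SL(2, F) := g₀.1 with hx₀
  have hxs : ¬ IsScalar x₀ := by
    intro hs
    have h1 : x₀ * x₀ = 1 := by
      rcases isScalar_cases _ hs with h2 | h2 <;> rw [h2]
      · simp
      · exact mone_mul_self
    have h2 : orderOf x₀ ∣ 2 := orderOf_dvd_of_pow_eq_one (by rw [sq]; exact h1)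
    rw [hog] at h2
    have h3 := Nat.dvd_trans h4 h2
    omega
  have hcardS : Nat.card S₀ = 2 * Nat.card T := by
    change Nat.card hData.S = _
    rw [hData.card_S, hQT]
  have key : ∀ P : Sylow 2 SL(2, F), x₀ ∈ P →
      (P : Subgroup SL(2, F)) = Subgroup.normalizer (T : Set SL(2, F)) := by
    intro P hP
    have hTP : T ≤ P := by
      intro t ht
      obtain ⟨n, hn⟩ := Subgroup.mem_zpowers_iff.mp (hg₀ ⟨t, ht⟩)
      have h1 : x₀ ^ n = t := congrArg Subtype.val hn
      rw [← h1]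
      exact Subgroup.zpow_mem _ hP n
    have hPc : Nat.card P = 2 * Nat.card T := by
      rw [← hcardS]
      exact Nat.card_congr (Sylow.equiv P S₀).toEquiv
    have hH : (T.subgroupOf (P : Subgroup SL(2, F))).index = 2 := by
      have h1 := (T.subgroupOf (P : Subgroup SL(2, F))).card_mul_index
      have h2 : Nat.card (T.subgroupOf (P : Subgroup SL(2, F))) = Nat.card T :=
        Nat.card_congr (Subgroup.subgroupOfEquivOfLe hTP).toEquiv
      rw [h2, hPc] at h1
      have hpos : 0 < Nat.card T := Nat.card_pos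
      exact Nat.eq_of_mul_eq_mul_left hpos (by rw [h1]; ring)
    have hN := Subgroup.normal_of_index_eq_two hH
    have hconj : ∀ g ∈ (P : Subgroup SL(2, F)), ∀ h ∈ T, g * h * g⁻¹ ∈ T := by
      intro g hg h hh
      have := hN.conj_mem ⟨h, hTP hh⟩ hh ⟨g, hg⟩
      exact this
    have hle : (P : Subgroup SL(2, F)) ≤ Subgroup.normalizer (T : Set SL(2, F)) := by
      intro g hg
      rw [Subgroup.mem_normalizer_iff]
      intro h
      constructor
      · exact hconj g hg h
      · intro hh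
        have := hconj g⁻¹ (Subgroup.inv_mem _ hg) _ hh
        have e : g⁻¹ * (g * h * g⁻¹) * g⁻¹⁻¹ = h := by group
        rwa [e] at this
    exact Subgroup.eq_of_le_of_card_ge hle (by rw [hD.card_normalizer x₀ g₀.2 hxs, hPc])
  rintro ⟨Q', hQ'⟩
  obtain ⟨g, hg⟩ := MulAction.exists_smul_eq SL(2, F) S₀ Q'
  have hord : orderOf (g * x₀ * g⁻¹) = 2 ^ k := by
    have h1 : orderOf ((MulAut.conj g) x₀) = orderOf x₀ := MulEquiv.orderOf_eq _ _
    rw [MulAut.conj_apply, hog, hk] at h1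
    exact h1
  obtain ⟨P, hne, hP⟩ := hQ' _ ⟨k, hord⟩
  have h1 : x₀ ∈ g⁻¹ • P := by
    rw [mem_smul_sylow, inv_inv]
    exact hP
  have h2 : x₀ ∈ S₀ := hData.le_S (hTQ g₀.2)
  have h3 := (key _ h1).trans (key _ h2).symm
  have h4 : g⁻¹ • P = S₀ := Sylow.ext h3
  apply hne
  rw [← hg, ← h4, smul_inv_smul]

end dic

section main

variable {F : Type*} [Field F] [Fintype F]

/-- The dicyclic configuration for odd `q`. -/
theorem exists_dic (hodd : Odd (Fintype.card F)) :
    ∃ (T : Subgroup SL(2, F)) (w : SL(2, F)), IsDic T w ∧ IsCyclic T ∧ 4 ∣ Nat.card T ∧ ¬ 4 ∣ T.index ∧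
      ((Nat.card T = Fintype.card F - 1 ∧ Fintype.card F % 4 = 1) ∨
        (Nat.card T = Fintype.card F + 1 ∧ Fintype.card F % 4 = 3)) := by
  have h2 := two_ne_zero_of_odd hodd
  set q := Fintype.card F with hq
  have hq2 : 2 ≤ q := Fintype.one_lt_card
  have hcardG : Nat.card SL(2, F) = q * (q - 1) * (q + 1) := by
    rw [card_SL2]
    have key : ∀ q : ℕ, 2 ≤ q → q * (q ^ 2 - 1) = q * (q - 1) * (q + 1) := by
      intro q hq
      obtain ⟨k, rfl⟩ : ∃ k, q = k + 1 := ⟨q - 1, by omega⟩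
      simp only [Nat.add_sub_cancel]
      have : (k + 1) ^ 2 - 1 = k * (k + 1 + 1) := by
        have : (k + 1) ^ 2 = k * (k + 1 + 1) + 1 := by ring
        omega
      rw [this]; ring
    exact key q hq2
  obtain ⟨k, hk⟩ := hodd
  by_cases h14 : q % 4 = 1
  · have hc := card_dtor (F := F)
    have hidx : (dtor F).index = q * (q + 1) := by
      have h1 := Subgroup.card_mul_index (dtor F)
      rw [hc, hcardG] at h1
      have : (q - 1) * (dtor F).index = (q - 1) * (q * (q + 1)) := by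
        rw [h1]; ring
      exact Nat.eq_of_mul_eq_mul_left (by omega) this
    have hni : ¬ 4 ∣ (dtor F).index := by
      rw [hidx]
      intro hd
      have h5 : (q * (q + 1)) % 4 = 0 := Nat.mod_eq_zero_of_dvd hd
      rw [Nat.mul_mod, Nat.add_mod, h14] at h5
      norm_num at h5
    exact ⟨dtor F, wel F, isDic_dtor h2, isCyclic_dtor, by rw [hc]; omega, hni, Or.inl ⟨hc, h14⟩⟩
  · have h2r : ringChar F ≠ 2 := by
      intro h
      have := FiniteField.even_card_of_char_two h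
      omega
    have h34 : q % 4 = 3 := by omega
    obtain ⟨a, r, s, ha, hrs, hf, hD⟩ := exists_nonsplit (F := F) h2r
    have hc := card_torus 0 (-a) hf
    have hidx : (torus 0 (-a)).index = q * (q - 1) := by
      have h1 := Subgroup.card_mul_index (torus 0 (-a))
      rw [hc, hcardG] at h1
      have : (q + 1) * (torus 0 (-a)).index = (q + 1) * (q * (q - 1)) := by
        rw [h1]; ring
      exact Nat.eq_of_mul_eq_mul_left (by omega) this
    have hni : ¬ 4 ∣ (torus 0 (-a)).index := by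
      rw [hidx]
      intro hd
      obtain ⟨m, hm⟩ : ∃ m, q = 4 * m + 3 := ⟨q / 4, by omega⟩
      have h5 : q * (q - 1) = 4 * (4 * m * m + 5 * m + 1) + 2 := by
        rw [hm, show 4 * m + 3 - 1 = 4 * m + 2 by omega]; ring
      rw [h5] at hd
      omega
    exact ⟨_, _, hD, torus_isCyclic 0 (-a) hf, by rw [hc]; omega, hni, Or.inr ⟨hc, h34⟩⟩

theorem two_pow_mod_four {k n : ℕ} (h : n = 2 ^ k) (h2 : n % 4 = 2) : n = 2 := by
  rcases k with _ | _ | k
  · simp at h
    omega
  · simpa using h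
  · exfalso
    rw [pow_succ, pow_succ] at h
    omega

theorem main_SL2 (p : ℕ) [Fact p.Prime] : Red p SL(2, F) ↔
    (p = 2 ∧ (¬ ∃ k : ℕ, Fintype.card F + 1 = 2 ^ k) ∧ (¬ ∃ k : ℕ, Fintype.card F = 2 ^ k) ∧
        ¬ ∃ k : ℕ, Fintype.card F = 2 ^ k + 1) := by
  classical
  have hp : p.Prime := Fact.out
  have hq2 : 2 ≤ Fintype.card F := Fintype.one_lt_card
  constructor
  · rintro ⟨Q, hQ⟩
    by_cases hpc : p = ringChar F
    · exfalso
      haveI : CharP F p := by rw [hpc]; exact ringChar.charP F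
      obtain ⟨r, hr⟩ := Cfsg.Agent.Lib.Classical.exists_eq_UU (p := p) Q
      have hcard : 1 < Nat.card (Cfsg.Agent.Lib.Classical.UU r) := by
        rw [Cfsg.Agent.Lib.Classical.card_UU, Nat.card_eq_fintype_card]
        exact hq2
      haveI : Nontrivial (Cfsg.Agent.Lib.Classical.UU r) := Finite.one_lt_card_iff_nontrivial.mp hcard
      obtain ⟨x, hx1⟩ := exists_ne (1 : Cfsg.Agent.Lib.Classical.UU r)
      obtain ⟨k, hk⟩ := Cfsg.Agent.Lib.Classical.isPGroup_UU (p := p) r x
      have hk' : (x : SL(2, F)) ^ p ^ k = 1 := congrArg Subtype.val hk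
      obtain ⟨j, -, hj⟩ := (Nat.dvd_prime_pow hp).mp (orderOf_dvd_of_pow_eq_one hk')
      obtain ⟨P, hne, hxP⟩ := hQ x ⟨j, hj⟩
      obtain ⟨r', hr'⟩ := Cfsg.Agent.Lib.Classical.exists_eq_UU (p := p) P
      have hrr : r' ≠ r := by
        rintro rfl
        exact hne (Sylow.ext (hr'.trans hr.symm))
      have hx2 : (x : SL(2, F)) ∈ Cfsg.Agent.Lib.Classical.UU r' ⊓ Cfsg.Agent.Lib.Classical.UU r := by
        refine ⟨?_, x.2⟩
        rw [← hr']
        exact hxP
      rw [Cfsg.Agent.Lib.Classical.UU_inf_eq_bot hrr] at hx2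
      exact hx1 (Subtype.ext (Subgroup.mem_bot.mp hx2))
    · by_cases hp2 : p = 2
      · subst hp2
        have h2r : ringChar F ≠ 2 := fun h => hpc h.symm
        have hodd : Odd (Fintype.card F) := by
          rw [Nat.odd_iff]
          exact FiniteField.odd_card_of_char_ne_two h2r
        obtain ⟨T, w, hD, hcyc, h4, hidx, hT⟩ := exists_dic hodd
        have hmod : Fintype.card F % 2 = 1 := Nat.odd_iff.mp hodd
        refine ⟨rfl, ?_, ?_, ?_⟩
        · rintro ⟨k, hk⟩
          rcases hT with ⟨hT, h14⟩ | ⟨hT, h34⟩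
          · have := two_pow_mod_four hk (by omega)
            omega
          · exact not_red_of_two_group hD hcyc h4 hidx ⟨k, by rw [hT, hk]⟩ ⟨Q, hQ⟩
        · rintro ⟨k, hk⟩
          rcases k with _ | k
          · simp at hk
            omega
          · rw [pow_succ] at hk
            omega
        · rintro ⟨k, hk⟩
          rcases hT with ⟨hT, h14⟩ | ⟨hT, h34⟩
          · exact not_red_of_two_group hD hcyc h4 hidx ⟨k, by rw [hT, hk]; simp⟩ ⟨Q, hQ⟩
          · have h5 : Fintype.card F - 1 = 2 ^ k := by omega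
            have h6 := two_pow_mod_four h5 (by omega)
            have h7 : Fintype.card F = 3 := by omega
            exact not_red_of_two_group hD hcyc h4 hidx ⟨2, by rw [hT, h7]; norm_num⟩ ⟨Q, hQ⟩
      · exfalso
        -- odd `p` different from the characteristic
        obtain ⟨n, hchar, hcardF⟩ := FiniteField.card F (ringChar F)
        have hpq : ¬ p ∣ Fintype.card F := by
          rw [hcardF]
          intro hd
          have := (Nat.prime_dvd_prime_iff_eq hp hchar).mp (hp.dvd_of_dvd_pow hd)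
          exact hpc this
        set q := Fintype.card F with hq
        have hG : Nat.card SL(2, F) = q * ((q - 1) * (q + 1)) := Cfsg.Agent.Lib.Classical.card_SL2
        have hq0 : q ≠ 0 := by omega
        have hq1 : q - 1 ≠ 0 := by omega
        have hq3 : q + 1 ≠ 0 := by omega
        have hfact : (Nat.card SL(2, F)).factorization p =
            (q - 1).factorization p + (q + 1).factorization p := by
          rw [hG, Nat.factorization_mul hq0 (mul_ne_zero hq1 hq3), Nat.factorization_mul hq1 hq3]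
          simp [Nat.factorization_eq_zero_of_not_dvd hpq]
        have hcycQ : IsCyclic (Q : Subgroup SL(2, F)) := by
          by_cases hd : p ∣ q + 1
          · have hnd : ¬ p ∣ q - 1 := by
              intro hd2
              have h3 : p ∣ (q + 1) - (q - 1) := Nat.dvd_sub hd hd2
              rw [show (q + 1) - (q - 1) = 2 by omega] at h3
              exact hp2 ((Nat.prime_dvd_prime_iff_eq hp Nat.prime_two).mp h3)
            obtain ⟨T, hT, hTc⟩ := Cfsg.Agent.Lib.Classical.Tori.exists_nonsplit_torus (F := F)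
            refine Cfsg.Agent.Lib.Classical.Tori.sylow_cyclic p T hT ?_ Q
            rw [hfact, hTc, Nat.factorization_eq_zero_of_not_dvd hnd, zero_add]
          · obtain ⟨T, hT, hTc⟩ := Cfsg.Agent.Lib.Classical.Tori.exists_split_torus (F := F)
            refine Cfsg.Agent.Lib.Classical.Tori.sylow_cyclic p T hT ?_ Q
            rw [hfact, hTc, Nat.factorization_eq_zero_of_not_dvd hd, add_zero]
        obtain ⟨g₀, hg₀⟩ := IsCyclic.exists_generator (α := (Q : Subgroup SL(2, F)))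
        obtain ⟨k, hk⟩ := Q.isPGroup' g₀
        have hk' : (g₀ : SL(2, F)) ^ p ^ k = 1 := congrArg Subtype.val hk
        obtain ⟨j, -, hj⟩ := (Nat.dvd_prime_pow hp).mp (orderOf_dvd_of_pow_eq_one hk')
        obtain ⟨P, hne, hxP⟩ := hQ g₀.1 ⟨j, hj⟩
        have hle : (Q : Subgroup SL(2, F)) ≤ P := by
          intro y hy
          obtain ⟨n, hn⟩ := Subgroup.mem_zpowers_iff.mp (hg₀ ⟨y, hy⟩)
          have h1 : g₀.1 ^ n = y := congrArg Subtype.val hn
          rw [← h1]
          exact Subgroup.zpow_mem _ hxP n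
        exact hne (Sylow.ext (Q.is_maximal' P.isPGroup' hle))
  · rintro ⟨rfl, h1, h2, h3⟩
    have h2r : ringChar F ≠ 2 := by
      intro h
      obtain ⟨n, hchar, hcardF⟩ := FiniteField.card F (ringChar F)
      exact h2 ⟨n, by rw [hcardF, h]⟩
    have hodd : Odd (Fintype.card F) := by
      rw [Nat.odd_iff]
      exact FiniteField.odd_card_of_char_ne_two h2r
    obtain ⟨T, w, hD, hcyc, h4, hidx, hT⟩ := exists_dic hodd
    refine red_of_two_sylows hD hcyc h4 hidx ?_
    rintro ⟨k, hk⟩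
    rcases hT with ⟨hT, -⟩ | ⟨hT, -⟩
    · apply h3
      refine ⟨k, ?_⟩
      rw [hT] at hk
      omega
    · apply h1
      exact ⟨k, by rw [← hT, hk]⟩

end main

section quot

variable {G : Type*} [Group G] [Finite G] {p : ℕ} [hpf : Fact p.Prime]

theorem mem_of_map_mem (P : Sylow p G) {x : G} (hx : ∃ k : ℕ, orderOf x = p ^ k)
    (hm : QuotientGroup.mk' (Subgroup.center G) x ∈ (P : Subgroup G).map (QuotientGroup.mk' (Subgroup.center G))) :
    x ∈ P := by
  obtain ⟨y, hy, hyx⟩ := hm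
  have hζ : y⁻¹ * x ∈ Subgroup.center G := by
    have : QuotientGroup.mk' (Subgroup.center G) (y⁻¹ * x) = 1 := by
      rw [map_mul, map_inv, hyx, inv_mul_cancel]
    exact (QuotientGroup.eq_one_iff _).mp this
  set ζ := y⁻¹ * x with hζd
  have hxe : x = y * ζ := by rw [hζd]; group
  obtain ⟨k, hk⟩ := hx
  obtain ⟨a, ha⟩ := P.isPGroup' ⟨y, hy⟩
  have ha' : y ^ p ^ a = 1 := congrArg Subtype.val ha
  have hxk : x ^ p ^ k = 1 := by rw [← hk]; exact pow_orderOf_eq_one x
  have hcomm : Commute y ζ := Subgroup.mem_center_iff.mp hζ y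
  have hζp : ζ ^ p ^ (a + k) = 1 := by
    have h1 : x ^ p ^ (a + k) = 1 := by
      rw [pow_add, mul_comm, pow_mul, hxk, one_pow]
    have h2 : y ^ p ^ (a + k) = 1 := by
      rw [pow_add, pow_mul, ha', one_pow]
    rw [hxe, hcomm.mul_pow, h2, one_mul] at h1
    exact h1
  have hζP : IsPGroup p (Subgroup.zpowers ζ) := by
    obtain ⟨j, -, hj⟩ := (Nat.dvd_prime_pow hpf.out).mp (orderOf_dvd_of_pow_eq_one hζp)
    apply IsPGroup.of_card (n := j)
    rw [Nat.card_zpowers, hj]
  have hnorm : Subgroup.zpowers ζ ≤ Subgroup.normalizer ((P : Subgroup G) : Set G) := by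
    rw [Subgroup.zpowers_le, Subgroup.mem_normalizer_iff]
    intro h
    have e : ζ * h * ζ⁻¹ = h := by
      rw [← Subgroup.mem_center_iff.mp hζ h]
      group
    rw [e]
  have hsup := IsPGroup.to_sup_of_normal_left' P.isPGroup' hζP hnorm
  have hmax := P.is_maximal' hsup le_sup_left
  have hζmem : ζ ∈ (P : Subgroup G) := by
    rw [← hmax]
    exact Subgroup.mem_sup_right (Subgroup.mem_zpowers _)
  rw [hxe]
  exact Subgroup.mul_mem _ hy hζmem

theorem sylow_map_injective (hf : Function.Surjective (QuotientGroup.mk' (Subgroup.center G))) :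
    Function.Injective (Sylow.mapSurjective hf : Sylow p G → Sylow p (G ⧸ Subgroup.center G)) := by
  intro P P' he
  have hle : ∀ A B : Sylow p G, (Sylow.mapSurjective hf A = Sylow.mapSurjective hf B) →
      (A : Subgroup G) ≤ B := by
    intro A B hAB y hy
    obtain ⟨k, hk⟩ := A.isPGroup' ⟨y, hy⟩
    have hk' : y ^ p ^ k = 1 := congrArg Subtype.val hk
    obtain ⟨j, -, hj⟩ := (Nat.dvd_prime_pow hpf.out).mp (orderOf_dvd_of_pow_eq_one hk')
    apply mem_of_map_mem B ⟨j, hj⟩
    have h1 : QuotientGroup.mk' (Subgroup.center G) y ∈ (Sylow.mapSurjective hf A : Subgroup (G ⧸ Subgroup.center G)) :=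
      ⟨y, hy, rfl⟩
    rw [hAB] at h1
    exact h1
  exact Sylow.ext (P.is_maximal' P'.isPGroup' (hle P P' he)).symm

theorem exists_lift {x : G ⧸ Subgroup.center G} (hx : ∃ k : ℕ, orderOf x = p ^ k) :
    ∃ y : G, QuotientGroup.mk' (Subgroup.center G) y = x ∧ ∃ k : ℕ, orderOf y = p ^ k := by
  obtain ⟨b, hb⟩ := hx
  obtain ⟨x₀, rfl⟩ := QuotientGroup.mk'_surjective _ x
  have hn : orderOf x₀ ≠ 0 := (orderOf_pos x₀).ne'
  obtain ⟨a, m, hm, hnm⟩ := Nat.exists_eq_pow_mul_and_not_dvd hn p hpf.out.ne_one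
  have hco : Nat.Coprime m (p ^ b) :=
    Nat.Coprime.pow_right _ ((Nat.Prime.coprime_iff_not_dvd hpf.out).mpr hm).symm
  obtain ⟨u, v, huv⟩ : ∃ u v : ℤ, u * m + v * (p ^ b : ℕ) = 1 := by
    have := Nat.isCoprime_iff_coprime.mpr hco
    obtain ⟨u, v, h⟩ := this
    exact ⟨u, v, h⟩
  refine ⟨x₀ ^ (u * m), ?_, ?_⟩
  · have h1 : (QuotientGroup.mk' (Subgroup.center G) x₀) ^ ((p ^ b : ℕ) : ℤ) = 1 := by
      rw [zpow_natCast, ← hb]
      exact pow_orderOf_eq_one _
    have h2 : (QuotientGroup.mk' (Subgroup.center G) x₀) ^ (u * m + v * (p ^ b : ℕ)) =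
        QuotientGroup.mk' (Subgroup.center G) x₀ := by
      rw [huv, zpow_one]
    rw [map_zpow]
    have h3 : (QuotientGroup.mk' (Subgroup.center G) x₀) ^ (v * (p ^ b : ℕ)) = 1 := by
      rw [mul_comm, _root_.zpow_mul, h1, _root_.one_zpow]
    rw [_root_.zpow_add, h3, mul_one] at h2
    exact h2
  · have h3 : (x₀ ^ (u * m)) ^ p ^ a = 1 := by
      rw [← zpow_natCast, ← _root_.zpow_mul]
      have h4 : u * m * ((p ^ a : ℕ) : ℤ) = u * ((orderOf x₀ : ℕ) : ℤ) := by
        rw [hnm]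
        push_cast
        ring
      rw [h4, mul_comm, _root_.zpow_mul, zpow_natCast, pow_orderOf_eq_one, _root_.one_zpow]
    obtain ⟨j, -, hj⟩ := (Nat.dvd_prime_pow hpf.out).mp (orderOf_dvd_of_pow_eq_one h3)
    exact ⟨j, hj⟩

theorem red_quot : Red p (G ⧸ Subgroup.center G) ↔ Red p G := by
  have hf : Function.Surjective (QuotientGroup.mk' (Subgroup.center G)) :=
    QuotientGroup.mk'_surjective _
  have hinj := sylow_map_injective (p := p) (G := G) hf
  constructor
  · rintro ⟨Q', hQ'⟩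
    obtain ⟨Q, rfl⟩ := Sylow.mapSurjective_surjective hf p Q'
    refine ⟨Q, fun x hx => ?_⟩
    have hx' : ∃ k : ℕ, orderOf (QuotientGroup.mk' (Subgroup.center G) x) = p ^ k := by
      obtain ⟨k, hk⟩ := hx
      have h1 : (QuotientGroup.mk' (Subgroup.center G) x) ^ p ^ k = 1 := by
        rw [← map_pow, ← hk, pow_orderOf_eq_one, map_one]
      obtain ⟨j, -, hj⟩ := (Nat.dvd_prime_pow hpf.out).mp (orderOf_dvd_of_pow_eq_one h1)
      exact ⟨j, hj⟩
    obtain ⟨P', hne, hP'⟩ := hQ' _ hx'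
    obtain ⟨P, rfl⟩ := Sylow.mapSurjective_surjective hf p P'
    refine ⟨P, fun he => hne (by rw [he]), mem_of_map_mem P hx hP'⟩
  · rintro ⟨Q, hQ⟩
    refine ⟨Sylow.mapSurjective hf Q, fun x hx => ?_⟩
    obtain ⟨y, rfl, hy⟩ := exists_lift hx
    obtain ⟨P, hne, hP⟩ := hQ y hy
    exact ⟨Sylow.mapSurjective hf P, fun he => hne (hinj he), ⟨y, hP, rfl⟩⟩

end quot

theorem main_PSL {F : Type*} [Field F] [Fintype F] (p : ℕ) [Fact p.Prime] :
    Red p (Matrix.ProjectiveSpecialLinearGroup (Fin 2) F) ↔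
    (p = 2 ∧ (¬ ∃ k : ℕ, Fintype.card F + 1 = 2 ^ k) ∧ (¬ ∃ k : ℕ, Fintype.card F = 2 ^ k) ∧
        ¬ ∃ k : ℕ, Fintype.card F = 2 ^ k + 1) :=
  (red_quot (G := SL(2, F))).trans (main_SL2 p)

end Cfsg.Agent.Lib.ClassSizes.SLRedundant
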