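import Mathlib
import Cfsg.Agent.Lib.Classical.Tori
import Cfsg.Agent.Lib.ClassSizes.SLRedundant

/-! A redundant Sylow subgroup of `GL(p, q)` when exactly `p` divides `q - 1`. -/

set_option autoImplicit false

namespace Cfsg.Agent.Lib.ClassSizes.GLRedundant

open Matrix

variable {F : Type*} [Field F] {p : ℕ} [hp : Fact p.Prime]

/-- monomial matrices -/
def Mx (d : ZMod p → Fˣ) (k : ZMod p) : Matrix (ZMod p) (ZMod p) F :=
  fun i j => if j = i + k then (d i : F) else 0

theorem Mx_apply (d : ZMod p → Fˣ) (k i j : ZMod p) :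
    Mx d k i j = if j = i + k then (d i : F) else 0 := rfl

theorem Mx_mul (d d' : ZMod p → Fˣ) (k k' : ZMod p) :
    Mx d k * Mx d' k' = Mx (fun i => d i * d' (i + k)) (k + k') := by
  ext i j
  rw [Matrix.mul_apply, Finset.sum_eq_single (i + k)]
  · rw [Mx_apply, if_pos rfl, Mx_apply, Mx_apply]
    by_cases h : j = i + k + k'
    · rw [if_pos h, if_pos (by rw [h, add_assoc])]
      simp
    · rw [if_neg h, if_neg (by rw [← add_assoc]; exact h)]
      simp
  · intro b _ hb
    rw [Mx_apply, if_neg hb, zero_mul]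
  · intro h
    exact absurd (Finset.mem_univ _) h

theorem Mx_one : Mx (fun _ => (1 : Fˣ)) (0 : ZMod p) = 1 := by
  ext i j
  rw [Mx_apply, add_zero, Matrix.one_apply]
  by_cases h : j = i
  · rw [if_pos h, if_pos h.symm]
    simp
  · rw [if_neg h, if_neg (fun h' => h h'.symm)]

theorem Mx_zero (d : ZMod p → Fˣ) : Mx d 0 = Matrix.diagonal (fun i => (d i : F)) := by
  ext i j
  rw [Mx_apply, add_zero, Matrix.diagonal_apply]
  by_cases h : i = j
  · rw [if_pos h.symm, if_pos h]
  · rw [if_neg (fun h' => h h'.symm), if_neg h]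

/-- monomial elements of the general linear group -/
def M (d : ZMod p → Fˣ) (k : ZMod p) : GL (ZMod p) F where
  val := Mx d k
  inv := Mx (fun i => (d (i - k))⁻¹) (-k)
  val_inv := by
    rw [Mx_mul, add_neg_cancel, ← Mx_one]
    congr 1
    funext i
    simp
  inv_val := by
    rw [Mx_mul, neg_add_cancel, ← Mx_one]
    congr 1
    funext i
    rw [sub_eq_add_neg]
    exact inv_mul_cancel _

theorem M_val (d : ZMod p → Fˣ) (k : ZMod p) : ((M d k : GL (ZMod p) F) : Matrix (ZMod p) (ZMod p) F) = Mx d k := rfl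

theorem M_mul (d d' : ZMod p → Fˣ) (k k' : ZMod p) :
    M d k * M d' k' = M (fun i => d i * d' (i + k)) (k + k') := by
  apply Units.ext
  exact Mx_mul d d' k k'

theorem M_one : M (fun _ => (1 : Fˣ)) (0 : ZMod p) = 1 := by
  apply Units.ext
  exact Mx_one

theorem M_inv (d : ZMod p → Fˣ) (k : ZMod p) : (M d k)⁻¹ = M (fun i => (d (i - k))⁻¹) (-k) := by
  apply inv_eq_of_mul_eq_one_right
  rw [M_mul, add_neg_cancel, ← M_one]
  congr 1
  funext i
  simp

theorem M_inj {d d' : ZMod p → Fˣ} {k k' : ZMod p} (h : M d k = M d' k') : d = d' ∧ k = k' := by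
  have h1 : Mx d k = Mx d' k' := congrArg Units.val h
  have h2 : ∀ i, k = k' ∧ (d i : F) = d' i := by
    intro i
    have h3 := congrFun (congrFun h1 i) (i + k)
    rw [Mx_apply, if_pos rfl, Mx_apply] at h3
    by_cases h4 : i + k = i + k'
    · rw [if_pos h4] at h3
      exact ⟨add_left_cancel h4, h3⟩
    · rw [if_neg h4] at h3
      exact absurd h3 (Units.ne_zero _)
  refine ⟨?_, (h2 0).1⟩
  funext i
  exact Units.ext (h2 i).2

/-- generation of the additive group by a non-zero element -/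
theorem const_of_shift {α : Type*} {f : ZMod p → α} {k : ZMod p} (hk : k ≠ 0)
    (h : ∀ i, f i = f (i + k)) (i j : ZMod p) : f i = f j := by
  have h1 : ∀ (n : ℕ) (a : ZMod p), f a = f (a + n * k) := by
    intro n
    induction n with
    | zero => intro a; simp
    | succ n ih =>
      intro a
      rw [ih a, h (a + n * k)]
      congr 1
      push_cast
      ring
  have h2 := h1 ((j - i) / k).val i
  rw [ZMod.natCast_zmod_val, div_mul_cancel₀ _ hk] at h2
  rw [h2]
  congr 1
  ring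

/-- When two monomial matrices commute -/
theorem comm_iff_diag {e d : ZMod p → Fˣ} {k : ZMod p} (h : M e 0 * M d k = M d k * M e 0) :
    ∀ i, e i = e (i + k) := by
  rw [M_mul, M_mul] at h
  obtain ⟨h1, -⟩ := M_inj h
  intro i
  have h2 := congrFun h1 i
  simp only [add_zero] at h2
  have h3 : e i * d i = d i * e (i + k) := h2
  rw [mul_comm] at h3
  exact mul_left_cancel h3

/-- the `p`-part of the monomial group -/
def QS (F : Type*) [Field F] (p : ℕ) [Fact p.Prime] : Subgroup (GL (ZMod p) F) where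
  carrier := {g | ∃ (d : ZMod p → Fˣ) (k : ZMod p), (∀ i, d i ^ p = 1) ∧ g = M d k}
  mul_mem' := by
    rintro _ _ ⟨d, k, hd, rfl⟩ ⟨d', k', hd', rfl⟩
    refine ⟨_, _, ?_, M_mul d d' k k'⟩
    intro i
    rw [mul_pow, hd, hd', one_mul]
  one_mem' := ⟨_, _, fun _ => one_pow _, M_one.symm⟩
  inv_mem' := by
    rintro _ ⟨d, k, hd, rfl⟩
    refine ⟨_, _, ?_, M_inv d k⟩
    intro i
    rw [inv_pow, hd, inv_one]

theorem mem_QS {g : GL (ZMod p) F} :
    g ∈ QS F p ↔ ∃ (d : ZMod p → Fˣ) (k : ZMod p), (∀ i, d i ^ p = 1) ∧ g = M d k := Iff.rfl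

theorem M_mem_QS {d : ZMod p → Fˣ} {k : ZMod p} (hd : ∀ i, d i ^ p = 1) : M d k ∈ QS F p :=
  ⟨d, k, hd, rfl⟩

/-- The key lemma: a normalizing element of `QS` cannot move a non-diagonal element to a diagonal one. -/
theorem key_K [Finite F] (hp2 : p ≠ 2) (hμ : Nat.card (rootsOfUnity p F) = p)
    {g : GL (ZMod p) F} (hg : ∀ u, u ∈ QS F p ↔ g * u * g⁻¹ ∈ QS F p)
    {d : ZMod p → Fˣ} {k : ZMod p} (hk : k ≠ 0) {f₀ : ZMod p → Fˣ}
    (hf : g * M d k * g⁻¹ = M f₀ 0) : False := by
  classical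
  have hy : M d k = g⁻¹ * M f₀ 0 * g := by
    rw [← hf]
    group
  have hv : ∀ e : ZMod p → rootsOfUnity p F,
      g⁻¹ * M (fun i => (e i : Fˣ)) 0 * g ∈ QS F p := by
    intro e
    rw [hg]
    have h1 : g * (g⁻¹ * M (fun i => (e i : Fˣ)) 0 * g) * g⁻¹ = M (fun i => (e i : Fˣ)) 0 := by
      group
    rw [h1]
    exact M_mem_QS (fun i => (mem_rootsOfUnity _ _).mp (e i).2)
  choose a l ha hal using fun e => mem_QS.mp (hv e)
  have hcomm : ∀ e, M (a e) (l e) * M d k = M d k * M (a e) (l e) := by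
    intro e
    rw [← hal e, hy]
    have h1 : M (fun i => (e i : Fˣ)) 0 * M f₀ 0 = M f₀ 0 * M (fun i => (e i : Fˣ)) 0 := by
      rw [M_mul, M_mul]
      congr 1
      funext i
      rw [add_zero, mul_comm]
    calc g⁻¹ * M (fun i => (e i : Fˣ)) 0 * g * (g⁻¹ * M f₀ 0 * g)
        = g⁻¹ * (M (fun i => (e i : Fˣ)) 0 * M f₀ 0) * g := by group
      _ = g⁻¹ * (M f₀ 0 * M (fun i => (e i : Fˣ)) 0) * g := by rw [h1]
      _ = _ := by group
  let Φ : (ZMod p → rootsOfUnity p F) → ZMod p × rootsOfUnity p F := fun e =>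
    (l e, ⟨a e 0, (mem_rootsOfUnity _ _).mpr (ha e 0)⟩)
  have hΦ : Function.Injective Φ := by
    intro e e' hee
    have h1 : l e = l e' := congrArg Prod.fst hee
    have h2 : a e 0 = a e' 0 := congrArg (fun x => ((x.2 : rootsOfUnity p F) : Fˣ)) hee
    set f : ZMod p → Fˣ := fun i => a e i * (a e' i)⁻¹ with hf'
    have h3 : M (a e) (l e) = M f 0 * M (a e') (l e') := by
      rw [M_mul, zero_add, h1]
      congr 1
      funext i
      simp [hf']
    have h4 : M f 0 * M d k = M d k * M f 0 := by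
      have h5 := hcomm e
      rw [h3] at h5
      have h6 := hcomm e'
      have h7 : M f 0 * (M (a e') (l e') * M d k) = M d k * M f 0 * M (a e') (l e') := by
        rw [← mul_assoc]; rw [h5]; rw [mul_assoc]
      rw [h6, ← mul_assoc] at h7
      exact mul_right_cancel h7
    have h5 := comm_iff_diag h4
    have h6 : ∀ i, f i = 1 := by
      intro i
      rw [const_of_shift hk h5 i 0]
      simp [hf', h2]
    have h7 : a e = a e' := by
      funext i
      have := h6 i
      simp only [hf'] at this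
      exact mul_inv_eq_one.mp this
    have h8 : M (fun i => (e i : Fˣ)) 0 = M (fun i => (e' i : Fˣ)) 0 := by
      have h9 : g⁻¹ * M (fun i => (e i : Fˣ)) 0 * g = g⁻¹ * M (fun i => (e' i : Fˣ)) 0 * g := by
        rw [hal e, hal e', h7, h1]
      exact mul_left_cancel (mul_right_cancel h9)
    obtain ⟨h9, -⟩ := M_inj h8
    funext i
    exact Subtype.ext (congrFun h9 i)
  have hcard := Nat.card_le_card_of_injective Φ hΦ
  rw [Nat.card_fun, Nat.card_prod, hμ, Nat.card_zmod] at hcard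
  have hp3 : 3 ≤ p := by
    have := hp.out.two_le
    omega
  have h1 : p ^ 3 ≤ p ^ p := Nat.pow_le_pow_right (by omega) hp3
  have h2 : p * p < p ^ 3 := by
    rw [pow_succ, pow_two]
    exact lt_mul_of_one_lt_right (by positivity) (by omega)
  omega

/-- A normalizing element has at most one nonzero entry in each column. -/
theorem col_lemma [Finite F] (hp2 : p ≠ 2) (hμ : Nat.card (rootsOfUnity p F) = p)
    {ζ : Fˣ} (hζ : IsPrimitiveRoot ζ p)
    {g : GL (ZMod p) F} (hg : ∀ u, u ∈ QS F p ↔ g * u * g⁻¹ ∈ QS F p)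
    {a b c : ZMod p} (hab : a ≠ b)
    (h1 : (g : Matrix (ZMod p) (ZMod p) F) a c ≠ 0)
    (h2 : (g : Matrix (ZMod p) (ZMod p) F) b c ≠ 0) : False := by
  classical
  set e : ZMod p → Fˣ := fun i => ζ ^ i.val with he
  have he1 : ∀ i, e i ^ p = 1 := by
    intro i
    rw [he]
    simp only
    rw [← pow_mul, mul_comm, pow_mul, hζ.pow_eq_one, one_pow]
  have heinj : Function.Injective e := by
    intro i j hij
    exact ZMod.val_injective p (hζ.pow_inj (ZMod.val_lt i) (ZMod.val_lt j) hij)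
  have hw := (hg (M e 0)).mp (M_mem_QS he1)
  obtain ⟨f, l, hf, hfl⟩ := mem_QS.mp hw
  have hl : l = 0 := by
    by_contra hl
    have hg' : ∀ u, u ∈ QS F p ↔ g⁻¹ * u * g⁻¹⁻¹ ∈ QS F p := by
      intro u
      rw [hg (g⁻¹ * u * g⁻¹⁻¹)]
      have : g * (g⁻¹ * u * g⁻¹⁻¹) * g⁻¹ = u := by group
      rw [this]
    refine key_K hp2 hμ hg' (d := f) hl (f₀ := e) ?_
    rw [← hfl]
    group
  subst hl
  have hmat : ∀ r s, (g : Matrix (ZMod p) (ZMod p) F) r s ≠ 0 → (f r : F) = e s := by
    intro r s hrs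
    have h3 : g * M e 0 = M f 0 * g := by
      rw [← hfl]
      group
    have h4 : (g : Matrix (ZMod p) (ZMod p) F) * Mx e 0 = Mx f 0 * (g : Matrix (ZMod p) (ZMod p) F) :=
      congrArg Units.val h3
    have h5 := congrFun (congrFun h4 r) s
    rw [Mx_zero, Mx_zero, Matrix.mul_diagonal, Matrix.diagonal_mul] at h5
    rw [mul_comm] at h5
    exact (mul_right_cancel₀ hrs h5).symm
  have hcol : ∀ s, ∃ r, (g : Matrix (ZMod p) (ZMod p) F) r s ≠ 0 := by
    intro s
    by_contra hs
    push Not at hs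
    have h3 : ((g⁻¹ : GL (ZMod p) F) : Matrix (ZMod p) (ZMod p) F) * (g : Matrix (ZMod p) (ZMod p) F) = 1 := by
      rw [← Units.val_mul, inv_mul_cancel, Units.val_one]
    have h4 := congrFun (congrFun h3 s) s
    rw [Matrix.mul_apply, Matrix.one_apply_eq, Finset.sum_eq_zero] at h4
    · exact zero_ne_one h4
    · intro r _
      rw [hs r, mul_zero]
  choose r hr using hcol
  have hrinj : Function.Injective r := by
    intro s s' hss
    apply heinj
    apply Units.ext
    rw [← hmat _ _ (hr s), ← hmat _ _ (hr s'), hss]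
  have hrsurj : Function.Surjective r := Finite.injective_iff_surjective.mp hrinj
  have hfinj : Function.Injective f := by
    intro x x' hxx
    obtain ⟨s, rfl⟩ := hrsurj x
    obtain ⟨s', rfl⟩ := hrsurj x'
    have h3 : e s = e s' := by
      apply Units.ext
      rw [← hmat _ _ (hr s), ← hmat _ _ (hr s'), hxx]
    rw [heinj h3]
  apply hab
  apply hfinj
  apply Units.ext
  rw [hmat _ _ h1, hmat _ _ h2]

open Cfsg.Agent.Lib.ClassSizes.SLRedundant

section final

variable [Finite F]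

theorem nm_of_smul {Q : Sylow p (GL (ZMod p) F)} (hQ : (Q : Subgroup (GL (ZMod p) F)) = QS F p)
    {g : GL (ZMod p) F} (h : g • Q = Q) : ∀ u, u ∈ QS F p ↔ g * u * g⁻¹ ∈ QS F p := by
  intro u
  have h1 := mem_smul_sylow g Q (g * u * g⁻¹)
  rw [h] at h1
  have h2 : g⁻¹ * (g * u * g⁻¹) * g = u := by group
  rw [h2] at h1
  have h3 : ∀ x, x ∈ Q ↔ x ∈ QS F p := fun x => by rw [← hQ]; rfl
  rw [h3, h3] at h1
  exact h1.symm

theorem exists_other_of_col (hp2 : p ≠ 2) (hμ : Nat.card (rootsOfUnity p F) = p)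
    {ζ : Fˣ} (hζ : IsPrimitiveRoot ζ p)
    {Q : Sylow p (GL (ZMod p) F)} (hQ : (Q : Subgroup (GL (ZMod p) F)) = QS F p)
    {x : GL (ZMod p) F} (hx : x ∈ QS F p) {g : GL (ZMod p) F} (hc : g * x = x * g)
    {a b c : ZMod p} (hab : a ≠ b)
    (h1 : (g : Matrix (ZMod p) (ZMod p) F) a c ≠ 0)
    (h2 : (g : Matrix (ZMod p) (ZMod p) F) b c ≠ 0) :
    ∃ P : Sylow p (GL (ZMod p) F), P ≠ Q ∧ x ∈ P := by
  refine ⟨g • Q, ?_, ?_⟩
  · intro h
    exact col_lemma hp2 hμ hζ (nm_of_smul hQ h) hab h1 h2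
  · rw [mem_smul_sylow]
    have h3 : g⁻¹ * x * g = x := by
      rw [mul_assoc, ← hc]
      group
    rw [h3]
    have h3 : x ∈ (Q : Subgroup (GL (ZMod p) F)) := by rw [hQ]; exact hx
    exact h3

/-- diagonal elements with a repeated eigenvalue -/
theorem case_i (hp2 : p ≠ 2) (hμ : Nat.card (rootsOfUnity p F) = p)
    {ζ : Fˣ} (hζ : IsPrimitiveRoot ζ p)
    {Q : Sylow p (GL (ZMod p) F)} (hQ : (Q : Subgroup (GL (ZMod p) F)) = QS F p)
    {d : ZMod p → Fˣ} (hd : ∀ i, d i ^ p = 1) {i j : ZMod p} (hij : i ≠ j) (hdij : d i = d j) :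
    ∃ P : Sylow p (GL (ZMod p) F), P ≠ Q ∧ M d 0 ∈ P := by
  classical
  let g : GL (ZMod p) F := Matrix.GeneralLinearGroup.mkOfDetNeZero (Matrix.transvection i j (1 : F))
    (by rw [Matrix.det_transvection_of_ne _ _ hij]; exact one_ne_zero)
  have hg : (g : Matrix (ZMod p) (ZMod p) F) = Matrix.transvection i j (1 : F) := rfl
  have hent : ∀ r s, (g : Matrix (ZMod p) (ZMod p) F) r s =
      (if r = s then 1 else 0) + (if i = r ∧ j = s then 1 else 0) := by
    intro r s
    rw [hg, Matrix.transvection, Matrix.add_apply, Matrix.one_apply, Matrix.single_apply]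
  refine exists_other_of_col hp2 hμ hζ hQ (M_mem_QS hd) (g := g) ?_ hij (c := j) ?_ ?_
  · apply Units.ext
    change (g : Matrix (ZMod p) (ZMod p) F) * Mx d 0 = Mx d 0 * (g : Matrix (ZMod p) (ZMod p) F)
    rw [Mx_zero]
    ext r s
    rw [Matrix.mul_diagonal, Matrix.diagonal_mul, hent]
    by_cases hrs : r = s
    · subst hrs
      rw [mul_comm]
    · by_cases h2 : i = r ∧ j = s
      · obtain ⟨rfl, rfl⟩ := h2
        rw [hdij, mul_comm]
      · rw [if_neg hrs, if_neg h2]
        simp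
  · rw [hent, if_neg hij, if_pos ⟨rfl, rfl⟩]
    simp
  · rw [hent, if_pos rfl, if_neg (fun h => hij h.1)]
    simp

/-- the natural bijection -/
noncomputable def zfin (p : ℕ) [Fact p.Prime] : ZMod p ≃ Fin p :=
  Equiv.ofBijective (fun j : ZMod p => (⟨j.val, ZMod.val_lt j⟩ : Fin p)) (by
    rw [Fintype.bijective_iff_injective_and_card]
    refine ⟨?_, by simp [ZMod.card]⟩
    intro a b hab
    exact ZMod.val_injective p (congrArg Fin.val hab))

theorem zfin_val (j : ZMod p) : ((zfin p j : Fin p) : ℕ) = j.val := rfl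

theorem pow_val_add_one {c : Fˣ} (hc : c ^ p = 1) (j : ZMod p) :
    c ^ (j + 1).val = c ^ j.val * c := by
  haveI : Fact (1 < p) := ⟨hp.out.one_lt⟩
  rw [ZMod.val_add, ZMod.val_one, ← pow_succ, ← pow_eq_pow_mod _ hc]

/-- diagonal elements with distinct eigenvalues -/
theorem case_ii (hp2 : p ≠ 2) (hμ : Nat.card (rootsOfUnity p F) = p)
    {Q : Sylow p (GL (ZMod p) F)} (hQ : (Q : Subgroup (GL (ZMod p) F)) = QS F p)
    {d : ZMod p → Fˣ} (hd : ∀ i, d i ^ p = 1) (hinj : Function.Injective d) :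
    ∃ P : Sylow p (GL (ZMod p) F), P ≠ Q ∧ M d 0 ∈ P := by
  classical
  let A : Matrix (ZMod p) (ZMod p) F := Matrix.of fun i j => (d i : F) ^ j.val
  have hA : A.det ≠ 0 := by
    have h1 : A = (Matrix.vandermonde (fun i : Fin p => (d ((zfin p).symm i) : F))).submatrix
        (zfin p) (zfin p) := by
      ext i j
      simp [A, Matrix.vandermonde_apply, zfin_val]
    rw [h1, Matrix.det_submatrix_equiv_self, Matrix.det_vandermonde_ne_zero_iff]
    intro a b hab
    have h2 := hinj (Units.ext hab)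
    exact (zfin p).symm.injective h2
  let g : GL (ZMod p) F := Matrix.GeneralLinearGroup.mkOfDetNeZero A hA
  have hg : (g : Matrix (ZMod p) (ZMod p) F) = A := rfl
  set T : GL (ZMod p) F := M (fun _ => (1 : Fˣ)) (-1) with hT
  have hrel : M d 0 * g = g * T := by
    apply Units.ext
    change Mx d 0 * (g : Matrix (ZMod p) (ZMod p) F) = (g : Matrix (ZMod p) (ZMod p) F) * Mx (fun _ => (1 : Fˣ)) (-1)
    rw [Mx_zero, hg]
    ext i j
    rw [Matrix.diagonal_mul, Matrix.mul_apply, Finset.sum_eq_single (j + 1)]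
    · rw [Mx_apply, if_pos (by ring)]
      simp only [A, Matrix.of_apply, Units.val_one, mul_one]
      have h1 := pow_val_add_one (hd i) j
      have h2 := congrArg Units.val h1
      simp only [Units.val_pow_eq_pow_val, Units.val_mul] at h2
      rw [h2, mul_comm]
    · intro b _ hb
      rw [Mx_apply, if_neg, mul_zero]
      intro h
      apply hb
      rw [h]
      ring
    · intro h
      exact absurd (Finset.mem_univ _) h
  have hTm : T ∈ QS F p := M_mem_QS (fun _ => one_pow _)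
  refine ⟨g • Q, ?_, ?_⟩
  · intro h
    refine key_K hp2 hμ (nm_of_smul hQ h) (d := fun _ => (1 : Fˣ)) (k := -1) ?_ (f₀ := d) ?_
    · exact neg_ne_zero.mpr one_ne_zero
    · rw [← hT, ← hrel]
      group
  · rw [mem_smul_sylow]
    have h3 : g⁻¹ * M d 0 * g = T := by
      rw [mul_assoc, hrel]
      group
    rw [h3]
    have h3 : T ∈ (Q : Subgroup (GL (ZMod p) F)) := by rw [hQ]; exact hTm
    exact h3

theorem two_mul_ne (hp2 : p ≠ 2) {k : ZMod p} (hk : k ≠ 0) : k + k ≠ 0 := by
  intro h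
  have h1 : (2 : ZMod p) * k = 0 := by rw [two_mul, h]
  rcases mul_eq_zero.mp h1 with h2 | h2
  · have h3 : ((2 : ℕ) : ZMod p) = 0 := by exact_mod_cast h2
    rw [ZMod.natCast_eq_zero_iff] at h3
    exact hp2 ((Nat.prime_dvd_prime_iff_eq hp.out Nat.prime_two).mp h3)
  · exact hk h2

/-- The polynomial case: any invertible quadratic polynomial in the element works -/
theorem case_poly (hp2 : p ≠ 2) (hμ : Nat.card (rootsOfUnity p F) = p)
    {ζ : Fˣ} (hζ : IsPrimitiveRoot ζ p)
    {Q : Sylow p (GL (ZMod p) F)} (hQ : (Q : Subgroup (GL (ZMod p) F)) = QS F p)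
    {d : ZMod p → Fˣ} (hd : ∀ i, d i ^ p = 1) {k : ZMod p} (hk : k ≠ 0)
    {a c : F} (ha : a ≠ 0)
    (hu : IsUnit (a • (1 : Matrix (ZMod p) (ZMod p) F) + Mx d k + c • (Mx d k * Mx d k))) :
    ∃ P : Sylow p (GL (ZMod p) F), P ≠ Q ∧ M d k ∈ P := by
  classical
  obtain ⟨g, hg⟩ := hu
  have hk' : (-k : ZMod p) ≠ 0 := neg_ne_zero.mpr hk
  refine exists_other_of_col hp2 hμ hζ hQ (M_mem_QS hd) (g := g) ?_ (a := 0) (b := -k) (c := 0) ?_ ?_ ?_
  · apply Units.ext
    change (g : Matrix (ZMod p) (ZMod p) F) * Mx d k = Mx d k * (g : Matrix (ZMod p) (ZMod p) F)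
    rw [hg]
    have h1 : Commute (a • (1 : Matrix (ZMod p) (ZMod p) F) + Mx d k + c • (Mx d k * Mx d k)) (Mx d k) := by
      apply Commute.add_left
      · apply Commute.add_left
        · exact (Commute.one_left _).smul_left _
        · exact Commute.refl _
      · apply Commute.smul_left
        exact (Commute.refl _).mul_left (Commute.refl _)
    exact h1
  · exact fun h => hk' h.symm
  · rw [hg, Mx_mul]
    simp only [Matrix.add_apply, Matrix.smul_apply, Matrix.one_apply_eq, smul_eq_mul]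
    rw [Mx_apply, Mx_apply, if_neg, if_neg]
    · simpa using ha
    · rw [zero_add]
      exact fun h => two_mul_ne hp2 hk h.symm
    · rw [zero_add]
      exact fun h => hk h.symm
  · rw [hg, Mx_mul]
    simp only [Matrix.add_apply, Matrix.smul_apply, smul_eq_mul]
    rw [Matrix.one_apply_ne hk', Mx_apply, Mx_apply, if_pos (by ring), if_neg]
    · simp
    · intro h
      apply hk
      have h2 : -k + (k + k) = k := by ring
      rw [h2] at h
      exact h.symm

theorem pow_M_exists (d : ZMod p → Fˣ) (k : ZMod p) (n : ℕ) :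
    ∃ f : ZMod p → Fˣ, (M d k) ^ n = M f ((n : ZMod p) * k) := by
  induction n with
  | zero => exact ⟨_, by rw [pow_zero, Nat.cast_zero, zero_mul, M_one]⟩
  | succ n ih =>
    obtain ⟨f, hf⟩ := ih
    refine ⟨fun i => f i * d (i + (n : ZMod p) * k), ?_⟩
    rw [pow_succ, hf, M_mul]
    congr 1
    push_cast
    ring

/-- the `p`-th power of a non-diagonal monomial element is scalar -/
theorem pow_M_scalar {d : ZMod p → Fˣ} (hd : ∀ i, d i ^ p = 1) {k : ZMod p} (hk : k ≠ 0) :
    ∃ l : Fˣ, l ^ p = 1 ∧ (M d k) ^ p = M (fun _ => l) 0 := by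
  obtain ⟨f, hf⟩ := pow_M_exists d k p
  rw [ZMod.natCast_self, zero_mul] at hf
  have h1 : M f 0 * M d k = M d k * M f 0 := by
    rw [← hf, ← pow_succ, pow_succ']
  have h2 := comm_iff_diag h1
  have h3 : ∀ i, f i = f 0 := fun i => const_of_shift hk h2 i 0
  have h4 : M d k ^ p ∈ QS F p := Subgroup.pow_mem _ (M_mem_QS hd) _
  rw [hf] at h4
  obtain ⟨f', k', hf', h5⟩ := mem_QS.mp h4
  obtain ⟨h6, -⟩ := M_inj h5
  refine ⟨f 0, by rw [h6]; exact hf' 0, ?_⟩
  rw [hf]
  congr 1
  funext i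
  exact h3 i

theorem case_iii [Fintype F] (hp2 : p ≠ 2) (hμ : Nat.card (rootsOfUnity p F) = p)
    {ζ : Fˣ} (hζ : IsPrimitiveRoot ζ p)
    {Q : Sylow p (GL (ZMod p) F)} (hQ : (Q : Subgroup (GL (ZMod p) F)) = QS F p)
    {d : ZMod p → Fˣ} (hd : ∀ i, d i ^ p = 1) {k : ZMod p} (hk : k ≠ 0) :
    ∃ P : Sylow p (GL (ZMod p) F), P ≠ Q ∧ M d k ∈ P := by
  classical
  obtain ⟨l, hl, hY⟩ := pow_M_scalar hd hk
  set Y : Matrix (ZMod p) (ZMod p) F := Mx d k with hYdef
  have hYp : Y ^ p = (l : F) • (1 : Matrix (ZMod p) (ZMod p) F) := by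
    have h1 := congrArg Units.val hY
    rw [Units.val_pow_eq_pow_val] at h1
    change Y ^ p = Mx (fun _ => l) 0 at h1
    rw [h1, Mx_zero, Matrix.smul_one_eq_diagonal]
  have hodd : Odd p := hp.out.odd_of_ne_two hp2
  by_cases hl1 : l = 1
  · -- the case of trivial scalar
    obtain ⟨b, hb⟩ := Cfsg.Agent.Lib.Classical.Tori.exists_anisotropic (F := F)
    have hroot : ∀ r : F, r ^ 2 + r + b ≠ 0 := by
      intro r hr
      have h1 := hb r 1 (by rw [one_pow, mul_one, one_mul, mul_one]; exact hr)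
      exact one_ne_zero h1.2
    have hb0 : b ≠ 0 := by
      intro h
      apply hroot 0
      rw [h]
      simp
    set h : Polynomial F := Polynomial.X ^ 2 + Polynomial.X + Polynomial.C b with hh
    have hζF : IsPrimitiveRoot (ζ : F) p := (IsPrimitiveRoot.coe_units_iff).mpr hζ
    have hcop : IsCoprime h (Polynomial.X ^ p - 1) := by
      rw [Polynomial.X_pow_sub_one_eq_prod hp.out.pos hζF]
      apply IsCoprime.prod_right
      intro r _
      apply IsCoprime.symm
      rw [(Polynomial.irreducible_X_sub_C r).coprime_iff_not_dvd, Polynomial.dvd_iff_isRoot]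
      intro hr
      apply hroot r
      simpa [hh, Polynomial.IsRoot] using hr
    obtain ⟨u, v, huv⟩ := hcop
    have h1 := congrArg (Polynomial.aeval Y) huv
    simp only [map_add, map_mul, map_sub, map_one, map_pow, Polynomial.aeval_X] at h1
    rw [hYp, hl1, Units.val_one, one_smul, sub_self, mul_zero, add_zero] at h1
    have h2 : Polynomial.aeval Y h = b • (1 : Matrix (ZMod p) (ZMod p) F) + Y + (1 : F) • (Y * Y) := by
      simp only [hh, map_add, map_pow, Polynomial.aeval_X, Polynomial.aeval_C]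
      rw [Algebra.algebraMap_eq_smul_one, one_smul, pow_two]
      abel
    rw [h2] at h1
    refine case_poly hp2 hμ hζ hQ hd hk hb0 (c := 1) ?_
    exact Matrix.isUnit_iff_isUnit_det _ |>.mpr (Matrix.isUnit_det_of_left_inverse h1)
  · -- the non-trivial scalar
    have hl2 : (1 : F) + l ≠ 0 := by
      intro h
      have h3 : (l : F) = -1 := by linear_combination h
      have h4 : (l : F) ^ p = 1 := by
        have := congrArg Units.val hl
        simpa using this
      rw [h3, hodd.neg_one_pow] at h4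
      apply hl1
      apply Units.ext
      rw [h3, h4, Units.val_one]
    have h1 := mul_neg_geom_sum (-Y) p
    rw [sub_neg_eq_add, hodd.neg_pow, hYp, sub_neg_eq_add] at h1
    have h2 : (1 : Matrix (ZMod p) (ZMod p) F) + (l : F) • 1 = (1 + (l : F)) • 1 := by
      rw [add_smul, one_smul]
    rw [h2] at h1
    refine case_poly hp2 hμ hζ hQ hd hk (a := 1) one_ne_zero (c := 0) ?_
    have h3 : (1 : F) • (1 : Matrix (ZMod p) (ZMod p) F) + Y + (0 : F) • (Y * Y) = 1 + Y := by
      rw [one_smul, zero_smul, add_zero]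
    rw [h3]
    refine Matrix.isUnit_iff_isUnit_det _ |>.mpr (Matrix.isUnit_det_of_right_inverse
      (B := (1 + (l : F))⁻¹ • ∑ i ∈ Finset.range p, (-Y) ^ i) ?_)
    rw [Matrix.mul_smul, h1, smul_smul, inv_mul_cancel₀ hl2, one_smul]

/-- Every element of `QS` lies in another Sylow subgroup. -/
theorem exists_other [Fintype F] (hp2 : p ≠ 2) (hμ : Nat.card (rootsOfUnity p F) = p)
    {ζ : Fˣ} (hζ : IsPrimitiveRoot ζ p)
    {Q : Sylow p (GL (ZMod p) F)} (hQ : (Q : Subgroup (GL (ZMod p) F)) = QS F p)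
    {x : GL (ZMod p) F} (hx : x ∈ QS F p) :
    ∃ P : Sylow p (GL (ZMod p) F), P ≠ Q ∧ x ∈ P := by
  obtain ⟨d, k, hd, rfl⟩ := mem_QS.mp hx
  by_cases hk : k = 0
  · subst hk
    by_cases hinj : Function.Injective d
    · exact case_ii hp2 hμ hQ hd hinj
    · obtain ⟨i, j, hij, hne⟩ : ∃ i j, d i = d j ∧ i ≠ j := by
        simpa [Function.Injective] using hinj
      exact case_i hp2 hμ hζ hQ hd hne hij
  · exact case_iii hp2 hμ hζ hQ hd hk

end final

section assemble

theorem red_of_equiv {G H : Type*} [Group G] [Group H] [Finite G] (φ : G ≃* H)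
    (h : Red p G) : Red p H := by
  obtain ⟨Q, hQ⟩ := h
  have hf : Function.Surjective (φ : G →* H) := φ.surjective
  refine ⟨Sylow.mapSurjective hf Q, fun x hx => ?_⟩
  obtain ⟨y, rfl⟩ := φ.surjective x
  have hy : ∃ k : ℕ, orderOf y = p ^ k := by
    obtain ⟨k, hk⟩ := hx
    exact ⟨k, by rw [← hk, MulEquiv.orderOf_eq]⟩
  obtain ⟨P, hne, hP⟩ := hQ y hy
  refine ⟨Sylow.mapSurjective hf P, ?_, ⟨y, hP, rfl⟩⟩
  intro he
  apply hne
  have h1 : (P : Subgroup G).map (φ : G →* H) = (Q : Subgroup G).map (φ : G →* H) :=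
    congrArg (fun S : Sylow p H => (S : Subgroup H)) he
  exact Sylow.ext (Subgroup.map_injective φ.injective h1)

theorem red_of_other {G : Type*} [Group G] [Finite G] {Q : Sylow p G}
    (h : ∀ x ∈ (Q : Subgroup G), ∃ P : Sylow p G, P ≠ Q ∧ x ∈ P) : Red p G := by
  refine ⟨Q, fun x hx => ?_⟩
  obtain ⟨S, hS⟩ := exists_sylow_of_order hx
  obtain ⟨g, rfl⟩ := MulAction.exists_smul_eq G Q S
  have hx' := (mem_smul_sylow g Q x).mp hS
  obtain ⟨P, hne, hP⟩ := h _ hx'
  by_cases h1 : g • Q = Q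
  · refine ⟨g • P, ?_, ?_⟩
    · intro h2
      apply hne
      rw [← h1] at h2
      exact smul_left_cancel g h2
    · rw [mem_smul_sylow]
      exact hP
  · exact ⟨g • Q, h1, hS⟩

variable {F : Type*} [Field F] [Fintype F] {p : ℕ} [hp : Fact p.Prime]

theorem exists_prim (h1 : p ∣ Fintype.card F - 1) : ∃ ζ : Fˣ, IsPrimitiveRoot ζ p := by
  classical
  have h2 : p ∣ Nat.card Fˣ := by
    rw [Nat.card_eq_fintype_card, Fintype.card_units]
    exact h1
  obtain ⟨x, hx⟩ := exists_prime_orderOf_dvd_card' p h2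
  exact ⟨x, hx ▸ IsPrimitiveRoot.orderOf x⟩

theorem card_QS (hμ : Nat.card (rootsOfUnity p F) = p) : Nat.card (QS F p) = p ^ (p + 1) := by
  classical
  let Φ : (ZMod p → rootsOfUnity p F) × ZMod p → QS F p := fun x =>
    ⟨M (fun i => (x.1 i : Fˣ)) x.2, M_mem_QS (fun i => (mem_rootsOfUnity _ _).mp (x.1 i).2)⟩
  have hΦ : Function.Bijective Φ := by
    constructor
    · rintro ⟨e, k⟩ ⟨e', k'⟩ h
      have h1 := congrArg Subtype.val h
      obtain ⟨h2, h3⟩ := M_inj h1
      have h4 : e = e' := by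
        funext i
        exact Subtype.ext (congrFun h2 i)
      have h5 : k = k' := h3
      rw [h4, h5]
    · rintro ⟨g, d, k, hd, rfl⟩
      exact ⟨(fun i => ⟨d i, (mem_rootsOfUnity _ _).mpr (hd i)⟩, k), rfl⟩
  rw [← Nat.card_congr (Equiv.ofBijective Φ hΦ), Nat.card_prod, Nat.card_fun, hμ, Nat.card_zmod,
    pow_succ]

theorem factorization_GL (hp2 : p ≠ 2) (h1 : p ∣ Fintype.card F - 1)
    (h2 : ¬ p ^ 2 ∣ Fintype.card F - 1) :
    (Nat.card (GL (Fin p) F)).factorization p = p + 1 := by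
  classical
  set q := Fintype.card F with hq
  have hq1 : 1 < q := Fintype.one_lt_card
  have hodd : Odd p := hp.out.odd_of_ne_two hp2
  have hpp := hp.out
  have hnd : ¬ p ∣ q := by
    intro h
    have h3 : p ∣ q - (q - 1) := Nat.dvd_sub h h1
    have h4 : q - (q - 1) = 1 := by omega
    rw [h4] at h3
    exact hpp.one_lt.ne' (Nat.dvd_one.mp h3)
  have hv : padicValNat p (q - 1) = 1 := by
    have h3 : (q - 1) ≠ 0 := by omega
    haveI : Fact p.Prime := hp
    apply le_antisymm
    · by_contra h4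
      push Not at h4
      exact h2 ((padicValNat_dvd_iff_le h3).mpr h4)
    · exact (padicValNat_dvd_iff_le (n := 1) h3).mp (by simpa using h1)
  rw [Matrix.card_GL_field]
  have hterm : ∀ i : Fin p, q ^ p - q ^ (i : ℕ) = q ^ (i : ℕ) * (q ^ (p - i) - 1) := by
    intro i
    rw [Nat.mul_sub, mul_one, ← pow_add, Nat.add_sub_cancel' i.2.le]
  have hne : ∀ i : Fin p, q ^ (p - i : ℕ) - 1 ≠ 0 := by
    intro i
    have h3 : 1 < q ^ (p - i : ℕ) := Nat.one_lt_pow (by have := i.2; omega) hq1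
    omega
  have hqne : ∀ i : ℕ, q ^ i ≠ 0 := fun i => pow_ne_zero _ (by omega)
  have hval : ∀ i : Fin p, (q ^ p - q ^ (i : ℕ)).factorization p = 1 + padicValNat p (p - i) := by
    intro i
    rw [hterm, Nat.factorization_mul (hqne _) (hne i), Finsupp.add_apply, Nat.factorization_pow,
      Finsupp.smul_apply, Nat.factorization_eq_zero_of_not_dvd hnd, smul_zero, zero_add,
      Nat.factorization_def _ hpp]
    have h3 := padicValNat.pow_sub_pow (p := p) (x := q) (y := 1) hodd hq1 h1 hnd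
      (n := p - i) (by have := i.2; omega)
    rw [one_pow] at h3
    rw [h3, hv]
  rw [Nat.factorization_prod (fun i _ => by rw [hterm]; exact mul_ne_zero (hqne _) (hne i)),
    Finsupp.finsetSum_apply, Finset.sum_congr rfl (fun i _ => hval i)]
  rw [Finset.sum_add_distrib, Finset.sum_const, Finset.card_univ, Fintype.card_fin, smul_eq_mul,
    mul_one]
  congr 1
  rw [Finset.sum_eq_single (⟨0, hpp.pos⟩ : Fin p)]
  · simp
  · intro i _ hi
    have h3 : (i : ℕ) ≠ 0 := fun h => hi (Fin.ext h)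
    apply padicValNat.eq_zero_of_not_dvd
    intro h4
    have h5 := Nat.le_of_dvd (by have := i.2; omega) h4
    omega
  · intro h
    exact absurd (Finset.mem_univ _) h

/-- the reindexing equivalence -/
noncomputable def reind (F : Type*) [Field F] (p : ℕ) [Fact p.Prime] : GL (ZMod p) F ≃* GL (Fin p) F :=
  Units.mapEquiv (Matrix.reindexAlgEquiv F F (zfin p)).toMulEquiv

theorem red_GL (hp2 : p ≠ 2) (h1 : p ∣ Fintype.card F - 1) (h2 : ¬ p ^ 2 ∣ Fintype.card F - 1) :
    Red p (GL (Fin p) F) := by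
  obtain ⟨ζ, hζ⟩ := exists_prim (F := F) h1
  have hζF : IsPrimitiveRoot (ζ : F) p := (IsPrimitiveRoot.coe_units_iff).mpr hζ
  haveI : NeZero p := ⟨hp.out.ne_zero⟩
  have hμ : Nat.card (rootsOfUnity p F) = p := hζ.card_rootsOfUnity'
  have hcard : Nat.card (QS F p) = p ^ (Nat.card (GL (ZMod p) F)).factorization p := by
    rw [Nat.card_congr (reind F p).toEquiv, factorization_GL hp2 h1 h2, card_QS hμ]
  apply red_of_equiv (reind F p)
  apply red_of_other (Q := Sylow.ofCard (QS F p) hcard)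
  intro x hx
  exact exists_other hp2 hμ hζ (Sylow.coe_ofCard _ hcard) hx

end assemble

end Cfsg.Agent.Lib.ClassSizes.GLRedundant
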