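import Mathlib
import Cfsg.Agent.Lib.ClassSizes.Basic
import Cfsg.Agent.Lib.Core.Basic
import Cfsg.Agent.Lib.Core.Factor
import Cfsg.Agent.Lib.Block.Defect
import Cfsg.Agent.Lib.Char.DefectZero
import Cfsg.Agent.Lib.Char.Burnside
import Cfsg.Agent.Lib.Char.Monomial
import Cfsg.Agent.Lib.Char.Constituent
import Cfsg.Agent.Lib.PSolv.Glauberman

/-!
# Kazarin's theorem: conjugacy classes of prime power size

If the class of `x` has `p`-power size then any two conjugates of `x` have commutator in `O_p(G)`.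
-/

set_option autoImplicit false

namespace Cfsg.Agent.Lib.ClassSizes

open Subgroup Cfsg
open Cfsg.Agent.Lib.Block
open Cfsg.Agent.Lib.Char
open scoped Pointwise

universe u

section Factor

variable {G : Type*} [Group G] [Finite G]

/-- If the class of `x` is a `p`-power, `G = C(x) P` for every Sylow `P`. -/
theorem exists_centralizer_mul_sylow {p : ℕ} [hp : Fact p.Prime] {x : G} {a : ℕ}
    (hx : (centralizer ({x} : Set G)).index = p ^ a) (P : Sylow p G) (g : G) :
    ∃ c ∈ centralizer ({x} : Set G), ∃ u ∈ (P : Subgroup G), g = c * u := by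
  apply Cfsg.Agent.Lib.Core.exists_mul_of_relIndex_eq
  set C := centralizer ({x} : Set G) with hC
  have h1 := Subgroup.relIndex_mul_index (H := C ⊓ (P : Subgroup G)) (K := (P : Subgroup G)) inf_le_right
  have h2 := Subgroup.relIndex_mul_index (H := C ⊓ (P : Subgroup G)) (K := C) inf_le_left
  rw [Subgroup.inf_relIndex_right] at h1
  have hcop : Nat.Coprime (p ^ a) (P : Subgroup G).index :=
    Nat.Coprime.pow_left a ((Nat.Prime.coprime_iff_not_dvd hp.out).mpr P.not_dvd_index)
  have hd : p ^ a ∣ C.relIndex (P : Subgroup G) := by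
    apply hcop.dvd_of_dvd_mul_right
    rw [h1, ← h2, hx]
    exact dvd_mul_left _ _
  have hle : C.relIndex (P : Subgroup G) ≤ C.index := by
    rw [← Subgroup.relIndex_top_right C]
    exact Subgroup.relIndex_le_of_le_right le_top (by
      rw [Subgroup.relIndex_top_right]
      exact Subgroup.index_ne_zero_of_finite)
  have hpos : 0 < C.relIndex (P : Subgroup G) := by
    apply Nat.pos_of_ne_zero
    intro h0
    rw [h0, zero_mul] at h1
    exact Subgroup.index_ne_zero_of_finite h1.symm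
  apply le_antisymm hle
  rw [hx]
  exact Nat.le_of_dvd hpos hd

/-- The `p`-power class-size condition passes to conjugates. -/
theorem index_centralizer_conj (x g : G) :
    (centralizer ({g * x * g⁻¹} : Set G)).index = (centralizer ({x} : Set G)).index := by
  have h : IsConj x (g * x * g⁻¹) := isConj_iff.mpr ⟨g, rfl⟩
  exact (Cfsg.Agent.Lib.Block.index_centralizer_of_isConj h).symm

/-- **Lemma C.** If `x` normalizes one Sylow `p`-subgroup and its class has `p`-power size, then the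
commutator of any two of its conjugates lies in `O_p(G)`. -/
theorem comm_mem_pCore_of_normalizes {p : ℕ} [hp : Fact p.Prime] {x : G} {a : ℕ}
    (hx : (centralizer ({x} : Set G)).index = p ^ a) (P₀ : Sylow p G)
    (hP₀ : ∀ w ∈ (P₀ : Subgroup G), x * w * x⁻¹ ∈ (P₀ : Subgroup G)) (g h : G) :
    (g * x * g⁻¹) * (h * x * h⁻¹) * (g * x * g⁻¹)⁻¹ * (h * x * h⁻¹)⁻¹ ∈ Cfsg.pCore p G := by
  rw [Cfsg.Agent.Lib.Core.mem_pCore_iff_forall_sylow]
  intro P
  -- `x` normalizes all Sylow subgroups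
  have hall : ∀ (Q : Sylow p G), ∀ w ∈ (Q : Subgroup G), x * w * x⁻¹ ∈ (Q : Subgroup G) := by
    intro Q w hw
    obtain ⟨s, rfl⟩ := MulAction.exists_smul_eq G P₀ Q
    obtain ⟨c, hc, u, hu, rfl⟩ := exists_centralizer_mul_sylow hx P₀ s
    have hcx : c * x = x * c := (Subgroup.mem_centralizer_singleton_iff.mp hc)
    have hw' : (c * u)⁻¹ * w * (c * u) ∈ (P₀ : Subgroup G) := mem_sylow_smul_iff.mp hw
    change x * w * x⁻¹ ∈ (((c * u) • P₀ : Sylow p G) : Subgroup G)
    apply mem_sylow_smul_iff.mpr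
    have hcx' : c⁻¹ * x = x * c⁻¹ := by
      rw [inv_mul_eq_iff_eq_mul, ← mul_assoc, hcx, mul_assoc, mul_inv_cancel, mul_one]
    have hcx'' : x⁻¹ * c = c * x⁻¹ := by
      rw [inv_mul_eq_iff_eq_mul, ← mul_assoc, ← hcx, mul_assoc, mul_inv_cancel, mul_one]
    have key : (c * u)⁻¹ * (x * w * x⁻¹) * (c * u) =
        u⁻¹ * (x * (u * ((c * u)⁻¹ * w * (c * u)) * u⁻¹) * x⁻¹) * u := by
      calc (c * u)⁻¹ * (x * w * x⁻¹) * (c * u)
          = u⁻¹ * ((c⁻¹ * x) * w * (x⁻¹ * c)) * u := by group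
        _ = u⁻¹ * (x * (c⁻¹ * w * c) * x⁻¹) * u := by rw [hcx', hcx'']; group
        _ = _ := by group
    rw [key]
    refine P₀.1.mul_mem (P₀.1.mul_mem (P₀.1.inv_mem hu) (hP₀ _ ?_)) hu
    exact P₀.1.mul_mem (P₀.1.mul_mem hu hw') (P₀.1.inv_mem hu)
  -- the conjugate `y` normalizes `P`
  set y := g * x * g⁻¹ with hy
  set z := h * x * h⁻¹ with hz
  have hyP : ∀ w ∈ (P : Subgroup G), y * w * y⁻¹ ∈ (P : Subgroup G) := by
    intro w hw
    have h1 : g⁻¹ * w * g ∈ ((g⁻¹ • P : Sylow p G) : Subgroup G) := by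
      apply mem_sylow_smul_iff.mpr
      have h0 : (g⁻¹)⁻¹ * (g⁻¹ * w * g) * g⁻¹ = w := by group
      rw [h0]
      exact hw
    have h2 := hall (g⁻¹ • P) _ h1
    have h3 := mem_sylow_smul_iff.mp h2
    have h4 : y * w * y⁻¹ = (g⁻¹)⁻¹ * (x * (g⁻¹ * w * g) * x⁻¹) * g⁻¹ := by
      rw [hy]; group
    rw [h4]
    exact h3
  -- factor `z = v y v⁻¹` with `v ∈ P`
  have hyidx : (centralizer ({y} : Set G)).index = p ^ a := by
    rw [hy, index_centralizer_conj, hx]
  obtain ⟨c, hc, v, hv, hcv⟩ := exists_centralizer_mul_sylow hyidx P (g * h⁻¹)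
  have hcy : c * y = y * c := Subgroup.mem_centralizer_singleton_iff.mp hc
  have hzv : z = v⁻¹ * y * v := by
    have h1 : z = (g * h⁻¹)⁻¹ * y * (g * h⁻¹) := by rw [hy, hz]; group
    rw [h1, hcv]
    have h2 : (c * v)⁻¹ * y * (c * v) = v⁻¹ * (c⁻¹ * (y * c)) * v := by group
    rw [h2, ← hcy]
    group
  rw [hzv]
  have hc1 : y * (v⁻¹ * y * v) * y⁻¹ * (v⁻¹ * y * v)⁻¹ =
      (y * v⁻¹ * y⁻¹) * (y * (y * v * y⁻¹) * y⁻¹) * (y * v⁻¹ * y⁻¹) * v := by
    group
  rw [hc1]
  have hvi := P.1.inv_mem hv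
  exact P.1.mul_mem (P.1.mul_mem (P.1.mul_mem (hyP _ hvi) (hyP _ (hyP _ hv))) (hyP _ hvi)) hv

end Factor

section Central

/-- A root of unity of `r`-power order is `1` modulo every prime above `r`. -/
theorem memLocalIdeal_one_sub_of_pow_eq_one {r k : ℕ} {M : Ideal AlgInt} (hM : IsPModular r M) {ζ : ℂ}
    (h : ζ ^ r ^ k = 1) : MemLocalIdeal M (1 - ζ) := by
  have := isPModular_isPrime hM
  have hr := isPModular_prime hM
  have hζ : IsIntegral ℤ ζ := root_isIntegral (pow_ne_zero _ hr.ne_zero) h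
  let z : AlgInt := ⟨ζ, hζ⟩
  have hz : z ^ r ^ k = 1 := Subtype.ext (by simpa [z] using h)
  obtain ⟨s, hs⟩ := exists_add_pow_prime_pow_eq hr (z - 1) 1 k
  have h1 : (z - 1) ^ r ^ k = -((r : AlgInt) * ((z - 1) * s)) := by
    have h2 : z - 1 + 1 = z := by ring
    rw [h2, hz, one_pow] at hs
    linear_combination -hs
  have h3 : (z - 1) ^ r ^ k ∈ M := by
    rw [h1]
    exact M.neg_mem (M.mul_mem_right _ (isPModular_natCast_mem hM))
  have h4 : z - 1 ∈ M := Ideal.IsPrime.mem_of_pow_mem ‹_› _ h3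
  have h5 : 1 - z ∈ M := by
    have := M.neg_mem h4
    rwa [neg_sub] at this
  have h6 := memLocalIdeal_of_mem h5
  simpa [z] using h6

variable {G : Type*} [Group G] [Finite G]

/-- If `x` has `r`-power order and normally generates `G`, `[G : G']` divides a power of `r`. -/
theorem index_commutator_dvd_of_normalClosure_eq_top {r k : ℕ} {x : G} (hxk : x ^ r ^ k = 1)
    (hgen : normalClosure ({x} : Set G) = ⊤) : (commutator G).index ∣ r ^ k := by
  have hN : (zpowers x ⊔ commutator G).Normal := by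
    refine ⟨fun n hn g => ?_⟩
    have h1 : g * n * g⁻¹ = (g * n * g⁻¹ * n⁻¹) * n := by group
    rw [h1]
    refine Subgroup.mul_mem _ (Subgroup.mem_sup_right ?_) hn
    have := Subgroup.commutator_mem_commutator (Subgroup.mem_top g) (Subgroup.mem_top n)
    rwa [commutatorElement_def] at this
  have htop : zpowers x ⊔ commutator G = ⊤ := by
    apply top_le_iff.mp
    rw [← hgen]
    apply Subgroup.normalClosure_le_normal
    rintro y rfl
    exact Subgroup.mem_sup_left (Subgroup.mem_zpowers _)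
  have h := Subgroup.relIndex_sup_right (zpowers x) (commutator G)
  rw [htop, Subgroup.relIndex_top_right] at h
  rw [h]
  refine (Subgroup.relIndex_dvd_card _ _).trans ?_
  rw [Nat.card_zpowers]
  exact orderOf_dvd_of_pow_eq_one hxk

/-- **Theorem A, part 1**: block orthogonality gives that `G'` has order prime to `r`. -/
theorem not_dvd_orderOf_of_mem_commutator {p r : ℕ} [hp : Fact p.Prime] [hr : Fact r.Prime] (hpr : p ≠ r)
    {x : G} {k a : ℕ} (hxk : x ^ r ^ k = 1)
    (ha : (centralizer ({x} : Set G)).index = p ^ a) (hgen : normalClosure ({x} : Set G) = ⊤)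
    {g : G} (hg : g ∈ commutator G) : ¬ r ∣ orderOf g := by
  classical
  intro hrg
  have : Fintype G := Fintype.ofFinite G
  obtain ⟨M, hM⟩ := exists_isPModular r hr.out
  have := isPModular_isPrime hM
  have hidx := index_commutator_dvd_of_normalClosure_eq_top hxk hgen
  let χ₀ : IrrCharacter G := ⟨fun _ => 1, isIrrCharacter_one⟩
  let B : Set (IrrCharacter G) := blockOf M (χ₀ : G → ℂ)
  have hB : IsBlockUnion M B := isBlockUnion_of_isPBlock (isPBlock_blockOf χ₀)
  have hsum := sum_degree_mul_eq_zero hM hB hrg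
  -- linear characters
  have hlam : ∀ lam : G →* ℂˣ, ∀ u ∈ commutator G, (lam u : ℂ) = 1 := by
    intro lam u hu
    have h1 : commutator G ≤ lam.ker := by
      rw [commutator_eq_closure] 
      rw [Subgroup.closure_le]
      rintro _ ⟨a, b, rfl⟩
      rw [SetLike.mem_coe, MonoidHom.mem_ker, commutatorElement_def, map_mul, map_mul, map_mul, map_inv,
        map_inv, mul_inv_cancel_comm, mul_inv_cancel]
    have h2 : lam u = 1 := h1 hu
    simp [h2]
  have hlam2 : ∀ lam : G →* ℂˣ, ∀ u : G, (lam u : ℂ) ^ r ^ k = 1 := by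
    intro lam u
    obtain ⟨c, hc⟩ := hidx
    have h1 : u ^ (commutator G).index ∈ commutator G := Subgroup.pow_index_mem _ u
    have h2 := hlam lam _ h1
    rw [hc, pow_mul, ← Units.val_pow_eq_pow_val, ← map_pow, h2, one_pow]
  have hlinB : ∀ χ : IrrCharacter G, (χ : G → ℂ) 1 = 1 → χ ∈ B := by
    intro χ h1
    obtain ⟨lam, hlam'⟩ := exists_hom_of_character_one (IsIrrCharacter.isCharacter χ.2) h1
    intro u
    have h3 : centralChar (χ₀ : G → ℂ) u - centralChar (χ : G → ℂ) u =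
        ((centralizer ({u} : Set G)).index : ℂ) * (1 - (lam u : ℂ)) := by
      unfold centralChar
      rw [hlam']
      simp [χ₀]
      ring
    rw [h3]
    exact memLocalIdeal_mul_left (memLocalRing_natCast _)
      (memLocalIdeal_one_sub_of_pow_eq_one hM (hlam2 lam u))
  have hlin1 : ∀ χ : IrrCharacter G, (χ : G → ℂ) 1 = 1 → (χ : G → ℂ) g = 1 := by
    intro χ h1
    obtain ⟨lam, hlam'⟩ := exists_hom_of_character_one (IsIrrCharacter.isCharacter χ.2) h1
    rw [hlam']
    exact hlam lam g hg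
  -- non-linear members of the block have degree divisible by `p`
  have hdeg : ∀ χ : IrrCharacter G, χ ∈ B → (χ : G → ℂ) 1 ≠ 1 →
      ∃ n : ℕ, (χ : G → ℂ) 1 = (p : ℂ) * n := by
    intro χ hχ h1
    obtain ⟨n, ρ, hρ, hχρ⟩ := χ.2
    have hone : (χ : G → ℂ) 1 = (n : ℂ) := by
      rw [← hχρ]
      have := Representation.char_one ρ
      simpa using this
    by_cases hpn : p ∣ n
    · obtain ⟨c, rfl⟩ := hpn
      exact ⟨c, by rw [hone]; push_cast; ring⟩
    exfalso
    apply h1
    have hcop : Nat.Coprime (Module.finrank ℂ (Fin n → ℂ)) (centralizer ({x} : Set G)).index := by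
      rw [ha]
      simp only [Module.finrank_fin_fun]
      apply Nat.Coprime.pow_right
      exact ((Nat.Prime.coprime_iff_not_dvd hp.out).mpr hpn).symm
    -- nonvanishing at `x`
    have hne : ρ.character x ≠ 0 := by
      intro h0
      have h2 := hχ x
      have h3 : centralChar (χ₀ : G → ℂ) x - centralChar (χ : G → ℂ) x = ((p ^ a : ℕ) : ℂ) := by
        unfold centralChar
        rw [← hχρ, h0, ha]
        simp [χ₀]
      rw [h3, memLocalIdeal_natCast_iff hM] at h2
      exact hpr ((Nat.prime_dvd_prime_iff_eq hr.out hp.out).mp (hr.out.dvd_of_dvd_pow h2)).symm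
    have hnorm := (character_eq_zero_or_norm_of_coprime ρ hρ x hcop).resolve_left hne
    obtain ⟨ω, hω⟩ := (norm_character_eq_iff ρ x (isOfFinOrder_of_finite x)).mp hnorm
    have hmem : x ∈ scalarSubgroup ρ := mem_scalarSubgroup_of_smul ρ x ω hω
    have htop : scalarSubgroup ρ = ⊤ := by
      apply top_le_iff.mp
      rw [← hgen]
      apply Subgroup.normalClosure_le_normal
      rintro y rfl
      exact hmem
    have h5 := finrank_eq_one_of_scalarSubgroup_eq_top ρ hρ htop
    simp only [Module.finrank_fin_fun] at h5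
    rw [hone, h5]
    simp
  -- decompose the sum
  have hterm : ∀ χ : IrrCharacter G, ∃ β : ℂ, IsIntegral ℤ β ∧
      (if χ ∈ B then (χ : G → ℂ) 1 * (χ : G → ℂ) g else 0) =
        (if (χ : G → ℂ) 1 = 1 then 1 else 0) + (p : ℂ) * β := by
    intro χ
    by_cases h1 : (χ : G → ℂ) 1 = 1
    · refine ⟨0, isIntegral_zero, ?_⟩
      rw [if_pos (hlinB χ h1), if_pos h1, h1, hlin1 χ h1]
      simp
    · simp only [if_neg h1, zero_add]
      by_cases h2 : χ ∈ B
      · obtain ⟨n, hn⟩ := hdeg χ h2 h1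
        refine ⟨n * (χ : G → ℂ) g, ?_, ?_⟩
        · exact (isIntegral_natCast n).mul (IsCharacter.isIntegral' (IsIrrCharacter.isCharacter χ.2) g)
        · rw [if_pos h2, hn]; ring
      · refine ⟨0, isIntegral_zero, ?_⟩
        rw [if_neg h2]; simp
  choose β hβ hβ' using hterm
  have hsum2 : (∑ χ : IrrCharacter G, (if (χ : G → ℂ) 1 = 1 then (1 : ℂ) else 0)) + (p : ℂ) * ∑ χ, β χ = 0 := by
    calc _ = ∑ χ : IrrCharacter G, ((if (χ : G → ℂ) 1 = 1 then (1 : ℂ) else 0) + (p : ℂ) * β χ) := by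
          rw [Finset.mul_sum, ← Finset.sum_add_distrib]
      _ = ∑ χ : IrrCharacter G, (if χ ∈ B then (χ : G → ℂ) 1 * (χ : G → ℂ) g else 0) :=
          Finset.sum_congr rfl fun χ _ => (hβ' χ).symm
      _ = 0 := hsum
  have hcount : ∑ χ : IrrCharacter G, (if (χ : G → ℂ) 1 = 1 then (1 : ℂ) else 0) =
      ((commutator G).index : ℂ) := by
    rw [← card_linear_eq_index_commutator, Finset.sum_boole, Nat.card_eq_fintype_card,
      Fintype.card_subtype]
  rw [hcount] at hsum2
  have hp0 : (p : ℂ) ≠ 0 := by exact_mod_cast hp.out.ne_zero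
  have hint : IsIntegral ℤ (((commutator G).index : ℂ) / (p : ℂ)) := by
    have h1 : ((commutator G).index : ℂ) / (p : ℂ) = -∑ χ, β χ := by
      field_simp
      linear_combination hsum2
    rw [h1]
    exact (IsIntegral.sum _ fun χ _ => hβ χ).neg
  have hd := nat_dvd_of_isIntegral_div hp.out.ne_zero hint
  have h5 := hd.trans hidx
  exact hpr ((Nat.prime_dvd_prime_iff_eq hp.out hr.out).mp (hp.out.dvd_of_dvd_pow h5))

/-- **Theorem A**: if `x` has `r`-power order, `r ≠ p`, its class has `p`-power size, and `x` normally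
generates `G`, then `x` normalizes a Sylow `p`-subgroup. -/
theorem exists_sylow_normalized {p r : ℕ} [hp : Fact p.Prime] [hr : Fact r.Prime] (hpr : p ≠ r)
    {x : G} {k a : ℕ} (hxk : x ^ r ^ k = 1)
    (ha : (centralizer ({x} : Set G)).index = p ^ a) (hgen : normalClosure ({x} : Set G) = ⊤) :
    ∃ P : Sylow p G, ∀ w ∈ (P : Subgroup G), x * w * x⁻¹ ∈ (P : Subgroup G) := by
  set D := commutator G with hD
  have hDr : ¬ r ∣ Nat.card D := by
    intro h
    obtain ⟨g, hg⟩ := exists_prime_orderOf_dvd_card' r h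
    apply not_dvd_orderOf_of_mem_commutator hpr hxk ha hgen g.2
    have : orderOf (g : G) = orderOf g := Subgroup.orderOf_coe g
    rw [this, hg]
  have hQ : IsPGroup r (zpowers x) := by
    rw [IsPGroup.iff_card, Nat.card_zpowers]
    exact (Nat.dvd_prime_pow hr.out).mp (orderOf_dvd_of_pow_eq_one hxk) |>.imp fun _ h => h.2
  obtain ⟨R, hR⟩ := Cfsg.Agent.Lib.PSolv.exists_invariant_sylow (p := p) (q := r) (zpowers x) D hQ hDr
  have hidx := index_commutator_dvd_of_normalClosure_eq_top hxk hgen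
  let P₀ : Subgroup G := (R : Subgroup D).map D.subtype
  have hP₀ : IsPGroup p P₀ := R.isPGroup'.map _
  have hindex : ¬ p ∣ P₀.index := by
    have h1 : P₀.index = (R : Subgroup D).index * D.index := by
      exact Subgroup.index_map_subtype _
    rw [h1]
    intro h
    rcases (Nat.Prime.dvd_mul hp.out).mp h with h2 | h2
    · exact R.not_dvd_index h2
    · exact hpr ((Nat.prime_dvd_prime_iff_eq hp.out hr.out).mp (hp.out.dvd_of_dvd_pow (h2.trans hidx)))
  refine ⟨hP₀.toSylow hindex, ?_⟩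
  intro w hw
  have hw' : w ∈ P₀ := hw
  obtain ⟨w', hw', rfl⟩ := hw'
  have h2 := hR x (Subgroup.mem_zpowers x) w' hw'
  exact ⟨_, h2, rfl⟩

end Central

section Closure

variable {H : Type*} [Group H] [Finite H]

/-- If the conjugates of an `r`-element commute then it lies in `O_r`. -/
theorem mem_pCore_of_conj_commute {r k : ℕ} [hr : Fact r.Prime] {u : H} (hu : u ^ r ^ k = 1)
    (hc : ∀ g h : H, (g * u * g⁻¹) * (h * u * h⁻¹) = (h * u * h⁻¹) * (g * u * g⁻¹)) :
    u ∈ Cfsg.pCore r H := by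
  set S : Set H := Group.conjugatesOfSet {u} with hS
  have hmem : ∀ s ∈ S, ∃ g : H, s = g * u * g⁻¹ := by
    intro s hs
    rw [hS, Group.mem_conjugatesOfSet_iff] at hs
    obtain ⟨a, ha, hsa⟩ := hs
    rw [Set.mem_singleton_iff] at ha
    subst ha
    obtain ⟨g, rfl⟩ := isConj_iff.mp hsa
    exact ⟨g, rfl⟩
  have hcomm : ∀ a ∈ S, ∀ b ∈ S, a * b = b * a := by
    intro a ha b hb
    obtain ⟨g, rfl⟩ := hmem a ha
    obtain ⟨h, rfl⟩ := hmem b hb
    exact hc g h
  have hsub : normalClosure ({u} : Set H) = Subgroup.closure S := rfl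
  have hN : (normalClosure ({u} : Set H)).Normal := inferInstance
  have hrk : ∀ s ∈ S, ∃ m, s ^ r ^ m = 1 := by
    intro s hs
    obtain ⟨g, rfl⟩ := hmem s hs
    refine ⟨k, ?_⟩
    rw [conj_pow, hu]
    group
  haveI hcg : IsMulCommutative (Subgroup.closure S) := Subgroup.isMulCommutative_closure hcomm
  have hmul : ∀ a ∈ Subgroup.closure S, ∀ b ∈ Subgroup.closure S, a * b = b * a := by
    intro a ha b hb
    have := mul_comm' (⟨a, ha⟩ : Subgroup.closure S) ⟨b, hb⟩
    exact congrArg Subtype.val this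
  have hall : ∀ a ∈ Subgroup.closure S, ∃ m, a ^ r ^ m = 1 := by
    intro a ha
    induction ha using Subgroup.closure_induction with
    | mem x hx => exact hrk x hx
    | one => exact ⟨0, by simp⟩
    | mul x y hx hy ihx ihy =>
      obtain ⟨m, hm⟩ := ihx
      obtain ⟨n, hn⟩ := ihy
      refine ⟨m + n, ?_⟩
      have hcm : Commute x y := hmul x hx y hy
      rw [hcm.mul_pow, pow_add, pow_mul, hm, one_pow, one_mul, mul_comm, pow_mul, hn, one_pow]
    | inv x hx ih =>
      obtain ⟨m, hm⟩ := ih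
      exact ⟨m, by rw [inv_pow, hm, inv_one]⟩
  have hpg : IsPGroup r (normalClosure ({u} : Set H)) := by
    intro a
    obtain ⟨m, hm⟩ := hall a.1 a.2
    exact ⟨m, Subtype.ext (by simpa using hm)⟩
  exact Cfsg.Agent.Lib.Core.le_pCore hN hpg (Subgroup.subset_normalClosure rfl)

end Closure

section Main

theorem card_lt_of_ne_top {G : Type*} [Group G] [Finite G] (L : Subgroup G) (h : L ≠ ⊤) :
    Nat.card L < Nat.card G := by
  have h1 := Subgroup.card_mul_index L
  have h2 : L.index ≠ 1 := fun h3 => h (Subgroup.index_eq_one.mp h3)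
  have h3 : L.index ≠ 0 := Subgroup.index_ne_zero_of_finite
  have h4 : 0 < Nat.card L := Nat.card_pos
  rw [← h1]
  have h5 : 2 ≤ L.index := by omega
  nlinarith

theorem card_quotient_lt_of_ne_bot {G : Type*} [Group G] [Finite G] (N : Subgroup G) [N.Normal] (h : N ≠ ⊥) :
    Nat.card (G ⧸ N) < Nat.card G := by
  have h1 := Subgroup.card_eq_card_quotient_mul_card_subgroup N
  have h2 : 1 < Nat.card N := Subgroup.one_lt_card_iff_ne_bot N |>.mpr h
  have h3 : 0 < Nat.card (G ⧸ N) := Nat.card_pos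
  rw [h1]
  nlinarith

/-- The class size in a quotient divides the class size, so is still a `p`-power. -/
theorem exists_index_centralizer_map {G : Type*} [Group G] [Finite G] {p a : ℕ} (hp : p.Prime) (N : Subgroup G) [N.Normal] {x : G}
    (ha : (centralizer ({x} : Set G)).index = p ^ a) :
    ∃ b, (centralizer ({(x : G ⧸ N)} : Set (G ⧸ N))).index = p ^ b := by
  have h1 : (centralizer ({(x : G ⧸ N)} : Set (G ⧸ N))).index ∣ p ^ a := by
    have h2 := Subgroup.index_comap_of_surjective (centralizer ({(x : G ⧸ N)} : Set (G ⧸ N)))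
      (QuotientGroup.mk'_surjective N)
    rw [← h2, ← ha]
    apply Subgroup.index_dvd_of_le
    intro c hc
    rw [Subgroup.mem_comap, Subgroup.mem_centralizer_singleton_iff]
    have h3 : c * x = x * c := Subgroup.mem_centralizer_singleton_iff.mp hc
    change (c : G ⧸ N) * (x : G ⧸ N) = (x : G ⧸ N) * (c : G ⧸ N)
    rw [← QuotientGroup.mk_mul, ← QuotientGroup.mk_mul, h3]
  obtain ⟨b, -, hb⟩ := (Nat.dvd_prime_pow hp).mp h1
  exact ⟨b, hb⟩

theorem comm_mem_pCore_of_pow_eq_one_aux (p r : ℕ) [hp : Fact p.Prime] [hr : Fact r.Prime] :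
    ∀ (n : ℕ) (G : Type u) [Group G] [Finite G], Nat.card G = n → ∀ (x : G) (k a : ℕ), x ^ r ^ k = 1 →
      (centralizer ({x} : Set G)).index = p ^ a → ∀ g h : G,
      (g * x * g⁻¹) * (h * x * h⁻¹) * (g * x * g⁻¹)⁻¹ * (h * x * h⁻¹)⁻¹ ∈ Cfsg.pCore p G := by
  intro n
  induction n using Nat.strong_induction_on with
  | _ n ih =>
  intro G _ _ hn x k a hxk ha g h
  -- the case `r = p`
  by_cases hpr : p = r
  · subst hpr
    have hQ : IsPGroup p (zpowers x) := by
      rw [IsPGroup.iff_card, Nat.card_zpowers]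
      exact (Nat.dvd_prime_pow hp.out).mp (orderOf_dvd_of_pow_eq_one hxk) |>.imp fun _ h => h.2
    obtain ⟨P, hP⟩ := hQ.exists_le_sylow
    refine comm_mem_pCore_of_normalizes ha P (fun w hw => ?_) g h
    have hx : x ∈ (P : Subgroup G) := hP (Subgroup.mem_zpowers x)
    exact P.1.mul_mem (P.1.mul_mem hx hw) (P.1.inv_mem hx)
  by_cases hN : Cfsg.pCore p G = ⊥
  swap
  · -- pass to the quotient by `O_p(G)`
    set N := Cfsg.pCore p G with hNdef
    have hcard : Nat.card (G ⧸ N) < n := by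
      rw [← hn]
      exact card_quotient_lt_of_ne_bot N hN
    obtain ⟨b, hb⟩ := exists_index_centralizer_map hp.out N ha
    have hx1 : (x : G ⧸ N) ^ r ^ k = 1 := by
      rw [← QuotientGroup.mk_pow, hxk]; rfl
    have h1 := ih _ hcard (G ⧸ N) rfl (x : G ⧸ N) k b hx1 hb (g : G ⧸ N) (h : G ⧸ N)
    have hbot : Cfsg.pCore p (G ⧸ N) = ⊥ := Cfsg.Agent.Lib.Core.pCore_quotient_pCore_eq_bot (p := p) (G := G)
    rw [hbot, Subgroup.mem_bot] at h1
    have h2 : (((g * x * g⁻¹) * (h * x * h⁻¹) * (g * x * g⁻¹)⁻¹ * (h * x * h⁻¹)⁻¹ : G) : G ⧸ N) = 1 := h1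
    exact (QuotientGroup.eq_one_iff _).mp h2
  -- `O_p(G) = 1`
  set L := normalClosure ({x} : Set G) with hL
  by_cases htop : L = ⊤
  · obtain ⟨P, hP⟩ := exists_sylow_normalized hpr hxk ha htop
    exact comm_mem_pCore_of_normalizes ha P hP g h
  have hxL : x ∈ L := Subgroup.subset_normalClosure rfl
  have hcardL : Nat.card L < n := by
    rw [← hn]
    exact card_lt_of_ne_top L htop
  -- the class size in `L`
  let xL : L := ⟨x, hxL⟩
  have hidxL : ∃ b, (centralizer ({xL} : Set L)).index = p ^ b := by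
    have h1 : (centralizer ({xL} : Set L)) = (centralizer ({x} : Set G)).subgroupOf L := by
      ext c
      rw [Subgroup.mem_centralizer_singleton_iff, Subgroup.mem_subgroupOf,
        Subgroup.mem_centralizer_singleton_iff]
      exact Subtype.ext_iff
    have h2 : (centralizer ({xL} : Set L)).index ∣ p ^ a := by
      rw [h1, ← ha]
      exact relIndex_dvd_index_of_normal_right _ _
    obtain ⟨b, -, hb⟩ := (Nat.dvd_prime_pow hp.out).mp h2
    exact ⟨b, hb⟩
  obtain ⟨b, hb⟩ := hidxL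
  have hxLk : xL ^ r ^ k = 1 := Subtype.ext (by simpa [xL] using hxk)
  have h3 := ih _ hcardL L rfl xL k b hxLk hb
  -- `O_p(L) = 1`
  have hLp : Cfsg.pCore p L = ⊥ := by
    have h4 := Cfsg.Agent.Lib.Core.map_pCore_of_normal (p := p) L
    rw [hN, inf_bot_eq] at h4
    exact (Subgroup.map_eq_bot_iff_of_injective _ L.subtype_injective).mp h4
  rw [hLp] at h3
  have h5 : xL ∈ Cfsg.pCore r L := by
    apply mem_pCore_of_conj_commute hxLk
    intro s t
    have h6 := h3 s t
    rw [Subgroup.mem_bot] at h6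
    exact mul_inv_eq_iff_eq_mul.mp (mul_inv_eq_one.mp h6)
  -- so `L` is an `r`-group
  have h7 : x ∈ Cfsg.pCore r G := by
    have h8 := Cfsg.Agent.Lib.Core.map_pCore_of_normal (p := r) L
    have h9 : x ∈ (Cfsg.pCore r L).map L.subtype := ⟨xL, h5, rfl⟩
    rw [h8] at h9
    exact h9.2
  have h10 : L ≤ Cfsg.pCore r G := Subgroup.normalClosure_le_normal (by
    rintro y rfl
    exact h7)
  have hLr : IsPGroup r L := (Cfsg.Agent.Lib.Core.pCore_isPGroup r G).to_le h10 
  -- hence `x` is central in `L`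
  have hbz : (centralizer ({xL} : Set L)).index = 1 := by
    have h11 : (centralizer ({xL} : Set L)).index ∣ Nat.card L := Subgroup.index_dvd_card _
    obtain ⟨m, hm⟩ := IsPGroup.iff_card.mp hLr
    rw [hm, hb] at h11
    have h12 : Nat.Coprime (p ^ b) (r ^ m) :=
      Nat.Coprime.pow _ _ ((Nat.coprime_primes hp.out hr.out).mpr hpr)
    rw [hb]
    exact Nat.Coprime.eq_one_of_dvd h12 h11
  have hcen : ∀ c ∈ L, c * x = x * c := by
    intro c hc
    have h13 : (⟨c, hc⟩ : L) ∈ centralizer ({xL} : Set L) := by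
      rw [Subgroup.index_eq_one] at hbz
      rw [hbz]
      trivial
    rw [Subgroup.mem_centralizer_singleton_iff] at h13
    exact congrArg Subtype.val h13
  -- so conjugates commute
  have hy : g * x * g⁻¹ ∈ L := (inferInstance : L.Normal).conj_mem x hxL g
  have hz : h * x * h⁻¹ ∈ L := (inferInstance : L.Normal).conj_mem x hxL h
  have hcomm : (g * x * g⁻¹) * (h * x * h⁻¹) = (h * x * h⁻¹) * (g * x * g⁻¹) := by
    have h14 : g⁻¹ * (h * x * h⁻¹) * g ∈ L := by
      have := (inferInstance : L.Normal).conj_mem _ hz g⁻¹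
      simpa using this
    have h15 := hcen _ h14
    calc (g * x * g⁻¹) * (h * x * h⁻¹) = g * (x * (g⁻¹ * (h * x * h⁻¹) * g)) * g⁻¹ := by group
      _ = g * ((g⁻¹ * (h * x * h⁻¹) * g) * x) * g⁻¹ := by rw [h15]
      _ = _ := by group
  have h16 : (g * x * g⁻¹) * (h * x * h⁻¹) * (g * x * g⁻¹)⁻¹ * (h * x * h⁻¹)⁻¹ = 1 := by
    rw [hcomm]
    group
  rw [h16]
  exact Subgroup.one_mem _

/-- The case of trivial `O_p(G)`: the conjugates of `x` commute. -/
theorem conj_commute_of_pCore_eq_bot {G : Type u} [Group G] [Finite G] {p : ℕ} [hp : Fact p.Prime]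
    (hN : Cfsg.pCore p G = ⊥) (x : G) {a : ℕ} (ha : (centralizer ({x} : Set G)).index = p ^ a) (g h : G) :
    (g * x * g⁻¹) * (h * x * h⁻¹) = (h * x * h⁻¹) * (g * x * g⁻¹) := by
  set T := Cfsg.pPrimeCore p G with hT
  -- powers of `x` of prime power order lie in `T`
  have hpow : ∀ (q : ℕ) [Fact q.Prime] (v m : ℕ), (x ^ m) ^ q ^ v = 1 → x ^ m ∈ T := by
    intro q hq v m hu
    have hidx : ∃ b, (centralizer ({x ^ m} : Set G)).index = p ^ b := by
      have h1 : (centralizer ({x ^ m} : Set G)).index ∣ p ^ a := by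
        rw [← ha]
        apply Subgroup.index_dvd_of_le
        intro c hc
        rw [Subgroup.mem_centralizer_singleton_iff] at hc ⊢
        exact ((show Commute c x from hc).pow_right m)
      obtain ⟨b, -, hb⟩ := (Nat.dvd_prime_pow hp.out).mp h1
      exact ⟨b, hb⟩
    obtain ⟨b, hb⟩ := hidx
    have hcomm := comm_mem_pCore_of_pow_eq_one_aux p q _ G rfl (x ^ m) v b hu hb
    rw [hN] at hcomm
    have hmem : x ^ m ∈ Cfsg.pCore q G := by
      apply mem_pCore_of_conj_commute hu
      intro s t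
      have h6 := hcomm s t
      rw [Subgroup.mem_bot] at h6
      exact mul_inv_eq_iff_eq_mul.mp (mul_inv_eq_one.mp h6)
    by_cases hpq : p = q
    · subst hpq
      rw [hN, Subgroup.mem_bot] at hmem
      rw [hmem]
      exact Subgroup.one_mem _
    · have hq1 : (Nat.card (Cfsg.pCore q G)).Coprime p := by
        obtain ⟨w, hw⟩ := IsPGroup.iff_card.mp (Cfsg.Agent.Lib.Core.pCore_isPGroup q G)
        rw [hw]
        exact Nat.Coprime.pow_left _ ((Nat.coprime_primes hq.out hp.out).mpr (Ne.symm hpq))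
      exact Cfsg.Agent.Lib.Core.le_pPrimeCore (Cfsg.Agent.Lib.Core.pCore_normal q G) hq1 hmem
  -- so `x ∈ T`
  have hxT : x ∈ T := by
    by_contra hne
    have hne' : (x : G ⧸ T) ≠ 1 := fun h1 => hne ((QuotientGroup.eq_one_iff _).mp h1)
    have ho : orderOf (x : G ⧸ T) ≠ 1 := fun h1 => hne' (orderOf_eq_one_iff.mp h1)
    obtain ⟨q, hq, hqo⟩ := Nat.exists_prime_and_dvd ho
    haveI : Fact q.Prime := ⟨hq⟩
    obtain ⟨v, m, hqm, hvm⟩ := Nat.exists_eq_pow_mul_and_not_dvd (orderOf_pos x).ne' q hq.ne_one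
    have hu : (x ^ m) ^ q ^ v = 1 := by
      rw [← pow_mul, mul_comm, ← hvm, pow_orderOf_eq_one]
    have h1 := hpow q v m hu
    have h2 : (x : G ⧸ T) ^ m = 1 := by
      rw [← QuotientGroup.mk_pow]
      exact (QuotientGroup.eq_one_iff _).mpr h1
    exact hqm (hqo.trans (orderOf_dvd_of_pow_eq_one h2))
  -- `T` centralizes `x`
  have hcen : ∀ c ∈ T, c * x = x * c := by
    have h1 : (centralizer ({x} : Set G)).relIndex T ∣ p ^ a := by
      rw [← ha]
      exact relIndex_dvd_index_of_normal_right _ _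
    have h2 : (centralizer ({x} : Set G)).relIndex T ∣ Nat.card T := Subgroup.relIndex_dvd_card _ _
    have h3 : (Nat.card T).Coprime (p ^ a) :=
      Nat.Coprime.pow_right _ (Cfsg.Agent.Lib.Core.pPrimeCore_coprime p G)
    have h4 : (centralizer ({x} : Set G)).relIndex T = 1 :=
      Nat.Coprime.eq_one_of_dvd (Nat.Coprime.coprime_dvd_left h2 h3) h1
    intro c hc
    have h5 : T ≤ centralizer ({x} : Set G) := Subgroup.relIndex_eq_one.mp h4
    exact Subgroup.mem_centralizer_singleton_iff.mp (h5 hc)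
  have hz : h * x * h⁻¹ ∈ T := (inferInstance : T.Normal).conj_mem x hxT h
  have h14 : g⁻¹ * (h * x * h⁻¹) * g ∈ T := by
    have := (inferInstance : T.Normal).conj_mem _ hz g⁻¹
    simpa using this
  have h15 := hcen _ h14
  calc (g * x * g⁻¹) * (h * x * h⁻¹) = g * (x * (g⁻¹ * (h * x * h⁻¹) * g)) * g⁻¹ := by group
    _ = g * ((g⁻¹ * (h * x * h⁻¹) * g) * x) * g⁻¹ := by rw [h15]
    _ = _ := by group

/-- **Kazarin's theorem**: if the class of `x` has `p`-power size, the commutator of any two conjugates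
of `x` lies in `O_p(G)`. -/
theorem comm_mem_pCore_of_index_eq {G : Type u} [Group G] [Finite G] {p : ℕ} [hp : Fact p.Prime]
    (x : G) {a : ℕ} (ha : (centralizer ({x} : Set G)).index = p ^ a) (g h : G) :
    (g * x * g⁻¹) * (h * x * h⁻¹) * (g * x * g⁻¹)⁻¹ * (h * x * h⁻¹)⁻¹ ∈ Cfsg.pCore p G := by
  set N := Cfsg.pCore p G with hNdef
  obtain ⟨b, hb⟩ := exists_index_centralizer_map hp.out N ha
  have hbot : Cfsg.pCore p (G ⧸ N) = ⊥ := Cfsg.Agent.Lib.Core.pCore_quotient_pCore_eq_bot (p := p) (G := G)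
  have h1 := conj_commute_of_pCore_eq_bot hbot (x : G ⧸ N) hb (g : G ⧸ N) (h : G ⧸ N)
  have h2 : (((g * x * g⁻¹) * (h * x * h⁻¹) * (g * x * g⁻¹)⁻¹ * (h * x * h⁻¹)⁻¹ : G) : G ⧸ N) = 1 := by
    have h3 : (((g * x * g⁻¹) * (h * x * h⁻¹) * (g * x * g⁻¹)⁻¹ * (h * x * h⁻¹)⁻¹ : G) : G ⧸ N) =
        ((g : G ⧸ N) * x * (g : G ⧸ N)⁻¹) * ((h : G ⧸ N) * x * (h : G ⧸ N)⁻¹) *
          ((g : G ⧸ N) * x * (g : G ⧸ N)⁻¹)⁻¹ * ((h : G ⧸ N) * x * (h : G ⧸ N)⁻¹)⁻¹ := rfl
    rw [h3, h1]
    group
  exact (QuotientGroup.eq_one_iff _).mp h2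

end Main

end Cfsg.Agent.Lib.ClassSizes
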