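import Mathlib
import Cfsg.Agent.Lib.Transfer.CycIndexP
import Cfsg.Agent.Lib.PGroup.Basic

/-! A noncyclic `p`-group of order at least `p³`, `p` odd, has `0` or `p` cyclic maximal subgroups. -/

set_option autoImplicit false

namespace Cfsg.Agent.Lib.ClassSizes.KulNu

open Subgroup
open scoped Classical

variable {G : Type*} [Group G] [Finite G] {p : ℕ} [hp : Fact p.Prime]

theorem order_of_pth_root {y w : G} {n : ℕ} (hn : 3 ≤ n) (hy : IsPGroup p G) (hw : y ^ p = w)
    (hwo : orderOf w = p ^ (n - 2)) : orderOf y = p ^ (n - 1) := by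
  have hpp := hp.out
  obtain ⟨k, hk⟩ := IsPGroup.iff_orderOf.1 hy y
  rw [← hw, orderOf_pow' y hpp.ne_zero, hk] at hwo
  cases k with
  | zero =>
    exfalso
    rw [pow_zero, Nat.gcd_one_left, Nat.div_one] at hwo
    have h1 : 1 < p ^ (n - 2) := Nat.one_lt_pow (by omega) hpp.one_lt
    omega
  | succ j =>
    have h1 : Nat.gcd (p ^ (j + 1)) p = p := Nat.gcd_eq_right (dvd_pow_self p (by omega))
    rw [h1, pow_succ, Nat.mul_div_cancel _ hpp.pos] at hwo
    have h2 : j = n - 2 := Nat.pow_right_injective hpp.two_le hwo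
    rw [hk, h2]
    congr 1
    omega

theorem nu_dvd (hodd : p ≠ 2) (hG : IsPGroup p G) (hnc : ¬ IsCyclic G) {n : ℕ} (hn : 3 ≤ n)
    (hc : Nat.card G = p ^ n) : p ∣ Nat.card {C : Subgroup G // C.index = p ∧ IsCyclic C} := by
  have hpp := hp.out
  haveI := Fintype.ofFinite G
  haveI := Fintype.ofFinite (Subgroup G)
  by_cases hne : ∃ C : Subgroup G, C.index = p ∧ IsCyclic C
  swap
  · have : IsEmpty {C : Subgroup G // C.index = p ∧ IsCyclic C} := ⟨fun C => hne ⟨C.1, C.2⟩⟩
    rw [Nat.card_of_isEmpty]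
    exact dvd_zero p
  obtain ⟨C₀, hC₀i, hC₀c⟩ := hne
  have hgen : ∀ C : Subgroup G, C.index = p → IsCyclic C → ∃ y : G, C = zpowers y ∧ orderOf y = p ^ (n - 1) := by
    intro C hCi hCc
    obtain ⟨g, hg⟩ := hCc
    have hCz : C = zpowers (g : G) := by
      apply le_antisymm
      · intro u hu
        obtain ⟨k, hk⟩ := hg ⟨u, hu⟩
        refine ⟨k, ?_⟩
        have := congrArg Subtype.val hk
        simpa using this
      · rw [zpowers_le]
        exact g.2
    refine ⟨g, hCz, ?_⟩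
    have h1 := Subgroup.card_mul_index C
    rw [hCi, hCz, Nat.card_zpowers, hc] at h1
    have h2 : p ^ n = p ^ (n - 1) * p := by
      rw [← pow_succ]
      congr 1
      omega
    rw [h2] at h1
    exact Nat.eq_of_mul_eq_mul_right hpp.pos h1
  obtain ⟨x₀, hx₀, hx₀o⟩ := hgen C₀ hC₀i hC₀c
  have hCi' : (zpowers x₀).index = p := hx₀ ▸ hC₀i
  have hcomm := Cfsg.Agent.Lib.Transfer.comm_central_of_cyc_index hodd hG x₀ hCi'
  have hmulp : ∀ u v : G, (u * v) ^ p = u ^ p * v ^ p := fun u v =>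
    Cfsg.Agent.Lib.Transfer.mul_pow_of_comm_pow hodd (hcomm v u).2.1 (hcomm v u).1 (hcomm v u).2.2
  let φ : G →* G := MonoidHom.mk' (fun u => u ^ p) hmulp
  have hφ : ∀ u, φ u = u ^ p := fun _ => rfl
  have hkerc : Nat.card φ.ker = p ^ 2 := by
    have h1 := (Cfsg.Agent.Lib.Transfer.omega_of_cyc_index hodd hG hnc C₀ hC₀c hC₀i).2
    have hcl : closure {x : G | x ^ p = 1} = φ.ker := by
      have : {x : G | x ^ p = 1} = (φ.ker : Set G) := by
        ext u
        simp [MonoidHom.mem_ker, hφ]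
      rw [this, Subgroup.closure_eq]
    rwa [hcl] at h1
  have hrangec : Nat.card φ.range = p ^ (n - 2) := by
    have h1 := Subgroup.card_mul_index φ.ker
    rw [Subgroup.index_ker, hkerc, hc] at h1
    have h2 : p ^ n = p ^ 2 * p ^ (n - 2) := by
      rw [← pow_add]
      congr 1
      omega
    rw [h2] at h1
    exact Nat.eq_of_mul_eq_mul_left (pow_pos hpp.pos 2) h1
  have hpowo : ∀ y : G, orderOf y = p ^ (n - 1) → orderOf (y ^ p) = p ^ (n - 2) := by
    intro y hy
    rw [orderOf_pow' y hpp.ne_zero, hy, Nat.gcd_eq_right (dvd_pow_self p (by omega))]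
    have h2 : p ^ (n - 1) = p ^ (n - 2) * p := by
      rw [← pow_succ]
      congr 1
      omega
    rw [h2, Nat.mul_div_cancel _ hpp.pos]
  have hrange : ∀ y : G, orderOf y = p ^ (n - 1) → zpowers (y ^ p) = φ.range := by
    intro y hy
    apply Subgroup.eq_of_le_of_card_ge
    · rw [zpowers_le]
      exact ⟨y, rfl⟩
    · rw [Nat.card_zpowers, hpowo y hy, hrangec]
  -- the set of `p`-th roots
  obtain ⟨w, hw⟩ : ∃ w, w = x₀ ^ p := ⟨_, rfl⟩
  have hwo : orderOf w = p ^ (n - 2) := by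
    rw [hw]
    exact hpowo x₀ hx₀o
  let R : Finset G := Finset.univ.filter (fun y => y ^ p = w)
  have hmemR : ∀ y, y ∈ R ↔ y ^ p = w := by
    intro y
    simp [R]
  -- a translate of a subset of the kernel
  have hcoset : ∀ (D : Subgroup G) (y₁ : G), y₁ ∈ D → y₁ ^ p = w →
      (Finset.univ.filter (fun y => y ∈ D ∧ y ^ p = w)).card = Nat.card ↥(D ⊓ φ.ker) := by
    intro D y₁ hy₁ hy₁w
    rw [Nat.card_eq_fintype_card, ← Finset.card_univ]
    symm
    refine Finset.card_bij (fun z _ => y₁ * (z : G)) ?_ ?_ ?_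
    · intro z _
      rw [Finset.mem_filter]
      have hz := mem_inf.1 z.2
      refine ⟨Finset.mem_univ _, D.mul_mem hy₁ hz.1, ?_⟩
      rw [hmulp, hy₁w]
      have h1 : (z : G) ^ p = 1 := hz.2
      rw [h1, mul_one]
    · intro a _ b _ hab
      apply Subtype.ext
      exact mul_left_cancel hab
    · intro y hy
      rw [Finset.mem_filter] at hy
      have h1 : y₁⁻¹ * y ∈ D ⊓ φ.ker := by
        refine mem_inf.2 ⟨D.mul_mem (D.inv_mem hy₁) hy.2.1, ?_⟩
        rw [MonoidHom.mem_ker, map_mul, map_inv, hφ, hφ, hy.2.2, hy₁w, inv_mul_cancel]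
      refine ⟨⟨_, h1⟩, Finset.mem_univ _, ?_⟩
      show y₁ * (y₁⁻¹ * y) = y
      group
  have hRc : R.card = p ^ 2 := by
    have h1 := hcoset ⊤ x₀ (mem_top _) hw.symm
    rw [top_inf_eq, hkerc] at h1
    rw [← h1]
    congr 1
    ext y
    simp [hmemR]
  let 𝒞 : Finset (Subgroup G) := Finset.univ.filter (fun C => C.index = p ∧ IsCyclic C)
  have hmem𝒞 : ∀ C, C ∈ 𝒞 ↔ C.index = p ∧ IsCyclic C := by
    intro C
    simp [𝒞]
  have hmaps : ∀ y ∈ R, zpowers y ∈ 𝒞 := by
    intro y hy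
    rw [hmem𝒞]
    have hyo := order_of_pth_root hn hG ((hmemR y).1 hy) hwo
    refine ⟨?_, inferInstance⟩
    have h1 := Subgroup.card_mul_index (zpowers y)
    rw [Nat.card_zpowers, hyo, hc] at h1
    have h2 : p ^ n = p ^ (n - 1) * p := by
      rw [← pow_succ]
      congr 1
      omega
    rw [h2] at h1
    exact Nat.eq_of_mul_eq_mul_left (pow_pos hpp.pos _) h1
  have hfib : ∀ C ∈ 𝒞, (R.filter (fun y => zpowers y = C)).card = p := by
    intro C hC
    obtain ⟨hCi, hCc⟩ := (hmem𝒞 C).1 hC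
    obtain ⟨y₀, rfl, hy₀⟩ := hgen C hCi hCc
    have h1 : w ∈ zpowers (y₀ ^ p) := by
      rw [hrange y₀ hy₀, ← hrange x₀ hx₀o, ← hw]
      exact mem_zpowers w
    obtain ⟨t, ht⟩ := h1
    have hy₁p : (y₀ ^ t) ^ p = w := by
      rw [← ht]
      show (y₀ ^ t) ^ p = (y₀ ^ p) ^ t
      rw [← zpow_natCast, ← zpow_mul, mul_comm, zpow_mul, zpow_natCast]
    have hy₁mem : y₀ ^ t ∈ zpowers y₀ := zpow_mem_zpowers y₀ t
    have hset : R.filter (fun y => zpowers y = zpowers y₀) =
        Finset.univ.filter (fun y => y ∈ zpowers y₀ ∧ y ^ p = w) := by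
      ext y
      simp only [Finset.mem_filter, Finset.mem_univ, true_and, hmemR]
      constructor
      · rintro ⟨h2, h3⟩
        refine ⟨?_, h2⟩
        rw [← h3]
        exact mem_zpowers y
      · rintro ⟨h2, h3⟩
        refine ⟨h3, ?_⟩
        apply Subgroup.eq_of_le_of_card_ge
        · rwa [zpowers_le]
        · rw [Nat.card_zpowers, Nat.card_zpowers, hy₀, order_of_pth_root hn hG h3 hwo]
    rw [hset, hcoset _ _ hy₁mem hy₁p]
    -- the order of `D`
    set D := zpowers y₀ ⊓ φ.ker with hD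
    have hle : Nat.card D ≤ p := by
      have hDc : IsCyclic (D.subgroupOf (zpowers y₀)) := inferInstance
      obtain ⟨g, hg⟩ := hDc
      have h2 := orderOf_eq_card_of_forall_mem_zpowers hg
      have h3 : Nat.card (D.subgroupOf (zpowers y₀)) = Nat.card D :=
        Nat.card_congr (subgroupOfEquivOfLe inf_le_left).toEquiv
      rw [h3] at h2
      have h4 : g ^ p = 1 := by
        apply Subtype.ext
        apply Subtype.ext
        have h5 : ((g : zpowers y₀) : G) ∈ D := mem_subgroupOf.1 g.2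
        exact (mem_inf.1 h5).2
      rw [← h2]
      exact Nat.le_of_dvd hpp.pos (orderOf_dvd_of_pow_eq_one h4)
    have hge : p ≤ Nat.card D := by
      have h5 : p ∣ Nat.card (zpowers y₀) := by
        rw [Nat.card_zpowers, hy₀]
        exact dvd_pow_self p (by omega)
      obtain ⟨e, he⟩ := exists_prime_orderOf_dvd_card' p h5
      have h6 : zpowers ((e : G)) ≤ D := by
        rw [zpowers_le]
        refine mem_inf.2 ⟨e.2, ?_⟩
        have : e ^ p = 1 := by rw [← he]; exact pow_orderOf_eq_one e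
        have h7 := congrArg Subtype.val this
        exact h7
      have h8 := Subgroup.card_le_of_le h6
      rwa [Nat.card_zpowers, Subgroup.orderOf_coe, he] at h8
    exact le_antisymm hle hge
  have hsum : R.card = ∑ C ∈ 𝒞, (R.filter (fun y => zpowers y = C)).card :=
    Finset.card_eq_sum_card_fiberwise hmaps
  rw [Finset.sum_congr rfl hfib, Finset.sum_const, smul_eq_mul, hRc, pow_two] at hsum
  have h𝒞 : Nat.card {C : Subgroup G // C.index = p ∧ IsCyclic C} = 𝒞.card := by
    rw [Nat.card_eq_fintype_card, Fintype.card_subtype]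
  rw [h𝒞]
  have : 𝒞.card = p := (Nat.eq_of_mul_eq_mul_right hpp.pos hsum).symm
  rw [this]

end Cfsg.Agent.Lib.ClassSizes.KulNu
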