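import Mathlib
import Cfsg.Agent.S3975

/-! The number of subgroups of order `p^a` of a finite group is congruent modulo `p²` to the number of
such subgroups of a Sylow `p`-subgroup. -/

set_option autoImplicit false

namespace Cfsg.Agent.Lib.ClassSizes.KulSylow

open Subgroup MulAction
open scoped Classical

variable {G : Type*} [Group G]

/-- Conjugate of a subgroup. -/
noncomputable def cj (g : G) (H : Subgroup G) : Subgroup G := H.map (MulAut.conj g).toMonoidHom

theorem mem_cj {g x : G} {H : Subgroup G} : x ∈ cj g H ↔ g⁻¹ * x * g ∈ H := by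
  constructor
  · rintro ⟨y, hy, rfl⟩
    have : g⁻¹ * (g * y * g⁻¹) * g = y := by group
    show g⁻¹ * (g * y * g⁻¹) * g ∈ H
    rwa [this]
  · intro h
    refine ⟨_, h, ?_⟩
    show g * (g⁻¹ * x * g) * g⁻¹ = x
    group

theorem cj_one (H : Subgroup G) : cj 1 H = H := by
  ext x
  simp [mem_cj]

theorem cj_mul (a b : G) (H : Subgroup G) : cj (a * b) H = cj a (cj b H) := by
  ext x
  rw [mem_cj, mem_cj, mem_cj]
  have : (a * b)⁻¹ * x * (a * b) = b⁻¹ * (a⁻¹ * x * a) * b := by group
  rw [this]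

theorem cj_inv_cj (g : G) (H : Subgroup G) : cj g⁻¹ (cj g H) = H := by
  rw [← cj_mul, inv_mul_cancel, cj_one]

theorem cj_cj_inv (g : G) (H : Subgroup G) : cj g (cj g⁻¹ H) = H := by
  rw [← cj_mul, mul_inv_cancel, cj_one]

theorem card_cj (g : G) (H : Subgroup G) : Nat.card (cj g H) = Nat.card H :=
  (Nat.card_congr (MulEquiv.subgroupMap (MulAut.conj g) H).symm.toEquiv)

theorem cj_le {g : G} {A B : Subgroup G} (h : A ≤ B) : cj g A ≤ cj g B :=
  Subgroup.map_mono h

theorem cj_inf (g : G) (A B : Subgroup G) : cj g (A ⊓ B) = cj g A ⊓ cj g B := by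
  ext x
  simp [mem_cj, Subgroup.mem_inf]

theorem cj_self {g : G} {P : Subgroup G} (hg : g ∈ P) : cj g P = P := by
  ext x
  rw [mem_cj]
  constructor
  · intro h
    have := P.mul_mem (P.mul_mem hg h) (P.inv_mem hg)
    have e : g * (g⁻¹ * x * g) * g⁻¹ = x := by group
    rwa [e] at this
  · intro h
    exact P.mul_mem (P.mul_mem (P.inv_mem hg) h) hg

theorem cj_eq_iff {g : G} {H : Subgroup G} : cj g H = H ↔ g ∈ normalizer (H : Set G) := by
  rw [mem_normalizer_iff]
  constructor
  · intro h x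
    constructor
    · intro hx
      rw [← h, mem_cj]
      have e : g⁻¹ * (g * x * g⁻¹) * g = x := by group
      rwa [e]
    · intro hx
      rw [← h, mem_cj] at hx
      have e : g⁻¹ * (g * x * g⁻¹) * g = x := by group
      rwa [e] at hx
  · intro h
    ext x
    rw [mem_cj, h]
    have e : g * (g⁻¹ * x * g) * g⁻¹ = x := by group
    rw [e]

theorem normalizer_cj {g : G} {A H : Subgroup G} (h : A ≤ normalizer (H : Set G)) :
    cj g A ≤ normalizer (cj g H : Set G) := by
  intro x hx
  rw [← cj_eq_iff]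
  have h1 := (cj_eq_iff).2 (h (mem_cj.1 hx))
  have e : x = g * (g⁻¹ * x * g) * g⁻¹ := by group
  calc cj x (cj g H) = cj (x * g) H := (cj_mul _ _ _).symm
    _ = cj (g * (g⁻¹ * x * g)) H := by congr 1; group
    _ = cj g (cj (g⁻¹ * x * g) H) := cj_mul _ _ _
    _ = cj g H := by rw [h1]

/-- Conjugation action of a subgroup on subgroups. -/
noncomputable def act (P : Subgroup G) : MulAction P (Subgroup G) where
  smul g H := cj (g : G) H
  one_smul H := cj_one H
  mul_smul a b H := cj_mul (a : G) (b : G) H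

theorem dvd_sum_orbits {K Ω : Type*} [Group K] [MulAction K Ω] [Finite Ω] (A : Finset Ω)
    (hA : ∀ g : K, ∀ a ∈ A, g • a ∈ A) (n : Ω → ℕ) (hn : ∀ (g : K) (a : Ω), n (g • a) = n a) (d₁ d₂ : ℕ)
    (h1 : ∀ a ∈ A, d₁ ∣ Nat.card (orbit K a)) (h2 : ∀ a ∈ A, d₂ ∣ n a) : d₁ * d₂ ∣ ∑ a ∈ A, n a := by
  let q : Ω → orbitRel.Quotient K Ω := Quotient.mk''
  rw [← Finset.sum_fiberwise_of_maps_to (t := A.image q) (g := q) (fun a ha => Finset.mem_image_of_mem q ha)]
  apply Finset.dvd_sum
  intro ω hω
  obtain ⟨a₀, ha₀, rfl⟩ := Finset.mem_image.1 hω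
  have hfib : ∀ a, q a = q a₀ ↔ a ∈ orbit K a₀ := by
    intro a
    rw [← orbitRel_apply]
    exact Quotient.eq''
  have hconst : ∀ a ∈ A.filter (fun a => q a = q a₀), n a = n a₀ := by
    intro a ha
    have := (hfib a).1 (Finset.mem_filter.1 ha).2
    obtain ⟨g, rfl⟩ := this
    exact hn _ _
  rw [Finset.sum_congr rfl hconst, Finset.sum_const, smul_eq_mul]
  have hcard : (A.filter (fun a => q a = q a₀)).card = Nat.card (orbit K a₀) := by
    have hset : ((A.filter (fun a => q a = q a₀) : Finset Ω) : Set Ω) = orbit K a₀ := by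
      ext a
      simp only [Finset.coe_filter, Set.mem_setOf_eq]
      rw [hfib]
      constructor
      · exact fun h => h.2
      · intro h
        refine ⟨?_, h⟩
        obtain ⟨g, rfl⟩ := h
        exact hA _ _ ha₀
    rw [← hset]
    simp
  rw [hcard]
  exact mul_dvd_mul (h1 a₀ ha₀) (h2 a₀ ha₀)

variable [Finite G]

theorem card_transfer (R : Subgroup G) (q : ℕ) :
    Nat.card {H : Subgroup R // Nat.card H = q} = Nat.card {H : Subgroup G // H ≤ R ∧ Nat.card H = q} := by
  refine Nat.card_congr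
    { toFun := fun H => ⟨H.1.map R.subtype, map_subtype_le _, by
        rw [Subgroup.card_map_of_injective R.subtype_injective]; exact H.2⟩
      invFun := fun U => ⟨U.1.subgroupOf R,
        (Nat.card_congr (subgroupOfEquivOfLe U.2.1).toEquiv).trans U.2.2⟩
      left_inv := fun H => by
        apply Subtype.ext
        exact Subgroup.comap_map_eq_self_of_injective R.subtype_injective _
      right_inv := fun U => by
        apply Subtype.ext
        show (U.1.subgroupOf R).map R.subtype = U.1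
        rw [subgroupOf_map_subtype]
        exact inf_eq_left.2 U.2.1 }

theorem orbit_card_mul (P H : Subgroup G) :
    letI := act P
    Nat.card (orbit P H) * Nat.card ↥(P ⊓ normalizer (H : Set G)) = Nat.card P := by
  letI := act P
  have hst : stabilizer P H = (normalizer (H : Set G)).subgroupOf P := by
    ext g
    rw [mem_stabilizer_iff, mem_subgroupOf]
    exact cj_eq_iff
  have h1 : (stabilizer P H).index = Nat.card (orbit P H) := index_stabilizer P H
  have h2 := Subgroup.card_mul_index (stabilizer P H)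
  rw [h1] at h2
  have h3 : Nat.card (stabilizer P H) = Nat.card ↥(P ⊓ normalizer (H : Set G)) := by
    have e : (normalizer (H : Set G)).subgroupOf P = (P ⊓ normalizer (H : Set G)).subgroupOf P := by
      ext x
      simp [mem_subgroupOf]
    rw [hst, e]
    exact Nat.card_congr (subgroupOfEquivOfLe inf_le_left).toEquiv
  rw [mul_comm, ← h3, h2]

section sylow

variable {p : ℕ} [hp : Fact p.Prime]

theorem le_of_normalizes {P H : Subgroup G} (hP : IsPGroup p P) (hS : ∀ Q : Subgroup G, IsPGroup p Q → Nat.card Q ≤ Nat.card P)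
    (hH : IsPGroup p H) (hn : P ≤ normalizer (H : Set G)) : H ≤ P := by
  have hQ : IsPGroup p (H ⊔ P : Subgroup G) := IsPGroup.to_sup_of_normal_left' hH hP hn
  have h1 : P = H ⊔ P := Subgroup.eq_of_le_of_card_ge le_sup_right (hS _ hQ)
  rw [h1]
  exact le_sup_left

theorem le_of_le_normalizer {S Q : Subgroup G} (hSp : IsPGroup p S)
    (hS : ∀ R : Subgroup G, IsPGroup p R → Nat.card R ≤ Nat.card S)
    (hQ : IsPGroup p Q) (hn : Q ≤ normalizer (S : Set G)) : Q ≤ S := by
  have hR : IsPGroup p (Q ⊔ S : Subgroup G) := IsPGroup.to_sup_of_normal_right' hQ hSp hn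
  have h1 : S = Q ⊔ S := Subgroup.eq_of_le_of_card_ge le_sup_right (hS _ hR)
  rw [h1]
  exact le_sup_left

/-- An intermediate subgroup between groups whose orders have prime quotient is one of the two. -/
theorem between {A B C : Subgroup G} (hAC : A ≤ C) (hCB : C ≤ B) (hc : Nat.card B = p * Nat.card A) :
    C = A ∨ C = B := by
  have hpp := hp.out
  obtain ⟨i, hi⟩ := Subgroup.card_dvd_of_le hAC
  obtain ⟨j, hj⟩ := Subgroup.card_dvd_of_le hCB
  have hApos : 0 < Nat.card A := Nat.card_pos
  have h1 : p = i * j := by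
    have : p * Nat.card A = Nat.card A * (i * j) := by
      rw [← hc, hj, hi]
      ring
    rw [mul_comm] at this
    exact Nat.eq_of_mul_eq_mul_left hApos this
  rcases (Nat.Prime.eq_one_or_self_of_dvd hpp i ⟨j, h1⟩) with h | h
  · left
    symm
    apply Subgroup.eq_of_le_of_card_ge hAC
    rw [hi, h, mul_one]
  · right
    apply Subgroup.eq_of_le_of_card_ge hCB
    have hj1 : j = 1 := by
      rw [h] at h1
      have hp0 : 0 < p := hpp.pos
      nlinarith
    rw [hj, hj1, mul_one]

theorem le_pow_card {A B : Subgroup G} (hB : IsPGroup p B) (hAB : A ≤ B) (hne : A ≠ B) :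
    p * Nat.card A ≤ Nat.card B := by
  obtain ⟨u, hu⟩ := IsPGroup.iff_card.1 hB
  obtain ⟨v, hv⟩ := IsPGroup.iff_card.1 (hB.to_le hAB)
  have hlt : Nat.card A < Nat.card B := by
    apply lt_of_le_of_ne (Subgroup.card_le_of_le hAB)
    intro h
    exact hne (Subgroup.eq_of_le_of_card_ge hAB h.ge)
  rw [hu, hv] at hlt
  have hvu : v < u := (Nat.pow_lt_pow_iff_right hp.out.one_lt).1 hlt
  rw [hu, hv, ← pow_succ']
  exact Nat.pow_le_pow_right hp.out.pos hvu

variable {P : Subgroup G} (hP : IsPGroup p P) (hS : ∀ Q : Subgroup G, IsPGroup p Q → Nat.card Q ≤ Nat.card P)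
include hP hS

/-- First direction: from a subgroup moved in `p` images to a Sylow subgroup in which it is normal. -/
theorem step_one {H : Subgroup G} (hH : IsPGroup p H) (hHP : ¬ H ≤ P)
    (hT : Nat.card P = p * Nat.card ↥(P ⊓ normalizer (H : Set G))) :
    Nat.card ↥(H ⊔ (P ⊓ normalizer (H : Set G))) = Nat.card P ∧
      Nat.card P = p * Nat.card ↥(P ⊓ (H ⊔ (P ⊓ normalizer (H : Set G)))) ∧
      H ≤ H ⊔ (P ⊓ normalizer (H : Set G)) ∧
      H ⊔ (P ⊓ normalizer (H : Set G)) ≤ normalizer (H : Set G) ∧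
      P ⊓ (H ⊔ (P ⊓ normalizer (H : Set G))) = P ⊓ normalizer (H : Set G) := by
  set T := P ⊓ normalizer (H : Set G) with hTdef
  have hTP : IsPGroup p T := hP.to_le inf_le_left
  have hSp : IsPGroup p (H ⊔ T : Subgroup G) := IsPGroup.to_sup_of_normal_left' hH hTP inf_le_right
  have hTle : T ≤ H ⊔ T := le_sup_right
  have hne : T ≠ H ⊔ T := by
    intro h
    apply hHP
    have : H ≤ T := by rw [h]; exact le_sup_left
    exact this.trans inf_le_left
  have h1 := le_pow_card hSp hTle hne
  have h2 := hS _ hSp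
  have hc : Nat.card ↥(H ⊔ T) = Nat.card P := by omega
  have hint : P ⊓ (H ⊔ T) = T := by
    rcases between (A := T) (B := P) (C := P ⊓ (H ⊔ T)) (le_inf inf_le_left hTle) inf_le_left hT with h | h
    · exact h
    · exfalso
      have h3 : P ≤ H ⊔ T := inf_eq_left.1 h
      have h4 : P = H ⊔ T := Subgroup.eq_of_le_of_card_ge h3 hc.le
      apply hHP
      rw [h4]
      exact le_sup_left
  refine ⟨hc, ?_, le_sup_left, sup_le le_normalizer inf_le_right, hint⟩
  rw [hint]
  exact hT

/-- Second direction. -/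
theorem step_two {S H : Subgroup G} (hSc : Nat.card S = Nat.card P) (hSi : Nat.card P = p * Nat.card ↥(P ⊓ S))
    (hHS : H ≤ S) (hSH : S ≤ normalizer (H : Set G)) (hHP : ¬ H ≤ P) :
    P ⊓ normalizer (H : Set G) = P ⊓ S ∧ Nat.card P = p * Nat.card ↥(P ⊓ normalizer (H : Set G)) ∧
      H ⊔ (P ⊓ normalizer (H : Set G)) = S := by
  have hSp : IsPGroup p S := by
    obtain ⟨u, hu⟩ := IsPGroup.iff_card.1 hP
    exact IsPGroup.of_card (n := u) (hSc.trans hu)
  have hH : IsPGroup p H := hSp.to_le hHS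
  have h1 : P ⊓ normalizer (H : Set G) = P ⊓ S := by
    rcases between (A := P ⊓ S) (B := P) (C := P ⊓ normalizer (H : Set G))
      (inf_le_inf_left _ hSH) inf_le_left hSi with h | h
    · exact h
    · exfalso
      exact hHP (le_of_normalizes hP hS hH (inf_eq_left.1 h))
  have h2 : Nat.card S = p * Nat.card ↥(P ⊓ S) := hSc.trans hSi
  refine ⟨h1, by rw [h1]; exact hSi, ?_⟩
  rw [h1]
  rcases between (A := P ⊓ S) (B := S) (C := H ⊔ (P ⊓ S)) le_sup_right (sup_le hHS inf_le_right) h2 with h | h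
  · exfalso
    apply hHP
    have : H ≤ P ⊓ S := by rw [← h]; exact le_sup_left
    exact this.trans inf_le_left
  · exact h

/-- The orbit of a conjugate Sylow subgroup has `|P : P ∩ S|` elements. -/
theorem orbit_sylow {S : Subgroup G} (hSc : Nat.card S = Nat.card P) (hSi : Nat.card P = p * Nat.card ↥(P ⊓ S)) :
    letI := act P
    Nat.card (orbit P S) = p := by
  letI := act P
  have hSp : IsPGroup p S := by
    obtain ⟨u, hu⟩ := IsPGroup.iff_card.1 hP
    exact IsPGroup.of_card (n := u) (hSc.trans hu)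
  have h1 := orbit_card_mul P S
  have h2 : P ⊓ normalizer (S : Set G) = P ⊓ S := by
    apply le_antisymm
    · refine le_inf inf_le_left ?_
      exact le_of_le_normalizer hSp (fun Q hQ => (hS Q hQ).trans hSc.ge) (hP.to_le inf_le_left) inf_le_right
    · exact inf_le_inf_left _ le_normalizer
  rw [h2, hSi, mul_comm p] at h1
  exact Nat.eq_of_mul_eq_mul_right Nat.card_pos (h1.trans (mul_comm _ _))

end sylow

/-- Subgroups of `R` of a given `p`-power order normalized by a `p`-group normalizing `R`. -/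
theorem card_normalized_modEq {p a : ℕ} [hp : Fact p.Prime] {Q R : Subgroup G} (hQ : IsPGroup p Q)
    (hQR : Q ≤ normalizer (R : Set G)) (hdiv : p ^ a ∣ Nat.card R) :
    Nat.card {H : Subgroup G // H ≤ R ∧ Nat.card H = p ^ a ∧ Q ≤ normalizer (H : Set G)} ≡ 1 [MOD p] := by
  have h1 := Cfsg.Agent.S3975.result (G := R) p a hp.out hdiv
  rw [card_transfer R (p ^ a)] at h1
  letI actX : MulAction Q {H : Subgroup G // H ≤ R ∧ Nat.card H = p ^ a} :=
    { smul := fun g H => ⟨cj (g : G) H.1, by
        have h2 : cj (g : G) R = R := cj_eq_iff.2 (hQR g.2)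
        have h3 := cj_le (g := (g : G)) H.2.1
        rwa [h2] at h3, (card_cj _ _).trans H.2.2⟩
      one_smul := fun H => Subtype.ext (cj_one _)
      mul_smul := fun a b H => Subtype.ext (cj_mul _ _ _) }
  have h2 := hQ.card_modEq_card_fixedPoints {H : Subgroup G // H ≤ R ∧ Nat.card H = p ^ a}
  have h3 : Nat.card (fixedPoints Q {H : Subgroup G // H ≤ R ∧ Nat.card H = p ^ a}) =
      Nat.card {H : Subgroup G // H ≤ R ∧ Nat.card H = p ^ a ∧ Q ≤ normalizer (H : Set G)} := by
    refine Nat.card_congr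
      { toFun := fun H => ⟨H.1.1, H.1.2.1, H.1.2.2, ?_⟩
        invFun := fun H => ⟨⟨H.1, H.2.1, H.2.2.1⟩, ?_⟩
        left_inv := fun H => rfl
        right_inv := fun H => rfl }
    · intro g hg
      have := H.2 ⟨g, hg⟩
      exact cj_eq_iff.1 (congrArg Subtype.val this)
    · intro g
      apply Subtype.ext
      exact cj_eq_iff.2 (H.2.2.2 g.2)
  rw [h3] at h2
  exact h2.symm.trans h1

/-- Reduction to a Sylow subgroup. -/
theorem card_modEq_sylow {p a : ℕ} [hp : Fact p.Prime] {P : Subgroup G} (hP : IsPGroup p P)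
    (hS : ∀ Q : Subgroup G, IsPGroup p Q → Nat.card Q ≤ Nat.card P) (hdiv : p ^ (a + 1) ∣ Nat.card P) :
    Nat.card {H : Subgroup G // Nat.card H = p ^ a} ≡ Nat.card {H : Subgroup P // Nat.card H = p ^ a} [MOD p ^ 2] := by
  haveI := Fintype.ofFinite (Subgroup G)
  have hpp := hp.out
  letI actP := act P
  have hsmul : ∀ (g : P) (H : Subgroup G), g • H = cj (g : G) H := fun _ _ => rfl
  let X : Finset (Subgroup G) := Finset.univ.filter (fun H => Nat.card H = p ^ a)
  let X₀ : Finset (Subgroup G) := X.filter (fun H => H ≤ P)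
  let Y₁ : Finset (Subgroup G) := X.filter (fun H => ¬ H ≤ P ∧ Nat.card (orbit P H) = p)
  let Y₂ : Finset (Subgroup G) := X.filter (fun H => ¬ H ≤ P ∧ Nat.card (orbit P H) ≠ p)
  have hXc : Nat.card {H : Subgroup G // Nat.card H = p ^ a} = X.card := by
    rw [Nat.card_eq_fintype_card, Fintype.card_subtype]
  have hX₀c : Nat.card {H : Subgroup P // Nat.card H = p ^ a} = X₀.card := by
    rw [card_transfer, Nat.card_eq_fintype_card, Fintype.card_subtype]
    congr 1
    ext H
    simp only [X₀, X, Finset.mem_filter, Finset.mem_univ, true_and]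
    tauto
  have hsplit : X.card = X₀.card + Y₁.card + Y₂.card := by
    have h1 : X.card = (X.filter (fun H => H ≤ P)).card + (X.filter (fun H => ¬ H ≤ P)).card :=
      (Finset.card_filter_add_card_filter_not _).symm
    have h2 : (X.filter (fun H => ¬ H ≤ P)).card = Y₁.card + Y₂.card := by
      rw [← Finset.card_filter_add_card_filter_not (s := X.filter (fun H => ¬ H ≤ P))
        (fun H => Nat.card (orbit P H) = p)]
      congr 2
      · ext H
        simp only [Y₁, Finset.mem_filter]
        tauto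
      · ext H
        simp only [Y₂, Finset.mem_filter]
        tauto
    rw [h1, h2]
    ring
  -- stability of `Y₂`
  have hstab : ∀ (g : P) (H : Subgroup G), H ∈ X → ¬ H ≤ P → g • H ∈ X ∧ ¬ g • H ≤ P := by
    intro g H hH hHP
    refine ⟨?_, ?_⟩
    · simp only [X, Finset.mem_filter, Finset.mem_univ, true_and] at hH ⊢
      rw [hsmul, card_cj]
      exact hH
    · intro h
      apply hHP
      rw [hsmul] at h
      have h1 := cj_le (g := (g : G)⁻¹) h
      rwa [cj_inv_cj, cj_self (P.inv_mem g.2)] at h1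
  have hY₂ : p ^ 2 ∣ Y₂.card := by
    have := dvd_sum_orbits (K := P) Y₂ (fun g a ha => by
        simp only [Y₂, Finset.mem_filter] at ha ⊢
        obtain ⟨h1, h2, h3⟩ := ha
        obtain ⟨h4, h5⟩ := hstab g a h1 h2
        exact ⟨h4, h5, by rwa [orbit_smul]⟩) (fun _ => 1) (fun _ _ => rfl) (p ^ 2) 1 (fun H hH => by
        simp only [Y₂, Finset.mem_filter] at hH
        obtain ⟨h1, h2, h3⟩ := hH
        have hHp : IsPGroup p H := by
          simp only [X, Finset.mem_filter, Finset.mem_univ, true_and] at h1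
          exact IsPGroup.of_card h1
        obtain ⟨e, he⟩ := hP.card_orbit H
        rw [he] at h3 ⊢
        have he0 : e ≠ 0 := by
          rintro rfl
          apply h2
          apply le_of_normalizes hP hS hHp
          have h4 := orbit_card_mul P H
          rw [he, pow_zero, one_mul] at h4
          have h5 : P ⊓ normalizer (H : Set G) = P :=
            Subgroup.eq_of_le_of_card_ge inf_le_left h4.ge
          exact inf_eq_left.1 h5
        have he1 : e ≠ 1 := by
          rintro rfl
          exact h3 (pow_one p)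
        exact pow_dvd_pow p (by omega)) (fun _ _ => one_dvd _)
    simpa using this
  -- the Sylow subgroups in question
  let Sy : Finset (Subgroup G) := Finset.univ.filter
    (fun S => Nat.card S = Nat.card P ∧ Nat.card P = p * Nat.card ↥(P ⊓ S))
  let A : Subgroup G → Finset (Subgroup G) := fun S => Finset.univ.filter
    (fun H => H ≤ S ∧ Nat.card H = p ^ a ∧ S ≤ normalizer (H : Set G) ∧ ¬ H ≤ P)
  have hmemA : ∀ S H, H ∈ A S ↔ H ≤ S ∧ Nat.card H = p ^ a ∧ S ≤ normalizer (H : Set G) ∧ ¬ H ≤ P := by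
    intro S H
    simp [A]
  have hmemSy : ∀ S, S ∈ Sy ↔ Nat.card S = Nat.card P ∧ Nat.card P = p * Nat.card ↥(P ⊓ S) := by
    intro S
    simp [Sy]
  -- the map to Sylow subgroups
  let τ : Subgroup G → Subgroup G := fun H => H ⊔ (P ⊓ normalizer (H : Set G))
  have hY₁mem : ∀ H, H ∈ Y₁ ↔ Nat.card H = p ^ a ∧ ¬ H ≤ P ∧ Nat.card P = p * Nat.card ↥(P ⊓ normalizer (H : Set G)) := by
    intro H
    simp only [Y₁, X, Finset.mem_filter, Finset.mem_univ, true_and]
    have h1 := orbit_card_mul P H
    constructor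
    · rintro ⟨h2, h3, h4⟩
      rw [h4] at h1
      exact ⟨h2, h3, h1.symm⟩
    · rintro ⟨h2, h3, h4⟩
      refine ⟨h2, h3, ?_⟩
      rw [h4] at h1
      exact Nat.eq_of_mul_eq_mul_right Nat.card_pos h1
  have hτ : ∀ H ∈ Y₁, τ H ∈ Sy := by
    intro H hH
    obtain ⟨h1, h2, h3⟩ := (hY₁mem H).1 hH
    obtain ⟨h4, h5, -⟩ := step_one hP hS (IsPGroup.of_card h1) h2 h3
    exact (hmemSy _).2 ⟨h4, h5⟩
  have hfib : ∀ S ∈ Sy, Y₁.filter (fun H => τ H = S) = A S := by
    intro S hS'
    obtain ⟨h1, h2⟩ := (hmemSy S).1 hS'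
    ext H
    rw [Finset.mem_filter, hmemA]
    constructor
    · rintro ⟨hH, rfl⟩
      obtain ⟨h3, h4, h5⟩ := (hY₁mem H).1 hH
      obtain ⟨-, -, h7, h8, -⟩ := step_one hP hS (IsPGroup.of_card h3) h4 h5
      exact ⟨h7, h3, h8, h4⟩
    · rintro ⟨h3, h4, h5, h6⟩
      obtain ⟨h7, h8, h9⟩ := step_two hP hS h1 h2 h3 h5 h6
      exact ⟨(hY₁mem H).2 ⟨h4, h6, h8⟩, h9⟩
  have hY₁sum : Y₁.card = ∑ S ∈ Sy, (A S).card := by
    rw [Finset.card_eq_sum_card_fiberwise hτ]
    exact Finset.sum_congr rfl (fun S hS' => by rw [hfib S hS'])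
  have hdivT : ∀ S ∈ Sy, p ∣ (A S).card := by
    intro S hS'
    obtain ⟨h1, h2⟩ := (hmemSy S).1 hS'
    have hSp : IsPGroup p S := by
      obtain ⟨u, hu⟩ := IsPGroup.iff_card.1 hP
      exact IsPGroup.of_card (n := u) (h1.trans hu)
    -- two counts
    have hc1 := card_normalized_modEq (a := a) (Q := S) (R := S) hSp le_normalizer (by
      rw [h1]
      exact (pow_dvd_pow p (Nat.le_succ a)).trans hdiv)
    have hTn : S ≤ normalizer ((P ⊓ S : Subgroup G) : Set G) := by
      have hi : (P ⊓ S).subgroupOf S = (P ⊓ S).subgroupOf S := rfl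
      have hcS : Nat.card S = p * Nat.card ↥(P ⊓ S) := h1.trans h2
      have hidx : ((P ⊓ S).subgroupOf S).index = p := by
        have h3 := Subgroup.card_mul_index ((P ⊓ S).subgroupOf S)
        have h4 : Nat.card ((P ⊓ S).subgroupOf S) = Nat.card ↥(P ⊓ S) :=
          Nat.card_congr (subgroupOfEquivOfLe inf_le_right).toEquiv
        rw [h4, hcS] at h3
        have : Nat.card ↥(P ⊓ S) * ((P ⊓ S).subgroupOf S).index = Nat.card ↥(P ⊓ S) * p := by
          rw [h3]
          ring
        exact Nat.eq_of_mul_eq_mul_left Nat.card_pos this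
      have hnorm : ((P ⊓ S).subgroupOf S).Normal := by
        apply Subgroup.normal_of_index_eq_minFac_card
        rw [hidx]
        obtain ⟨u, hu⟩ := IsPGroup.iff_card.1 hSp
        have hne : u ≠ 0 := by
          rintro rfl
          rw [pow_zero] at hu
          rw [hu] at hcS
          have : 0 < Nat.card ↥(P ⊓ S) := Nat.card_pos
          have := hpp.two_le
          nlinarith
        rw [hu, Nat.Prime.pow_minFac hpp hne]
      intro g hg
      rw [mem_normalizer_iff]
      intro x
      have hN := hnorm.conj_mem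
      constructor
      · intro hx
        have := hN ⟨x, (mem_inf.1 hx).2⟩ (mem_subgroupOf.2 hx) ⟨g, hg⟩
        exact mem_subgroupOf.1 this
      · intro hx
        have hxS : x ∈ S := by
          have h5 : g * x * g⁻¹ ∈ S := (mem_inf.1 hx).2
          have e : x = g⁻¹ * (g * x * g⁻¹) * g := by group
          rw [e]
          exact S.mul_mem (S.mul_mem (S.inv_mem hg) h5) hg
        have := hN ⟨g * x * g⁻¹, (mem_inf.1 hx).2⟩ (mem_subgroupOf.2 hx) ⟨g⁻¹, S.inv_mem hg⟩
        have h7 : g⁻¹ * (g * x * g⁻¹) * g⁻¹⁻¹ ∈ P ⊓ S := mem_subgroupOf.1 this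
        have e : g⁻¹ * (g * x * g⁻¹) * g⁻¹⁻¹ = x := by group
        rwa [e] at h7
    have hc2 := card_normalized_modEq (a := a) (Q := S) (R := P ⊓ S) hSp hTn (by
      have h3 : p * p ^ a ∣ p * Nat.card ↥(P ⊓ S) := by
        rw [← h2, ← pow_succ']
        exact hdiv
      exact Nat.dvd_of_mul_dvd_mul_left hpp.pos h3)
    -- turn into finsets
    let A₁ : Finset (Subgroup G) := Finset.univ.filter
      (fun H => H ≤ S ∧ Nat.card H = p ^ a ∧ S ≤ normalizer (H : Set G))
    let A₂ : Finset (Subgroup G) := Finset.univ.filter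
      (fun H => H ≤ P ⊓ S ∧ Nat.card H = p ^ a ∧ S ≤ normalizer (H : Set G))
    have hA₁ : Nat.card {H : Subgroup G // H ≤ S ∧ Nat.card H = p ^ a ∧ S ≤ normalizer (H : Set G)} = A₁.card := by
      rw [Nat.card_eq_fintype_card, Fintype.card_subtype]
    have hA₂ : Nat.card {H : Subgroup G // H ≤ P ⊓ S ∧ Nat.card H = p ^ a ∧ S ≤ normalizer (H : Set G)} = A₂.card := by
      rw [Nat.card_eq_fintype_card, Fintype.card_subtype]
    rw [hA₁] at hc1
    rw [hA₂] at hc2
    have hsub : A₂ ⊆ A₁ := by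
      intro H hH
      simp only [A₂, A₁, Finset.mem_filter, Finset.mem_univ, true_and] at hH ⊢
      exact ⟨hH.1.trans inf_le_right, hH.2⟩
    have hdiff : A S = A₁ \ A₂ := by
      ext H
      rw [hmemA]
      simp only [A₂, A₁, Finset.mem_sdiff, Finset.mem_filter, Finset.mem_univ, true_and, le_inf_iff]
      tauto
    rw [hdiff, Finset.card_sdiff_of_subset hsub]
    exact (Nat.modEq_iff_dvd' (Finset.card_le_card hsub)).1 (hc2.trans hc1.symm)
  have hY₁ : p ^ 2 ∣ Y₁.card := by
    rw [hY₁sum, pow_two]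
    refine dvd_sum_orbits (K := P) Sy (fun g S hS' => ?_) (fun S => (A S).card) (fun g S => ?_) p p (fun S hS' => ?_) hdivT
    · obtain ⟨h1, h2⟩ := (hmemSy S).1 hS'
      rw [hmemSy, hsmul, card_cj]
      refine ⟨h1, ?_⟩
      have h3 : P ⊓ cj (g : G) S = cj (g : G) (P ⊓ S) := by
        rw [cj_inf, cj_self g.2]
      rw [h3, card_cj]
      exact h2
    · show (A (g • S)).card = (A S).card
      have himp : ∀ (h : P) (S' H : Subgroup G), H ∈ A S' → cj (h : G) H ∈ A (cj (h : G) S') := by
        intro h S' H hH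
        obtain ⟨h1, h2, h3, h4⟩ := (hmemA S' H).1 hH
        rw [hmemA]
        refine ⟨cj_le h1, (card_cj _ _).trans h2, normalizer_cj h3, ?_⟩
        intro h5
        apply h4
        have h6 := cj_le (g := (h : G)⁻¹) h5
        rwa [cj_inv_cj, cj_self (P.inv_mem h.2)] at h6
      refine Finset.card_nbij' (fun H => cj (g : G)⁻¹ H) (fun H => cj (g : G) H) ?_ ?_ ?_ ?_
      · intro H hH
        have := himp g⁻¹ _ H hH
        rw [hsmul] at this
        simp only [InvMemClass.coe_inv] at this
        rwa [cj_inv_cj] at this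
      · intro H hH
        exact himp g _ H hH
      · intro H _
        exact cj_cj_inv _ _
      · intro H _
        exact cj_inv_cj _ _
    · obtain ⟨h1, h2⟩ := (hmemSy S).1 hS'
      exact dvd_of_eq (orbit_sylow hP hS h1 h2).symm
  rw [hXc, hX₀c, hsplit]
  have h3 : X₀.card + Y₁.card + Y₂.card = X₀.card + (Y₁.card + Y₂.card) := by ring
  rw [h3]
  have hd : p ^ 2 ∣ Y₁.card + Y₂.card := dvd_add hY₁ hY₂
  obtain ⟨c, hc⟩ := hd
  rw [hc]
  simp [Nat.ModEq]

end Cfsg.Agent.Lib.ClassSizes.KulSylow
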