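import Mathlib
import Cfsg.Agent.Lib.ClassSizes.KulNu
import Cfsg.Agent.Lib.ClassSizes.KulSylow

/-! Kulakoff's theorem: in a noncyclic `p`-group, `p` odd, the number of subgroups of a given proper
nontrivial order is `≡ 1 + p` modulo `p²`. The count goes through the dual `Hom(G, ℤ/p)`. -/

set_option autoImplicit false

namespace Cfsg.Agent.Lib.ClassSizes.Kulakoff

open Subgroup
open scoped Classical
open KulSylow

universe u

variable {p : ℕ} [hp : Fact p.Prime]

/-- Number of subgroups of order `p` inside a subgroup of a group of exponent `p`. -/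
theorem card_lines {A : Type*} [Group A] [Finite A] (hA : ∀ x : A, x ^ p = 1) (K : Subgroup A) :
    Nat.card {L : Subgroup A // L ≤ K ∧ Nat.card L = p} * (p - 1) + 1 = Nat.card K := by
  have hpp := hp.out
  haveI := Fintype.ofFinite A
  haveI := Fintype.ofFinite (Subgroup A)
  let 𝓛 : Finset (Subgroup A) := Finset.univ.filter (fun L : Subgroup A => L ≤ K ∧ Nat.card L = p)
  have hmem𝓛 : ∀ L, L ∈ 𝓛 ↔ L ≤ K ∧ Nat.card L = p := by
    intro L
    simp [𝓛]
  let s : Finset A := (Finset.univ.filter (fun x => x ∈ K)).erase 1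
  have hmems : ∀ x, x ∈ s ↔ x ≠ 1 ∧ x ∈ K := by
    intro x
    simp [s]
  have hsc : s.card + 1 = Nat.card K := by
    have h1 : 1 ∈ Finset.univ.filter (fun x => x ∈ K) := by
      simp [K.one_mem]
    rw [Finset.card_erase_add_one h1, Nat.card_eq_fintype_card, ← Finset.card_univ (α := K)]
    refine Finset.card_bij (fun x hx => ⟨x, (Finset.mem_filter.1 hx).2⟩) (fun _ _ => Finset.mem_univ _) ?_ ?_
    · intro a _ b _ h
      exact congrArg Subtype.val h
    · intro b _
      exact ⟨b.1, by simp, rfl⟩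
  have hord : ∀ x : A, x ≠ 1 → orderOf x = p := fun x hx => orderOf_eq_prime (hA x) hx
  have hmaps : ∀ x ∈ s, zpowers x ∈ 𝓛 := by
    intro x hx
    obtain ⟨h1, h2⟩ := (hmems x).1 hx
    rw [hmem𝓛]
    exact ⟨zpowers_le.2 h2, by rw [Nat.card_zpowers, hord x h1]⟩
  have hfib : ∀ L ∈ 𝓛, (s.filter (fun x => zpowers x = L)).card = p - 1 := by
    intro L hL
    obtain ⟨h1, h2⟩ := (hmem𝓛 L).1 hL
    have hset : s.filter (fun x => zpowers x = L) = (Finset.univ.filter (fun x => x ∈ L)).erase 1 := by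
      ext x
      simp only [Finset.mem_filter, hmems, Finset.mem_erase, Finset.mem_univ, true_and]
      constructor
      · rintro ⟨⟨h3, h4⟩, h5⟩
        refine ⟨h3, ?_⟩
        rw [← h5]
        exact mem_zpowers x
      · rintro ⟨h3, h4⟩
        refine ⟨⟨h3, h1 h4⟩, ?_⟩
        apply Subgroup.eq_of_le_of_card_ge
        · rwa [zpowers_le]
        · rw [h2, Nat.card_zpowers, hord x h3]
    rw [hset, Finset.card_erase_of_mem (by simp [L.one_mem])]
    congr 1
    rw [← h2, Nat.card_eq_fintype_card, ← Finset.card_univ (α := L)]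
    refine Finset.card_bij (fun x hx => ⟨x, (Finset.mem_filter.1 hx).2⟩) (fun _ _ => Finset.mem_univ _) ?_ ?_
    · intro a _ b _ h
      exact congrArg Subtype.val h
    · intro b _
      exact ⟨b.1, by simp, rfl⟩
  have hsum : s.card = ∑ L ∈ 𝓛, (s.filter (fun x => zpowers x = L)).card :=
    Finset.card_eq_sum_card_fiberwise hmaps
  rw [Finset.sum_congr rfl hfib, Finset.sum_const, smul_eq_mul] at hsum
  have h𝓛c : Nat.card {L : Subgroup A // L ≤ K ∧ Nat.card L = p} = 𝓛.card := by
    rw [Nat.card_eq_fintype_card, Fintype.card_subtype]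
  rw [← hsc, hsum, h𝓛c]

theorem lines_one {c : ℕ} (h : c * (p - 1) + 1 = p ^ 1) : c = 1 := by
  have hpp := hp.out
  have h2 : c * (p - 1) = 1 * (p - 1) := by
    have := hpp.two_le
    rw [pow_one] at h
    omega
  exact Nat.eq_of_mul_eq_mul_right (by have := hpp.two_le; omega) h2

theorem lines_two {c m : ℕ} (h : c * (p - 1) + 1 = p ^ (m + 2)) : c ≡ 1 + p [MOD p ^ 2] := by
  have hpp := hp.out
  have h2 := hpp.two_le
  obtain ⟨g, hg⟩ : (p - 1) ∣ p ^ m - 1 := by
    have := Nat.sub_dvd_pow_sub_pow p 1 m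
    simpa using this
  have hpm : 1 ≤ p ^ m := Nat.one_le_pow _ _ hpp.pos
  have h3 : p ^ m = (p - 1) * g + 1 := by omega
  have h4 : c * (p - 1) = (1 + p + p ^ 2 * g) * (p - 1) := by
    obtain ⟨q, rfl⟩ : ∃ q, p = q + 1 := ⟨p - 1, by omega⟩
    simp only [Nat.add_sub_cancel] at h h3 ⊢
    have h5 : (q + 1) ^ (m + 2) = (q + 1) ^ m * (q + 1) ^ 2 := by
      rw [pow_add]
    rw [h5, h3] at h
    have : c * q + 1 = (1 + (q + 1) + (q + 1) ^ 2 * g) * q + 1 := by
      rw [h]
      ring
    omega
  have h5 : c = 1 + p + p ^ 2 * g := Nat.eq_of_mul_eq_mul_right (by omega) h4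
  rw [h5]
  simp [Nat.ModEq]

section dual

variable {G : Type u} [Group G] [Finite G]

/-- The dual group. -/
abbrev Du (G : Type u) [Group G] (p : ℕ) := G →* Multiplicative (ZMod p)

instance du_finite : Finite (Du G p) :=
  Finite.of_injective (fun f : Du G p => (f : G → Multiplicative (ZMod p))) DFunLike.coe_injective

theorem zp_card : Nat.card (Multiplicative (ZMod p)) = p := by
  rw [Nat.card_eq_fintype_card, Fintype.card_multiplicative, ZMod.card]

theorem du_pow (f : Du G p) : f ^ p = 1 := by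
  ext g
  have h : (f g) ^ p = 1 := by
    have := pow_card_eq_one' (x := f g)
    rwa [zp_card] at this
  have h2 : (f ^ p) g = (f g) ^ p := rfl
  rw [h2, h]
  rfl

/-- Common kernel of a subgroup of the dual. -/
def ann (𝓛 : Subgroup (Du G p)) : Subgroup G where
  carrier := {g | ∀ f ∈ 𝓛, f g = 1}
  one_mem' := fun f _ => map_one f
  mul_mem' := fun ha hb f hf => by rw [map_mul, ha f hf, hb f hf, one_mul]
  inv_mem' := fun ha f hf => by rw [map_inv, ha f hf, inv_one]

/-- Annihilator of a subgroup in the dual. -/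
def annD (U : Subgroup G) : Subgroup (Du G p) where
  carrier := {f | ∀ u ∈ U, f u = 1}
  one_mem' := fun _ _ => rfl
  mul_mem' := fun ha hb u hu => by
    show _ * _ = (1 : Multiplicative (ZMod p))
    rw [ha u hu, hb u hu, one_mul]
  inv_mem' := fun ha u hu => by
    show (_ : Multiplicative (ZMod p))⁻¹ = 1
    rw [ha u hu, inv_one]

theorem le_ann_iff {U : Subgroup G} {𝓛 : Subgroup (Du G p)} : U ≤ ann 𝓛 ↔ 𝓛 ≤ annD U :=
  ⟨fun h f hf u hu => h hu f hf, fun h u hu f hf => h hf u hu⟩

theorem ann_zpowers (f : Du G p) : ann (zpowers f) = f.ker := by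
  ext g
  constructor
  · intro h
    exact h f (mem_zpowers f)
  · intro h u hu
    have h1 : g ∈ ann (zpowers f) ↔ zpowers f ≤ annD (zpowers g) := by
      rw [← le_ann_iff, zpowers_le]
    have h2 : zpowers f ≤ annD (zpowers g) := by
      rw [zpowers_le]
      intro v hv
      obtain ⟨i, rfl⟩ := hv
      show f (g ^ i) = 1
      rw [map_zpow, (MonoidHom.mem_ker).1 h, one_zpow]
    exact h2 hu g (mem_zpowers g)

theorem index_ker_of_ne {f : Du G p} (hf : f ≠ 1) : f.ker.index = p := by
  have hpp := hp.out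
  rw [Subgroup.index_ker]
  have h1 : Nat.card f.range ∣ p := by
    have := Subgroup.card_subgroup_dvd_card f.range
    rwa [zp_card] at this
  rcases (Nat.dvd_prime hpp).1 h1 with h | h
  · exfalso
    apply hf
    have h2 : f.range = ⊥ := Subgroup.eq_bot_of_card_eq _ h
    ext g
    have : f g ∈ f.range := ⟨g, rfl⟩
    rw [h2, mem_bot] at this
    rw [this]
    rfl
  · exact h

theorem line_form {L : Subgroup (Du G p)} (hL : Nat.card L = p) : ∃ f, f ≠ 1 ∧ L = zpowers f := by
  have hpp := hp.out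
  haveI : Nontrivial L := by
    rw [← Finite.one_lt_card_iff_nontrivial, hL]
    exact hpp.one_lt
  obtain ⟨f, hf⟩ := exists_ne (1 : L)
  have hf' : (f : Du G p) ≠ 1 := fun h => hf (Subtype.ext h)
  refine ⟨f, hf', ?_⟩
  symm
  apply Subgroup.eq_of_le_of_card_ge
  · rw [zpowers_le]
    exact f.2
  · rw [Nat.card_zpowers, orderOf_eq_prime (du_pow _) hf', hL]

theorem ann_index {L : Subgroup (Du G p)} (hL : Nat.card L = p) : (ann L).index = p := by
  obtain ⟨f, hf, rfl⟩ := line_form hL
  rw [ann_zpowers, index_ker_of_ne hf]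

theorem exists_line (hG : IsPGroup p G) {M : Subgroup G} (hM : M.index = p) :
    ∃ L : Subgroup (Du G p), Nat.card L = p ∧ ann L = M := by
  have hpp := hp.out
  haveI : M.Normal := Cfsg.Agent.Lib.PGroup.normal_of_index_eq_prime hG hM
  have hq : Nat.card (G ⧸ M) = p := hM
  let e : (G ⧸ M) ≃* Multiplicative (ZMod p) := mulEquivOfPrimeCardEq hq zp_card
  let f : Du G p := e.toMonoidHom.comp (QuotientGroup.mk' M)
  have hker : f.ker = M := by
    ext g
    rw [MonoidHom.mem_ker]
    show e (g : G ⧸ M) = 1 ↔ g ∈ M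
    rw [map_eq_one_iff e e.injective, QuotientGroup.eq_one_iff]
  have hf : f ≠ 1 := by
    intro h
    have : M = ⊤ := by
      rw [← hker, h]
      exact MonoidHom.ker_one
    rw [this, index_top] at hM
    exact hpp.one_lt.ne hM
  refine ⟨zpowers f, ?_, ?_⟩
  · rw [Nat.card_zpowers, orderOf_eq_prime (du_pow _) hf]
  · rw [ann_zpowers, hker]

theorem line_unique {L L' : Subgroup (Du G p)} (hL : Nat.card L = p) (hL' : Nat.card L' = p)
    (h : ann L = ann L') : L = L' := by
  have hpp := hp.out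
  obtain ⟨f, hf, rfl⟩ := line_form hL
  obtain ⟨f', hf', rfl⟩ := line_form hL'
  rw [ann_zpowers, ann_zpowers] at h
  suffices hh : f' ∈ zpowers f by
    symm
    apply Subgroup.eq_of_le_of_card_ge
    · rwa [zpowers_le]
    · rw [hL, hL']
  obtain ⟨g₀, hg₀⟩ : ∃ g₀, f g₀ ≠ 1 := by
    by_contra hcon
    push Not at hcon
    exact hf (MonoidHom.ext hcon)
  have horder : orderOf (f g₀) = p := by
    apply orderOf_eq_prime _ hg₀
    have := pow_card_eq_one' (x := f g₀)
    rwa [zp_card] at this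
  have hgen : zpowers (f g₀) = ⊤ := by
    apply Subgroup.eq_top_of_card_eq
    rw [Nat.card_zpowers, horder, zp_card]
  obtain ⟨k, hk⟩ : f' g₀ ∈ zpowers (f g₀) := by
    rw [hgen]
    exact mem_top _
  have hk' : f' g₀ = (f g₀) ^ k := hk.symm
  let H : Du G p := f' * (f ^ k)⁻¹
  have hHapp : ∀ g, H g = f' g * ((f g) ^ k)⁻¹ := by
    intro g
    have h1 : (f ^ k) g = (f g) ^ k := (MonoidHom.eval g).map_zpow f k
    show f' g * ((f ^ k) g)⁻¹ = _
    rw [h1]
  have hco : IsCoatom f.ker := Cfsg.Agent.Lib.PGroup.isCoatom_of_index_prime (by rw [index_ker_of_ne hf]; exact hpp)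
  have hle : f.ker ≤ H.ker := by
    intro g hg
    rw [MonoidHom.mem_ker, hHapp, (MonoidHom.mem_ker).1 hg]
    have : f' g = 1 := by
      have h2 : g ∈ f'.ker := h ▸ hg
      exact (MonoidHom.mem_ker).1 h2
    rw [this]
    simp
  have hg₀H : g₀ ∈ H.ker := by
    rw [MonoidHom.mem_ker, hHapp, hk']
    simp
  have hlt : f.ker < H.ker := by
    refine lt_of_le_of_ne hle ?_
    intro h3
    rw [← h3, MonoidHom.mem_ker] at hg₀H
    exact hg₀ hg₀H
  have htop : H.ker = ⊤ := hco.2 _ hlt
  have hH1 : H = 1 := (MonoidHom.ker_eq_top_iff).1 htop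
  have h4 : f' = f ^ k := by
    have : f' * (f ^ k)⁻¹ = 1 := hH1
    exact mul_inv_eq_one.1 this
  rw [h4]
  exact zpow_mem_zpowers f k

theorem exists_index_p (hG : IsPGroup p G) {U : Subgroup G} (hU : U ≠ ⊤) : ∃ M, U ≤ M ∧ M.index = p := by
  have hpp := hp.out
  obtain ⟨n, hn⟩ := IsPGroup.iff_card.1 hG
  obtain ⟨u, hu⟩ := IsPGroup.iff_card.1 (hG.to_subgroup U)
  have hlt : u < n := by
    by_contra hcon
    apply hU
    apply Subgroup.eq_top_of_card_eq
    rw [hu, hn]
    have h1 : Nat.card U ≤ Nat.card G := Subgroup.card_le_card_group U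
    rw [hu, hn] at h1
    have h2 : u ≤ n := (Nat.pow_le_pow_iff_right hpp.one_lt).1 h1
    have : u = n := by omega
    rw [this]
  obtain ⟨M, hM, hUM⟩ := Sylow.exists_subgroup_card_pow_prime_le p (m := n - 1)
    (by rw [hn]; exact pow_dvd_pow p (by omega)) U hu (by omega)
  refine ⟨M, hUM, ?_⟩
  have h1 := Subgroup.card_mul_index M
  rw [hM, hn] at h1
  have h2 : p ^ n = p ^ (n - 1) * p := by
    rw [← pow_succ]
    congr 1
    omega
  rw [h2] at h1
  exact Nat.eq_of_mul_eq_mul_left (pow_pos hpp.pos _) h1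

/-- A noncyclic `p`-group has more than one line in its dual. -/
theorem two_lines (hG : IsPGroup p G) (hnc : ¬ IsCyclic G) :
    ∃ L₁ L₂ : Subgroup (Du G p), Nat.card L₁ = p ∧ Nat.card L₂ = p ∧ L₁ ≠ L₂ := by
  have hbot : (⊥ : Subgroup G) ≠ ⊤ := by
    intro h
    apply hnc
    haveI : Subsingleton G := by
      rw [← Subgroup.subsingleton_iff] 
      exact subsingleton_of_bot_eq_top h
    exact isCyclic_of_subsingleton
  obtain ⟨M₁, -, hM₁⟩ := exists_index_p hG hbot
  obtain ⟨g, hg⟩ : ∃ g, g ∉ M₁ := by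
    by_contra hcon
    push Not at hcon
    have : M₁ = ⊤ := (Subgroup.eq_top_iff' _).2 hcon
    rw [this, index_top] at hM₁
    exact hp.out.one_lt.ne hM₁
  have hgtop : zpowers g ≠ ⊤ := by
    intro h
    apply hnc
    exact ⟨⟨g, fun y => by
      have : y ∈ zpowers g := by rw [h]; trivial
      exact this⟩⟩
  obtain ⟨M₂, hgM₂, hM₂⟩ := exists_index_p hG hgtop
  obtain ⟨L₁, h1, h2⟩ := exists_line hG hM₁
  obtain ⟨L₂, h3, h4⟩ := exists_line hG hM₂
  refine ⟨L₁, L₂, h1, h3, ?_⟩
  rintro rfl
  apply hg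
  rw [← h2, h4]
  exact hgM₂ (mem_zpowers g)

theorem ann_two {T : Subgroup (Du G p)} (hT : Nat.card T = p ^ 2) :
    ∃ f₁ f₂ : Du G p, f₁.ker ⊓ f₂.ker ≤ ann T ∧ f₁ ≠ 1 ∧ f₂ ≠ 1 := by
  have hpp := hp.out
  have hTp : IsPGroup p T := IsPGroup.of_card hT
  haveI : Nontrivial T := by
    rw [← Finite.one_lt_card_iff_nontrivial, hT]
    exact Nat.one_lt_pow (by norm_num) hpp.one_lt
  obtain ⟨f₁, hf₁⟩ := exists_ne (1 : T)
  have hf₁' : (f₁ : Du G p) ≠ 1 := fun h => hf₁ (Subtype.ext h)
  have hz₁ : zpowers (f₁ : Du G p) ≤ T := by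
    rw [zpowers_le]
    exact f₁.2
  have hz₁c : Nat.card (zpowers (f₁ : Du G p)) = p := by
    rw [Nat.card_zpowers, orderOf_eq_prime (du_pow _) hf₁']
  obtain ⟨f₂, hf₂T, hf₂⟩ : ∃ f₂ ∈ T, f₂ ∉ zpowers (f₁ : Du G p) := by
    by_contra hcon
    push Not at hcon
    have h1 : Nat.card T ≤ Nat.card (zpowers (f₁ : Du G p)) := Subgroup.card_le_of_le hcon
    rw [hT, hz₁c, pow_two] at h1
    have := hpp.two_le
    nlinarith
  have hf₂' : f₂ ≠ 1 := by
    rintro rfl
    exact hf₂ (one_mem _)
  refine ⟨f₁, f₂, ?_, hf₁', hf₂'⟩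
  -- the two generate
  have hsup : zpowers (f₁ : Du G p) ⊔ zpowers f₂ = T := by
    have hle : zpowers (f₁ : Du G p) ⊔ zpowers f₂ ≤ T := sup_le hz₁ (zpowers_le.2 hf₂T)
    apply Subgroup.eq_of_le_of_card_ge hle
    have hne : zpowers (f₁ : Du G p) ≠ zpowers (f₁ : Du G p) ⊔ zpowers f₂ := by
      intro h
      apply hf₂
      rw [h]
      exact mem_sup_right (mem_zpowers f₂)
    have := le_pow_card (p := p) (hTp.to_le hle) le_sup_left hne
    rw [hz₁c] at this
    rw [hT, pow_two]
    exact this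
  intro g hg
  have h1 : T ≤ annD (zpowers g) := by
    rw [← hsup]
    refine sup_le (zpowers_le.2 ?_) (zpowers_le.2 ?_)
    · rintro _ ⟨i, rfl⟩
      show (f₁ : Du G p) (g ^ i) = 1
      rw [map_zpow, (MonoidHom.mem_ker).1 (mem_inf.1 hg).1, one_zpow]
    · rintro _ ⟨i, rfl⟩
      show f₂ (g ^ i) = 1
      rw [map_zpow, (MonoidHom.mem_ker).1 (mem_inf.1 hg).2, one_zpow]
  intro f hf
  exact h1 hf g (mem_zpowers g)

/-- The common kernel of a subgroup of order `p²` of the dual has index at most `p²`. -/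
theorem dvd_card_ann {T : Subgroup (Du G p)} (hT : Nat.card T = p ^ 2) {n a : ℕ} (hG : Nat.card G = p ^ n)
    (ha : a + 2 ≤ n) : p ^ a ∣ Nat.card (ann T) := by
  have hpp := hp.out
  have hGp : IsPGroup p G := IsPGroup.of_card hG
  obtain ⟨f₁, f₂, hle, h1, h2⟩ := ann_two hT
  have hidx : (f₁.ker ⊓ f₂.ker).index ≤ p ^ 2 := by
    have : (f₁.ker ⊓ f₂.ker).index ≤ f₁.ker.index * f₂.ker.index := Subgroup.index_inf_le
    rw [index_ker_of_ne h1, index_ker_of_ne h2, ← pow_two] at this
    exact this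
  obtain ⟨v, hv⟩ := IsPGroup.iff_card.1 (hGp.to_subgroup (ann T))
  have hc := Subgroup.card_mul_index (f₁.ker ⊓ f₂.ker)
  have hle2 := Subgroup.card_le_of_le hle
  rw [hv]
  apply pow_dvd_pow
  by_contra hcon
  have hvlt : v + 3 ≤ n := by omega
  have h3 : p ^ (v + 2) < p ^ n := Nat.pow_lt_pow_right hpp.one_lt (by omega)
  have h4 : p ^ n ≤ p ^ v * p ^ 2 := by
    rw [← hG, ← hc, ← hv]
    exact Nat.mul_le_mul hle2 hidx
  rw [← pow_add] at h4
  omega

end dual

theorem cyc_count {C : Type u} [Group C] [Finite C] [IsCyclic C] {a k : ℕ} (hC : Nat.card C = p ^ k) (ha : a ≤ k) :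
    Nat.card {H : Subgroup C // Nat.card H = p ^ a} = 1 := by
  obtain ⟨H₀, hH₀⟩ := Sylow.exists_subgroup_card_pow_prime (G := C) p (n := a) (by rw [hC]; exact pow_dvd_pow p ha)
  rw [Nat.card_eq_one_iff_unique]
  refine ⟨⟨fun A B => Subtype.ext (Cfsg.Agent.S3975.cyclic_unique_subgroup (A.2.trans B.2.symm))⟩, ⟨⟨H₀, hH₀⟩⟩⟩

theorem q_mul_of_modEq {t : ℕ} (h : t ≡ 1 [MOD p]) : ((p : ZMod (p ^ 2))) * (t : ZMod (p ^ 2)) = p := by
  have h1 : p * t ≡ p * 1 [MOD p * p] := Nat.ModEq.mul_left' p h
  rw [← pow_two] at h1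
  have h2 := (ZMod.natCast_eq_natCast_iff (p * t) (p * 1) (p ^ 2)).2 h1
  push_cast at h2
  rw [mul_one] at h2
  exact h2

/-- **Kulakoff's theorem.** -/
theorem kulakoff (hodd : p ≠ 2) : ∀ (n : ℕ) (G : Type u) [Group G] [Finite G], Nat.card G = p ^ n → ¬ IsCyclic G →
    ∀ a, 1 ≤ a → a < n → Nat.card {H : Subgroup G // Nat.card H = p ^ a} ≡ 1 + p [MOD p ^ 2] := by
  have hpp := hp.out
  intro n
  induction n with
  | zero =>
    intro G _ _ hc hnc a h1 h2
    omega
  | succ n ih =>
    intro G _ _ hc hnc a ha1 ha2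
    haveI := Fintype.ofFinite (Subgroup G)
    haveI := Fintype.ofFinite (Subgroup (Du G p))
    have hGp : IsPGroup p G := IsPGroup.of_card hc
    have hA : ∀ f : Du G p, f ^ p = 1 := du_pow
    have hAp : IsPGroup p (Du G p) := fun f => ⟨1, by rw [pow_one]; exact du_pow f⟩
    obtain ⟨d, hd⟩ := IsPGroup.iff_card.1 hAp
    let 𝓛 : Finset (Subgroup (Du G p)) := Finset.univ.filter (fun L => Nat.card L = p)
    let 𝓣 : Finset (Subgroup (Du G p)) := Finset.univ.filter (fun T => Nat.card T = p ^ 2)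
    let X : Finset (Subgroup G) := Finset.univ.filter (fun U => Nat.card U = p ^ a)
    have hmem𝓛 : ∀ L, L ∈ 𝓛 ↔ Nat.card L = p := by
      intro L
      simp [𝓛]
    have hmem𝓣 : ∀ T, T ∈ 𝓣 ↔ Nat.card T = p ^ 2 := by
      intro T
      simp [𝓣]
    have hmemX : ∀ U, U ∈ X ↔ Nat.card U = p ^ a := by
      intro U
      simp [X]
    have hXc : Nat.card {H : Subgroup G // Nat.card H = p ^ a} = X.card := by
      rw [Nat.card_eq_fintype_card, Fintype.card_subtype]
    have h𝓛c : (𝓛.card) * (p - 1) + 1 = p ^ d := by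
      have h1 := card_lines hA (⊤ : Subgroup (Du G p))
      have h2 : Nat.card {L : Subgroup (Du G p) // L ≤ ⊤ ∧ Nat.card L = p} = 𝓛.card := by
        rw [Nat.card_eq_fintype_card, Fintype.card_subtype]
        apply congrArg Finset.card
        ext L
        simp [hmem𝓛]
      rw [h2, Nat.card_congr Subgroup.topEquiv.toEquiv, hd] at h1
      exact h1
    have hd2 : 2 ≤ d := by
      obtain ⟨L₁, L₂, h1, h2, h3⟩ := two_lines hGp hnc (p := p)
      have h4 : 2 ≤ 𝓛.card := by
        have : 1 < 𝓛.card := Finset.one_lt_card.2 ⟨L₁, (hmem𝓛 _).2 h1, L₂, (hmem𝓛 _).2 h2, h3⟩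
        exact this
      by_contra hcon
      have h5 : d ≤ 1 := by omega
      have h6 : p ^ d ≤ p ^ 1 := Nat.pow_le_pow_right hpp.pos h5
      rw [← h𝓛c, pow_one] at h6
      have h7 := hpp.two_le
      have h8 : 2 * (p - 1) ≤ 𝓛.card * (p - 1) := Nat.mul_le_mul_right _ h4
      omega
    obtain ⟨d', rfl⟩ : ∃ d', d = d' + 2 := ⟨d - 2, by omega⟩
    have hμ : 𝓛.card ≡ 1 + p [MOD p ^ 2] := lines_two h𝓛c
    have hβ : 𝓣.card ≡ 1 [MOD p] := by
      have h1 := Cfsg.Agent.S3975.result (G := Du G p) p 2 hpp (by rw [hd]; exact pow_dvd_pow p (by omega))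
      have h2 : Nat.card {H : Subgroup (Du G p) // Nat.card H = p ^ 2} = 𝓣.card := by
        rw [Nat.card_eq_fintype_card, Fintype.card_subtype]
      rwa [h2] at h1
    have hannc : ∀ L ∈ 𝓛, Nat.card (ann L) = p ^ n := by
      intro L hL
      have h1 := Subgroup.card_mul_index (ann L)
      rw [ann_index ((hmem𝓛 L).1 hL), hc, pow_succ] at h1
      exact Nat.eq_of_mul_eq_mul_right hpp.pos h1
    rw [hXc]
    by_cases han : a = n
    · -- the top layer
      subst han
      have hbij : X.card = 𝓛.card := by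
        symm
        refine Finset.card_bij (fun L _ => ann L) ?_ ?_ ?_
        · intro L hL
          exact (hmemX _).2 (hannc L hL)
        · intro L hL L' hL' h
          exact line_unique ((hmem𝓛 L).1 hL) ((hmem𝓛 L').1 hL') h
        · intro U hU
          have h1 := Subgroup.card_mul_index U
          rw [(hmemX U).1 hU, hc, pow_succ] at h1
          have h2 : U.index = p := Nat.eq_of_mul_eq_mul_left (pow_pos hpp.pos _) h1
          obtain ⟨L, h3, h4⟩ := exists_line hGp h2
          exact ⟨L, (hmem𝓛 _).2 h3, h4⟩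
      rw [hbij]
      exact hμ
    have han' : a < n := by omega
    -- the sums
    let sB : Subgroup G → ℕ := fun K => (X.filter (fun U => U ≤ K)).card
    let c : Subgroup G → ℕ := fun U => (𝓛.filter (fun L => L ≤ annD U)).card
    let t : Subgroup G → ℕ := fun U => (𝓣.filter (fun T => T ≤ annD U)).card
    let q : ZMod (p ^ 2) := (p : ZMod (p ^ 2))
    have hqq : q * q = 0 := by
      have : ((p ^ 2 : ℕ) : ZMod (p ^ 2)) = 0 := ZMod.natCast_self _
      push_cast at this
      rw [← pow_two]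
      exact this
    have hsB : ∀ K : Subgroup G, sB K = Nat.card {H : Subgroup K // Nat.card H = p ^ a} := by
      intro K
      rw [card_transfer, Nat.card_eq_fintype_card, Fintype.card_subtype]
      apply congrArg Finset.card
      ext U
      simp only [Finset.mem_filter, hmemX, Finset.mem_univ, true_and]
      tauto
    -- E1
    have hE1 : ∀ U ∈ X, (c U : ZMod (p ^ 2)) = 1 + q * (t U : ZMod (p ^ 2)) := by
      intro U hU
      have hUne : U ≠ ⊤ := by
        rintro rfl
        have h1 := (hmemX _).1 hU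
        rw [Nat.card_congr Subgroup.topEquiv.toEquiv, hc] at h1
        have := Nat.pow_right_injective hpp.two_le h1
        omega
      have hK : IsPGroup p (annD U : Subgroup (Du G p)) := hAp.to_subgroup _
      obtain ⟨m, hm⟩ := IsPGroup.iff_card.1 hK
      have hcU : Nat.card {L : Subgroup (Du G p) // L ≤ annD U ∧ Nat.card L = p} = c U := by
        rw [Nat.card_eq_fintype_card, Fintype.card_subtype]
        congr 1
        ext L
        simp only [Finset.mem_filter, hmem𝓛, Finset.mem_univ, true_and]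
        tauto
      have h1 := card_lines hA (annD U)
      rw [hcU, hm] at h1
      cases m with
      | zero =>
        exfalso
        obtain ⟨M, hUM, hM⟩ := exists_index_p hGp hUne
        obtain ⟨L, hL, hLM⟩ := exists_line hGp hM
        have h2 : L ≤ annD U := by
          rw [← le_ann_iff, hLM]
          exact hUM
        have h3 := Subgroup.card_le_of_le h2
        rw [hL, hm, pow_zero] at h3
        have := hpp.two_le
        omega
      | succ m =>
        cases m with
        | zero =>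
          have h2 : c U = 1 := lines_one h1
          have h3 : t U = 0 := by
            show (𝓣.filter (fun T => T ≤ annD U)).card = 0
            rw [Finset.card_eq_zero, Finset.filter_eq_empty_iff]
            intro T hT hle
            have h4 := Subgroup.card_le_of_le hle
            rw [(hmem𝓣 T).1 hT, hm, zero_add, pow_one, pow_two] at h4
            have := hpp.two_le
            nlinarith
          rw [h2, h3]
          simp
        | succ m =>
          have h2 : c U ≡ 1 + p [MOD p ^ 2] := lines_two (m := m) h1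
          have h3 : t U ≡ 1 [MOD p] := by
            have h4 := Cfsg.Agent.S3975.result (G := annD U (p := p)) p 2 hpp (by
              rw [hm]
              exact pow_dvd_pow p (by omega))
            rw [card_transfer] at h4
            have h5 : Nat.card {H : Subgroup (Du G p) // H ≤ annD U ∧ Nat.card H = p ^ 2} = t U := by
              rw [Nat.card_eq_fintype_card, Fintype.card_subtype]
              congr 1
              ext T
              simp only [Finset.mem_filter, hmem𝓣, Finset.mem_univ, true_and]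
              tauto
            rwa [h5] at h4
          have h4 := q_mul_of_modEq h3
          have h5 := (ZMod.natCast_eq_natCast_iff _ _ _).2 h2
          rw [h5]
          show _ = 1 + ((p : ZMod (p ^ 2))) * (t U : ZMod (p ^ 2))
          rw [h4]
          push_cast
          rfl
    -- E2
    have hE2 : ∑ U ∈ X, c U = ∑ L ∈ 𝓛, sB (ann L) := by
      have := Finset.sum_card_bipartiteAbove_eq_sum_card_bipartiteBelow (s := X) (t := 𝓛)
        (fun (U : Subgroup G) (L : Subgroup (Du G p)) => L ≤ annD U)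
      refine Eq.trans ?_ (this.trans ?_)
      · rfl
      · refine Finset.sum_congr rfl (fun L _ => ?_)
        show (X.filter (fun U => L ≤ annD U)).card = (X.filter (fun U => U ≤ ann L)).card
        congr 1
        ext U
        simp only [Finset.mem_filter, le_ann_iff]
    have hE2' : ∑ U ∈ X, t U = ∑ T ∈ 𝓣, sB (ann T) := by
      have := Finset.sum_card_bipartiteAbove_eq_sum_card_bipartiteBelow (s := X) (t := 𝓣)
        (fun (U : Subgroup G) (T : Subgroup (Du G p)) => T ≤ annD U)
      refine Eq.trans ?_ (this.trans ?_)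
      · rfl
      · refine Finset.sum_congr rfl (fun T _ => ?_)
        show (X.filter (fun U => T ≤ annD U)).card = (X.filter (fun U => U ≤ ann T)).card
        congr 1
        ext U
        simp only [Finset.mem_filter, le_ann_iff]
    -- E3
    have hE3 : ∀ L ∈ 𝓛, (sB (ann L) : ZMod (p ^ 2)) =
        1 + q * ((if IsCyclic (ann L) then 0 else 1 : ℕ) : ZMod (p ^ 2)) := by
      intro L hL
      have hcL := hannc L hL
      rw [hsB]
      by_cases hcy : IsCyclic (ann L)
      · rw [if_pos hcy, cyc_count hcL han'.le]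
        simp
      · rw [if_neg hcy]
        have h1 := ih (ann L) hcL hcy a ha1 han'
        have h2 := (ZMod.natCast_eq_natCast_iff _ _ _).2 h1
        rw [h2]
        push_cast
        simp [q]
    -- E4
    have hE4 : ∀ T ∈ 𝓣, q * (sB (ann T) : ZMod (p ^ 2)) = q := by
      intro T hT
      apply q_mul_of_modEq
      rw [hsB]
      exact Cfsg.Agent.S3975.result p a hpp (dvd_card_ann ((hmem𝓣 T).1 hT) hc (by omega))
    -- E6
    let ν := (𝓛.filter (fun L => IsCyclic (ann L))).card
    let N₁ := (𝓛.filter (fun L => ¬ IsCyclic (ann L))).card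
    have hνN : ν + N₁ = 𝓛.card := Finset.card_filter_add_card_filter_not _
    have hν : p ∣ ν := by
      have h1 := KulNu.nu_dvd hodd hGp hnc (n := n + 1) (by omega) hc
      have h2 : Nat.card {C : Subgroup G // C.index = p ∧ IsCyclic C} = ν := by
        rw [Nat.card_eq_fintype_card, Fintype.card_subtype]
        symm
        refine Finset.card_bij (fun L _ => ann L) ?_ ?_ ?_
        · intro L hL
          rw [Finset.mem_filter] at hL
          simp only [Finset.mem_filter, Finset.mem_univ, true_and]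
          exact ⟨ann_index ((hmem𝓛 L).1 hL.1), hL.2⟩
        · intro L hL L' hL' h
          rw [Finset.mem_filter] at hL hL'
          exact line_unique ((hmem𝓛 L).1 hL.1) ((hmem𝓛 L').1 hL'.1) h
        · intro C hC
          simp only [Finset.mem_filter, Finset.mem_univ, true_and] at hC
          obtain ⟨L, h3, h4⟩ := exists_line hGp hC.1
          refine ⟨L, ?_, h4⟩
          rw [Finset.mem_filter]
          exact ⟨(hmem𝓛 _).2 h3, by rw [h4]; exact hC.2⟩
      rwa [h2] at h1
    -- final computation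
    have hμR : (𝓛.card : ZMod (p ^ 2)) = 1 + q := by
      have h1 := (ZMod.natCast_eq_natCast_iff _ _ _).2 hμ
      rw [h1]
      push_cast
      rfl
    have hβR : q * (𝓣.card : ZMod (p ^ 2)) = q := q_mul_of_modEq hβ
    have hνR : q * (ν : ZMod (p ^ 2)) = 0 := by
      obtain ⟨k, hk⟩ := hν
      rw [hk]
      push_cast
      rw [← mul_assoc]
      show q * q * _ = 0
      rw [hqq, zero_mul]
    have hN₁R : q * (N₁ : ZMod (p ^ 2)) = q := by
      have h1 : ((ν + N₁ : ℕ) : ZMod (p ^ 2)) = (𝓛.card : ZMod (p ^ 2)) := by rw [hνN]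
      push_cast at h1
      rw [hμR] at h1
      have h2 : q * ((ν : ZMod (p ^ 2)) + (N₁ : ZMod (p ^ 2))) = q * (1 + q) := by rw [h1]
      rw [mul_add, hνR, zero_add, mul_add, hqq, mul_one, add_zero] at h2
      exact h2
    have hL_sum : (∑ L ∈ 𝓛, (sB (ann L) : ZMod (p ^ 2))) = 1 + q + q := by
      rw [Finset.sum_congr rfl hE3, Finset.sum_add_distrib, Finset.sum_const, ← Finset.mul_sum]
      have h1 : (∑ L ∈ 𝓛, ((if IsCyclic (ann L) then 0 else 1 : ℕ) : ZMod (p ^ 2))) = (N₁ : ZMod (p ^ 2)) := by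
        rw [← Nat.cast_sum]
        congr 1
        show _ = (𝓛.filter (fun L => ¬ IsCyclic (ann L))).card
        rw [Finset.card_filter]
        refine Finset.sum_congr rfl (fun L _ => ?_)
        by_cases h : IsCyclic (ann L) <;> simp [h]
      rw [h1, hN₁R, nsmul_eq_mul, mul_one, hμR]
    have hT_sum : q * (∑ T ∈ 𝓣, (sB (ann T) : ZMod (p ^ 2))) = q := by
      rw [Finset.mul_sum, Finset.sum_congr rfl hE4, Finset.sum_const, nsmul_eq_mul, mul_comm]
      exact hβR
    have hmain : (X.card : ZMod (p ^ 2)) + q = 1 + q + q := by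
      have h1 : (∑ U ∈ X, (c U : ZMod (p ^ 2))) = (X.card : ZMod (p ^ 2)) + q * ∑ U ∈ X, (t U : ZMod (p ^ 2)) := by
        rw [Finset.sum_congr rfl hE1, Finset.sum_add_distrib, Finset.sum_const, ← Finset.mul_sum, nsmul_eq_mul, mul_one]
      have h2 : (∑ U ∈ X, (c U : ZMod (p ^ 2))) = ∑ L ∈ 𝓛, (sB (ann L) : ZMod (p ^ 2)) := by
        rw [← Nat.cast_sum, ← Nat.cast_sum, hE2]
      have h3 : (∑ U ∈ X, (t U : ZMod (p ^ 2))) = ∑ T ∈ 𝓣, (sB (ann T) : ZMod (p ^ 2)) := by
        rw [← Nat.cast_sum, ← Nat.cast_sum, hE2']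
      rw [h1, h3, hT_sum, hL_sum] at h2
      exact h2
    have hfin : (X.card : ZMod (p ^ 2)) = ((1 + p : ℕ) : ZMod (p ^ 2)) := by
      push_cast
      exact add_right_cancel hmain
    exact (ZMod.natCast_eq_natCast_iff _ _ _).1 hfin

end Cfsg.Agent.Lib.ClassSizes.Kulakoff
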