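import Mathlib
import Cfsg.Agent.Lib.LargeES.Mk
import Cfsg.Agent.Lib.Geo.PrimSolvable
import Cfsg.Agent.Lib.Core.Basic

/-! Involutions acting on an extraspecial normal subgroup of order 32 in a group of order 320. -/

set_option autoImplicit false

namespace Cfsg.Agent.Lib.ClassSizes.Ord320

open Subgroup
open scoped commutatorElement

section gamma

variable {Γ : Type*} [Group Γ] [Finite Γ]

theorem card_modEq_fixed (C : Subgroup Γ) (f : Γ) (hf : f ^ 5 = 1)
    (hC : ∀ m ∈ C, f * m * f⁻¹ ∈ C) :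
    Nat.card C ≡ Nat.card ↥(C ⊓ centralizer ({f} : Set Γ)) [MOD 5] := by
  classical
  haveI : Fact (Nat.Prime 5) := ⟨by norm_num⟩
  letI : Fintype C := Fintype.ofFinite _
  let F : Function.End ↥C := fun m => ⟨f * m.1 * f⁻¹, hC m.1 m.2⟩
  have hpow : ∀ (n : ℕ) (m : ↥C), (((F ^ n) m : ↥C) : Γ) = f ^ n * m.1 * (f ^ n)⁻¹ := by
    intro n
    induction n with
    | zero => intro m; simp; rfl
    | succ n ih =>
      intro m
      rw [pow_succ', Function.End.mul_def]
      change f * (((F ^ n) m : ↥C) : Γ) * f⁻¹ = _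
      rw [ih, pow_succ']
      group
  have hF5 : F ^ 5 ^ 1 = 1 := by
    funext m
    apply Subtype.ext
    rw [pow_one, hpow, hf]
    simp
    rfl
  have h1 := Equiv.Perm.card_fixedPoints_modEq hF5
  rw [← Nat.card_eq_fintype_card] at h1
  convert h1 using 1
  rw [← Nat.card_eq_fintype_card]
  refine Nat.card_congr ⟨fun x => ⟨⟨x.1, x.2.1⟩, ?_⟩, fun y => ⟨y.1.1, y.1.2, ?_⟩, ?_, ?_⟩
  · -- fixed
    apply Subtype.ext
    have h2 : x.1 ∈ centralizer ({f} : Set Γ) := x.2.2
    rw [Subgroup.mem_centralizer_singleton_iff] at h2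
    change f * x.1 * f⁻¹ = x.1
    rw [← h2]
    group
  · have h2 := congrArg Subtype.val y.2
    change f * y.1.1 * f⁻¹ = y.1.1 at h2
    change y.1.1 ∈ centralizer ({f} : Set Γ)
    rw [Subgroup.mem_centralizer_singleton_iff]
    calc y.1.1 * f = f * y.1.1 * f⁻¹ * f := by rw [h2]
      _ = f * y.1.1 := by group
  · intro x
    rfl
  · intro y
    rfl

theorem card_one_or_sixteen_aux {n : ℕ} (h2 : n ∣ 16) (h1 : n ≡ 1 [MOD 5]) : n = 1 ∨ n = 16 := by
  have h3 : n ∈ Nat.divisors 16 := by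
    rw [Nat.mem_divisors]
    exact ⟨h2, by norm_num⟩
  have h4 : Nat.divisors 16 = {1, 2, 4, 8, 16} := by decide
  rw [h4] at h3
  simp only [Finset.mem_insert, Finset.mem_singleton] at h3
  rcases h3 with h | h | h | h | h
  · exact Or.inl h
  · rw [h] at h1; exact absurd h1 (by decide)
  · rw [h] at h1; exact absurd h1 (by decide)
  · rw [h] at h1; exact absurd h1 (by decide)
  · exact Or.inr h

theorem card_one_or_sixteen {M D : Subgroup Γ} (hM16 : Nat.card M = 16) (hDM : D ≤ M) (f : Γ)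
    (hf : f ^ 5 = 1) (hD : ∀ m ∈ D, f * m * f⁻¹ ∈ D)
    (hfix : Nat.card ↥(D ⊓ centralizer ({f} : Set Γ)) = 1) : Nat.card D = 1 ∨ Nat.card D = 16 := by
  have h1 := card_modEq_fixed D f hf hD
  rw [hfix] at h1
  have h2 : Nat.card D ∣ 16 := by
    rw [← hM16]
    exact Subgroup.card_dvd_of_le hDM
  have h3 : Nat.card D ∈ Nat.divisors 16 := by
    rw [Nat.mem_divisors]
    exact ⟨h2, by norm_num⟩
  have h4 : Nat.divisors 16 = {1, 2, 4, 8, 16} := by decide
  rw [h4] at h3
  simp only [Finset.mem_insert, Finset.mem_singleton] at h3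
  rcases h3 with h | h | h | h | h
  · exact Or.inl h
  · rw [h] at h1; exact absurd h1 (by decide)
  · rw [h] at h1; exact absurd h1 (by decide)
  · rw [h] at h1; exact absurd h1 (by decide)
  · exact Or.inr h

theorem card_mul_le_of_inf {M C C' : Subgroup Γ} (hC : C ≤ M) (hC' : C' ≤ M)
    (hinter : ∀ m ∈ C, m ∈ C' → m = 1) : Nat.card C * Nat.card C' ≤ Nat.card M := by
  rw [← Nat.card_prod]
  refine Nat.card_le_card_of_injective
    (fun p : ↥C × ↥C' => (⟨p.1.1 * p.2.1, M.mul_mem (hC p.1.2) (hC' p.2.2)⟩ : ↥M)) ?_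
  rintro ⟨⟨a, ha⟩, ⟨b, hb⟩⟩ ⟨⟨c, hc⟩, ⟨d, hd⟩⟩ h
  have h1 : a * b = c * d := congrArg Subtype.val h
  have h2 : c⁻¹ * a = d * b⁻¹ := by
    calc c⁻¹ * a = c⁻¹ * (a * b) * b⁻¹ := by group
      _ = c⁻¹ * (c * d) * b⁻¹ := by rw [h1]
      _ = d * b⁻¹ := by group
  have h3 : c⁻¹ * a = 1 := hinter _ (C.mul_mem (C.inv_mem hc) ha)
    (h2 ▸ C'.mul_mem hd (C'.inv_mem hb))
  have h4 : a = c := by
    have := inv_mul_eq_one.mp h3
    exact this.symm
  have h5 : b = d := by
    subst h4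
    exact mul_left_cancel h1
  subst h4 h5
  rfl

/-- The key bound. -/
theorem key_gamma (M : Subgroup Γ) [hMn : M.Normal] (hMc : ∀ a ∈ M, ∀ b ∈ M, a * b = b * a)
    (hM2 : ∀ m ∈ M, m * m = 1) (hM16 : Nat.card M = 16) (hΓ : Nat.card Γ = 160)
    (hfpf : ∀ g : Γ, orderOf g = 5 → ∀ m ∈ M, g * m = m * g → m = 1)
    (hcore : ∀ N : Subgroup Γ, N.Normal → IsPGroup 2 N → N ≤ M)
    (τ : Γ) (hτ : τ * τ = 1) (hτM : τ ∉ M) (hne : ∃ m ∈ M, m ≠ 1 ∧ τ * m = m * τ) :
    Nat.card ↥(M ⊓ centralizer ({τ} : Set Γ)) ≤ 4 := by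
  classical
  haveI h5p : Fact (Nat.Prime 5) := ⟨by norm_num⟩
  obtain ⟨f, hf⟩ := exists_prime_orderOf_dvd_card' (G := Γ) 5 (by rw [hΓ]; norm_num)
  have hf5 : f ^ 5 = 1 := by rw [← hf]; exact pow_orderOf_eq_one f
  set C := M ⊓ centralizer ({τ} : Set Γ) with hC
  have hCM : C ≤ M := inf_le_left
  have hmemC : ∀ m, m ∈ C ↔ m ∈ M ∧ m * τ = τ * m := by
    intro m
    rw [hC, Subgroup.mem_inf, Subgroup.mem_centralizer_singleton_iff]
  have hτinv : τ⁻¹ = τ := inv_eq_of_mul_eq_one_left hτ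
  set g := f * τ * f⁻¹ * τ⁻¹ with hg
  by_cases hgM : g ∈ M
  · -- case a
    exfalso
    have hfinv : orderOf f⁻¹ = 5 := by rwa [orderOf_inv]
    have hinv : ∀ m ∈ C, f⁻¹ * m * (f⁻¹)⁻¹ ∈ C := by
      intro m hm
      obtain ⟨hmM, hmτ⟩ := (hmemC m).mp hm
      have hm' : f⁻¹ * m * f ∈ M := by
        have := hMn.conj_mem m hmM f⁻¹
        simpa using this
      rw [inv_inv, hmemC]
      refine ⟨hm', ?_⟩
      -- `m` commutes with `f τ f⁻¹ = g τ`
      have h1 : f * τ * f⁻¹ = g * τ := by rw [hg]; group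
      have h2 : m * (f * τ * f⁻¹) = (f * τ * f⁻¹) * m := by
        calc m * (f * τ * f⁻¹) = m * (g * τ) := by rw [h1]
          _ = (m * g) * τ := (mul_assoc _ _ _).symm
          _ = (g * m) * τ := by rw [hMc m hmM g hgM]
          _ = g * (m * τ) := mul_assoc _ _ _
          _ = g * (τ * m) := by rw [hmτ]
          _ = (g * τ) * m := (mul_assoc _ _ _).symm
          _ = (f * τ * f⁻¹) * m := by rw [h1]
      calc f⁻¹ * m * f * τ = f⁻¹ * (m * (f * τ * f⁻¹)) * f := by group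
        _ = f⁻¹ * ((f * τ * f⁻¹) * m) * f := by rw [h2]
        _ = τ * (f⁻¹ * m * f) := by group
    have hfix : Nat.card ↥(C ⊓ centralizer ({f⁻¹} : Set Γ)) = 1 := by
      rw [Subgroup.card_eq_one, eq_bot_iff]
      rintro m ⟨hm1, hm2⟩
      have hm3 := Subgroup.mem_centralizer_singleton_iff.mp hm2
      exact (Subgroup.mem_bot).mpr (hfpf f⁻¹ hfinv m (hCM hm1) hm3.symm)
    have hf5' : f⁻¹ ^ 5 = 1 := by rw [inv_pow, hf5, inv_one]
    rcases card_one_or_sixteen hM16 hCM f⁻¹ hf5' hinv hfix with h1 | h16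
    · obtain ⟨m, hm, hm1, hmτ⟩ := hne
      have h2 : m ∈ C := (hmemC m).mpr ⟨hm, hmτ.symm⟩
      rw [Subgroup.card_eq_one] at h1
      rw [h1] at h2
      exact hm1 ((Subgroup.mem_bot).mp h2)
    · have hCeq : C = M := Subgroup.eq_of_le_of_card_ge hCM (by rw [h16, hM16])
      -- the centralizer of `M` is a normal `2`-group
      let K : Subgroup Γ := centralizer (M : Set Γ)
      have hKn : K.Normal := inferInstance
      have hτK : τ ∈ K := by
        rw [Subgroup.mem_centralizer_iff]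
        intro m hm
        have h1 : m ∈ C := by rw [hCeq]; exact hm
        exact ((hmemC m).mp h1).2
      have hK5 : ¬ 5 ∣ Nat.card K := by
        intro hd
        obtain ⟨y, hy⟩ := exists_prime_orderOf_dvd_card' (G := K) 5 hd
        have hy' : orderOf (y : Γ) = 5 := by
          rw [Subgroup.orderOf_coe]
          exact hy
        obtain ⟨m, hm, hm1, -⟩ := hne
        apply hm1
        apply hfpf (y : Γ) hy' m hm
        exact ((Subgroup.mem_centralizer_iff.mp y.2) m hm).symm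
      have hKd : Nat.card K ∣ 2 ^ 5 := by
        have h1 : Nat.card K ∣ 2 ^ 5 * 5 := by
          have := Subgroup.card_subgroup_dvd_card K
          rw [hΓ] at this
          exact this
        have hco : Nat.Coprime (Nat.card K) 5 :=
          ((Nat.Prime.coprime_iff_not_dvd h5p.out).mpr hK5).symm
        exact hco.dvd_of_dvd_mul_right h1
      have hKp : IsPGroup 2 K := by
        obtain ⟨k, -, hk⟩ := (Nat.dvd_prime_pow Nat.prime_two).mp hKd
        exact IsPGroup.of_card hk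
      exact hτM (hcore K hKn hKp hτK)
  · -- case b
    set π' := QuotientGroup.mk' M with hπ'
    have hQ : Nat.card (Γ ⧸ M) = 10 := by
      have := Subgroup.card_eq_card_quotient_mul_card_subgroup M
      rw [hΓ, hM16] at this
      omega
    set fb := π' f with hfb
    have hfb1 : fb ≠ 1 := by
      intro h
      have hfM : f ∈ M := (QuotientGroup.eq_one_iff f).mp h
      have h2 : f ^ 2 = 1 := by rw [sq]; exact hM2 f hfM
      have := orderOf_dvd_of_pow_eq_one h2
      rw [hf] at this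
      omega
    have hfbo : orderOf fb = 5 := by
      apply orderOf_eq_prime _ hfb1
      rw [hfb, ← map_pow, hf5, map_one]
    have hPc : Nat.card (zpowers fb) = 5 := by rw [Nat.card_zpowers, hfbo]
    have hPi : (zpowers fb).index = 2 := by
      have := (zpowers fb).index_mul_card
      rw [hPc, hQ] at this
      omega
    have hPn : (zpowers fb).Normal := Subgroup.normal_of_index_eq_two hPi
    have hgP : π' g ∈ zpowers fb := by
      have h1 : π' g = fb * (π' τ * fb⁻¹ * (π' τ)⁻¹) := by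
        rw [hg, hfb]
        simp only [map_mul, map_inv]
        group
      rw [h1]
      exact (zpowers fb).mul_mem (mem_zpowers fb)
        (hPn.conj_mem _ ((zpowers fb).inv_mem (mem_zpowers fb)) _)
    obtain ⟨k, hk⟩ := Subgroup.mem_zpowers_iff.mp hgP
    have hg5 : g ^ 5 ∈ M := by
      have h1 : π' (g ^ 5) = 1 := by
        rw [map_pow, ← hk, ← zpow_natCast, ← zpow_mul, mul_comm, zpow_mul, zpow_natCast]
        have : fb ^ 5 = 1 := by rw [← hfbo]; exact pow_orderOf_eq_one fb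
        rw [this, one_zpow]
      exact (QuotientGroup.eq_one_iff _).mp h1
    have hg25 : (g ^ 2) ^ 5 = 1 := by
      have := hM2 _ hg5
      rw [← pow_mul]
      calc g ^ (2 * 5) = g ^ 5 * g ^ 5 := by rw [← pow_add]
        _ = 1 := this
    have hg21 : g ^ 2 ≠ 1 := by
      intro h
      apply hgM
      have : g ^ 5 = g := by
        calc g ^ 5 = (g ^ 2) ^ 2 * g := by rw [← pow_mul, ← pow_succ]
          _ = g := by rw [h]; simp
      rwa [this] at hg5
    have hgo : orderOf (g ^ 2) = 5 := orderOf_eq_prime hg25 hg21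
    set C' := C.map (MulAut.conj f).toMonoidHom with hC'
    have hC'M : C' ≤ M := by
      rintro _ ⟨m, hm, rfl⟩
      exact hMn.conj_mem m (hCM hm) f
    have hcardC' : Nat.card C' = Nat.card C :=
      Subgroup.card_map_of_injective (MulAut.conj f).injective
    have hinter : ∀ m ∈ C, m ∈ C' → m = 1 := by
      rintro m hm ⟨m', hm', rfl⟩
      obtain ⟨hmM, hmτ⟩ := (hmemC _).mp hm
      obtain ⟨hm'M, hm'τ⟩ := (hmemC _).mp hm'
      simp only [MulEquiv.coe_toMonoidHom, MulAut.conj_apply] at hmM hmτ ⊢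
      set m₁ := f * m' * f⁻¹ with hm₁
      have h1 : m₁ * (f * τ * f⁻¹) = (f * τ * f⁻¹) * m₁ := by
        calc m₁ * (f * τ * f⁻¹) = f * (m' * τ) * f⁻¹ := by rw [hm₁]; group
          _ = f * (τ * m') * f⁻¹ := by rw [hm'τ]
          _ = (f * τ * f⁻¹) * m₁ := by rw [hm₁]; group
      have h2 : g * m₁ = m₁ * g := by
        have hτ' : m₁ * τ⁻¹ = τ⁻¹ * m₁ := by rw [hτinv]; exact hmτ
        calc g * m₁ = (f * τ * f⁻¹) * (τ⁻¹ * m₁) := by rw [hg]; group
          _ = (f * τ * f⁻¹) * (m₁ * τ⁻¹) := by rw [hτ']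
          _ = ((f * τ * f⁻¹) * m₁) * τ⁻¹ := by group
          _ = (m₁ * (f * τ * f⁻¹)) * τ⁻¹ := by rw [h1]
          _ = m₁ * g := by rw [hg]; group
      have h3 : g ^ 2 * m₁ = m₁ * g ^ 2 := by
        calc g ^ 2 * m₁ = g * (g * m₁) := by rw [sq, mul_assoc]
          _ = g * (m₁ * g) := by rw [h2]
          _ = (g * m₁) * g := by group
          _ = (m₁ * g) * g := by rw [h2]
          _ = m₁ * g ^ 2 := by rw [sq, mul_assoc]
      exact hfpf _ hgo m₁ hmM h3
    have hle := card_mul_le_of_inf hCM hC'M hinter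
    rw [hcardC', hM16] at hle
    by_contra hcon
    push Not at hcon
    nlinarith

/-- Surjectivity of the norm map. -/
theorem exists_rep (M : Subgroup Γ) [hMn : M.Normal] (hMc : ∀ a ∈ M, ∀ b ∈ M, a * b = b * a)
    (hM2 : ∀ m ∈ M, m * m = 1) (hM16 : Nat.card M = 16) (τ : Γ) (hτ : τ * τ = 1)
    (hC : Nat.card ↥(M ⊓ centralizer ({τ} : Set Γ)) ≤ 4) :
    ∀ m ∈ M, τ * m = m * τ → ∃ w ∈ M, m = w * (τ * w * τ⁻¹) := by
  classical
  have hτinv : τ⁻¹ = τ := inv_eq_of_mul_eq_one_left hτ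
  let d : ↥M →* ↥M :=
    { toFun := fun w => ⟨w.1 * (τ * w.1 * τ⁻¹), M.mul_mem w.2 (hMn.conj_mem _ w.2 τ)⟩
      map_one' := by
        apply Subtype.ext
        simp
      map_mul' := by
        intro a b
        apply Subtype.ext
        have h1 := hMc b.1 b.2 (τ * a.1 * τ⁻¹) (hMn.conj_mem _ a.2 τ)
        change a.1 * b.1 * (τ * (a.1 * b.1) * τ⁻¹) = a.1 * (τ * a.1 * τ⁻¹) * (b.1 * (τ * b.1 * τ⁻¹))
        calc a.1 * b.1 * (τ * (a.1 * b.1) * τ⁻¹)
            = a.1 * (b.1 * (τ * a.1 * τ⁻¹)) * (τ * b.1 * τ⁻¹) := by group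
          _ = a.1 * ((τ * a.1 * τ⁻¹) * b.1) * (τ * b.1 * τ⁻¹) := by rw [h1]
          _ = _ := by group }
  have hdval : ∀ w : ↥M, ((d w : ↥M) : Γ) = w.1 * (τ * w.1 * τ⁻¹) := fun w => rfl
  let C₀ : Subgroup ↥M := (M ⊓ centralizer ({τ} : Set Γ)).subgroupOf M
  have hC₀ : Nat.card C₀ = Nat.card ↥(M ⊓ centralizer ({τ} : Set Γ)) :=
    Nat.card_congr (Subgroup.subgroupOfEquivOfLe inf_le_left).toEquiv
  have hmem : ∀ w : ↥M, w ∈ C₀ ↔ w.1 * τ = τ * w.1 := by
    intro w
    change w.1 ∈ M ⊓ centralizer ({τ} : Set Γ) ↔ _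
    rw [Subgroup.mem_inf, Subgroup.mem_centralizer_singleton_iff]
    exact ⟨fun h => h.2, fun h => ⟨w.2, h⟩⟩
  have hker : d.ker ≤ C₀ := by
    intro w hw
    rw [hmem]
    have h1 : w.1 * (τ * w.1 * τ⁻¹) = 1 := congrArg Subtype.val (MonoidHom.mem_ker.mp hw)
    have h2 : τ * w.1 * τ⁻¹ = w.1⁻¹ := eq_inv_of_mul_eq_one_right h1
    have h3 : w.1⁻¹ = w.1 := inv_eq_of_mul_eq_one_left (hM2 _ w.2)
    rw [h3] at h2
    calc w.1 * τ = τ * w.1 * τ⁻¹ * τ := by rw [h2]
      _ = τ * w.1 := by group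
  have hrange : d.range ≤ C₀ := by
    rintro _ ⟨w, rfl⟩
    rw [hmem, hdval]
    have h1 := hMc w.1 w.2 (τ * w.1 * τ⁻¹) (hMn.conj_mem _ w.2 τ)
    rw [hτinv] at h1 ⊢
    calc w.1 * (τ * w.1 * τ) * τ = (τ * w.1 * τ) * w.1 * τ := by rw [h1]
      _ = τ * (w.1 * (τ * w.1 * τ)) := by group
  have hcard : Nat.card d.ker * Nat.card d.range = 16 := by
    have := d.ker.card_mul_index
    rw [Subgroup.index_ker, hM16] at this
    exact this
  have hk4 : Nat.card d.ker ≤ 4 :=
    (Subgroup.card_le_of_le hker).trans (hC₀ ▸ hC)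
  have hr4 : Nat.card d.range ≤ 4 :=
    (Subgroup.card_le_of_le hrange).trans (hC₀ ▸ hC)
  have hr : Nat.card d.range = 4 := by
    by_contra hcon
    have : Nat.card d.range ≤ 3 := by omega
    nlinarith
  have heq : d.range = C₀ := Subgroup.eq_of_le_of_card_ge hrange (by
    rw [hr, hC₀]
    exact hC)
  intro m hm hmτ
  have h1 : (⟨m, hm⟩ : ↥M) ∈ d.range := by
    rw [heq, hmem]
    exact hmτ.symm
  obtain ⟨w, hw⟩ := h1
  exact ⟨w.1, w.2, (congrArg Subtype.val hw).symm⟩

end gamma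

section main

theorem isSolvable_ord10 {Q : Type*} [Group Q] [Finite Q] (hQ : Nat.card Q = 10) :
    Group.IsSolvable Q := by
  haveI : Fact (Nat.Prime 5) := ⟨by norm_num⟩
  haveI : Fact (Nat.Prime 2) := ⟨Nat.prime_two⟩
  obtain ⟨x, hx⟩ := exists_prime_orderOf_dvd_card' (G := Q) 5 (by rw [hQ]; norm_num)
  have hPc : Nat.card (zpowers x) = 5 := by rw [Nat.card_zpowers, hx]
  have hPi : (zpowers x).index = 2 := by
    have := (zpowers x).index_mul_card
    rw [hPc, hQ] at this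
    omega
  haveI hPn : (zpowers x).Normal := Subgroup.normal_of_index_eq_two hPi
  haveI : Group.IsSolvable (zpowers x) := Group.isSolvable_of_comm (by
    rintro ⟨a, ha⟩ ⟨b, hb⟩
    obtain ⟨i, rfl⟩ := Subgroup.mem_zpowers_iff.mp ha
    obtain ⟨j, rfl⟩ := Subgroup.mem_zpowers_iff.mp hb
    apply Subtype.ext
    exact zpow_mul_comm x i j)
  have hq : Nat.card (Q ⧸ zpowers x) = 2 := by
    rw [← Subgroup.index_eq_card]
    exact hPi
  haveI : IsCyclic (Q ⧸ zpowers x) := isCyclic_of_prime_card hq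
  haveI : Group.IsSolvable (Q ⧸ zpowers x) := Group.isSolvable_of_comm (by
    intro a b
    obtain ⟨c, hc⟩ := IsCyclic.exists_generator (α := Q ⧸ zpowers x)
    obtain ⟨i, rfl⟩ := Subgroup.mem_zpowers_iff.mp (hc a)
    obtain ⟨j, rfl⟩ := Subgroup.mem_zpowers_iff.mp (hc b)
    exact zpow_mul_comm c i j)
  exact Group.isSolvable_of_ker_le_range (zpowers x).subtype (QuotientGroup.mk' (zpowers x)) (by
    intro y hy
    rw [QuotientGroup.ker_mk'] at hy
    exact ⟨⟨y, hy⟩, rfl⟩)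

theorem main {G : Type*} [Group G] [Finite G]
    (hG : Nat.card G = 320) (hHF : Cfsg.pCore 2 G = Cfsg.fittingSubgroup G)
    (hex : Cfsg.IsExtraspecial 2 ↥(Cfsg.pCore 2 G)) (h32 : Nat.card ↥(Cfsg.pCore 2 G) = 32)
    (hminus : ∀ A : Subgroup G, A ≤ Cfsg.pCore 2 G → Cfsg.IsElementaryAbelian 2 A → Nat.card ↥A ≤ 4)
    (T : G) (hT : orderOf T = 2) (hTH : T ∉ Cfsg.pCore 2 G)
    (V : Subgroup G) (hV : V ≤ Cfsg.pCore 2 G ⊓ Subgroup.centralizer ({T} : Set G))
    (hV4 : Nat.card ↥V = 4) :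
    Nat.card ↥(Cfsg.pCore 2 G ⊓ Subgroup.centralizer ({T} : Set G)) = 4 ∧
      Cfsg.IsElementaryAbelian 2 (Cfsg.pCore 2 G ⊓ Subgroup.centralizer ({T} : Set G)) := by
  classical
  haveI : Fact (Nat.Prime 2) := ⟨Nat.prime_two⟩
  haveI h5p : Fact (Nat.Prime 5) := ⟨by norm_num⟩
  obtain ⟨z, hz2, hZ⟩ := Cfsg.Agent.Lib.LargeES.exists_center_gen hex
  have hF := Cfsg.Agent.Lib.LargeES.facts_of_center hex hz2 hZ
  have hHnorm : (Cfsg.pCore 2 G).Normal := Cfsg.Agent.Lib.Core.pCore_normal 2 G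
  have hHp : IsPGroup 2 ↥(Cfsg.pCore 2 G) := Cfsg.Agent.Lib.Core.pCore_isPGroup 2 G
  have hCH : centralizer ((Cfsg.pCore 2 G : Subgroup G) : Set G) ≤ Cfsg.pCore 2 G := by
    have hGsolv : Group.IsSolvable G := by
      haveI : Group.IsSolvable ↥(Cfsg.pCore 2 G) := by
        haveI := hHp.isNilpotent
        infer_instance
      have hq : Nat.card (G ⧸ Cfsg.pCore 2 G) = 10 := by
        have := Subgroup.card_eq_card_quotient_mul_card_subgroup (Cfsg.pCore 2 G)
        rw [hG, h32] at this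
        omega
      haveI := isSolvable_ord10 hq
      exact Group.isSolvable_of_ker_le_range (Cfsg.pCore 2 G).subtype
        (QuotientGroup.mk' (Cfsg.pCore 2 G)) (by
        intro x hx
        rw [QuotientGroup.ker_mk'] at hx
        exact ⟨⟨x, hx⟩, rfl⟩)
    have := Cfsg.Agent.Lib.Geo.centralizer_fitting_le_of_solvable (G := G)
    rwa [← hHF] at this
  generalize hHdef : Cfsg.pCore 2 G = H at *
  haveI hHn : H.Normal := hHnorm
  have hz1 : z ≠ 1 := by
    rintro rfl
    simp at hz2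
  have hzz : z * z = 1 := by
    rw [← sq, ← hz2]
    exact pow_orderOf_eq_one z
  have hzmem : ∀ c ∈ zpowers z, c = 1 ∨ c = z := fun c hc => hF.eq_one_or hc
  have hzH : z ∈ H := hF.hzQ
  have hzcH : ∀ h ∈ H, h * z = z * h := by
    intro h hh
    have h1 : z ∈ H ⊓ centralizer (H : Set G) := by
      rw [hF.hcent]
      exact mem_zpowers z
    exact Subgroup.mem_centralizer_iff.mp h1.2 h hh
  have hzc : ∀ g : G, g * z = z * g := by
    intro g
    have h1 : g * z * g⁻¹ ∈ H ⊓ centralizer (H : Set G) := by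
      refine ⟨hHn.conj_mem z hzH g, ?_⟩
      change g * z * g⁻¹ ∈ centralizer (H : Set G)
      rw [Subgroup.mem_centralizer_iff]
      intro h hh
      have h2 : g⁻¹ * h * g ∈ H := by
        have := hHn.conj_mem h hh g⁻¹
        simpa using this
      have h3 := hzcH _ h2
      calc h * (g * z * g⁻¹) = g * ((g⁻¹ * h * g) * z) * g⁻¹ := by group
        _ = g * (z * (g⁻¹ * h * g)) * g⁻¹ := by rw [h3]
        _ = g * z * g⁻¹ * h := by group
    rw [hF.hcent] at h1
    rcases hzmem _ h1 with h2 | h2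
    · exfalso
      apply hz1
      have : g * z * g⁻¹ = g * 1 * g⁻¹ := by rw [h2]; simp
      exact mul_left_cancel (mul_right_cancel this)
    · calc g * z = g * z * g⁻¹ * g := by group
        _ = z * g := by rw [h2]
  have hZc : ∀ c ∈ zpowers z, ∀ g : G, g * c = c * g := by
    intro c hc g
    rcases hzmem c hc with rfl | rfl
    · simp
    · exact hzc g
  have hZ2 : ∀ c ∈ zpowers z, c * c = 1 := by
    intro c hc
    rcases hzmem c hc with rfl | rfl
    · simp
    · exact hzz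
  have hZH : zpowers z ≤ H := by
    rw [Subgroup.zpowers_le]
    exact hzH
  haveI hZn : (zpowers z).Normal := ⟨fun x hx g => by
    rw [hZc x hx g, mul_assoc, mul_inv_cancel, mul_one]
    exact hx⟩
  have hZcard : Nat.card (zpowers z) = 2 := by rw [Nat.card_zpowers, hz2]
  set π := QuotientGroup.mk' (zpowers z) with hπ
  have hπs : Function.Surjective π := QuotientGroup.mk'_surjective _
  have hπ1 : ∀ x : G, π x = 1 ↔ x ∈ zpowers z := fun x => QuotientGroup.eq_one_iff x
  have hπker : π.ker = zpowers z := QuotientGroup.ker_mk' _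
  have hΓ : Nat.card (G ⧸ zpowers z) = 160 := by
    have := Subgroup.card_eq_card_quotient_mul_card_subgroup (zpowers z)
    rw [hG, hZcard] at this
    omega
  set M := H.map π with hM
  haveI hMn : M.Normal := hHn.map π hπs
  have hcomap : M.comap π = H := by
    rw [hM, Subgroup.comap_map_eq, hπker]
    exact sup_eq_left.mpr hZH
  have hM16 : Nat.card M = 16 := by
    have := Cfsg.Agent.Lib.Core.card_comap_of_surjective π hπs M
    rw [hcomap, hπker, hZcard, h32] at this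
    omega
  have hMc : ∀ a ∈ M, ∀ b ∈ M, a * b = b * a := by
    rintro _ ⟨a, ha, rfl⟩ _ ⟨b, hb, rfl⟩
    have h1 : π ⁅a, b⁆ = 1 := (hπ1 _).mpr (hF.hcom a ha b hb)
    rw [map_commutatorElement, commutatorElement_eq_one_iff_mul_comm] at h1
    exact h1
  have hM2 : ∀ m ∈ M, m * m = 1 := by
    rintro _ ⟨a, ha, rfl⟩
    rw [← map_mul]
    exact (hπ1 _).mpr (hF.hsq a ha)
  -- order five elements act nontrivially
  have hact : ∀ g : G, g ^ 5 = 1 → g ≠ 1 → ¬ ∀ h ∈ H, π g * π h = π h * π g := by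
    intro g hg5 hg1 hcon
    have hg : g ∈ H := by
      apply hCH
      rw [Subgroup.mem_centralizer_iff]
      intro h hh
      have h1 : π (g * h * g⁻¹ * h⁻¹) = 1 := by
        simp only [map_mul, map_inv]
        rw [hcon h hh]
        group
      have h2 := (hπ1 _).mp h1
      obtain ⟨ζ, hζ⟩ : ∃ ζ, ζ = g * h * g⁻¹ * h⁻¹ := ⟨_, rfl⟩
      rw [← hζ] at h2
      have h3 : g * h * g⁻¹ = ζ * h := by rw [hζ]; group
      have h4 : ∀ n : ℕ, g ^ n * h * (g ^ n)⁻¹ = ζ ^ n * h := by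
        intro n
        induction n with
        | zero => simp
        | succ n ih =>
          calc g ^ (n + 1) * h * (g ^ (n + 1))⁻¹ = g * (g ^ n * h * (g ^ n)⁻¹) * g⁻¹ := by
                rw [pow_succ', mul_inv_rev]
                group
            _ = g * (ζ ^ n * h) * g⁻¹ := by rw [ih]
            _ = (g * ζ ^ n * g⁻¹) * (g * h * g⁻¹) := by group
            _ = ζ ^ n * (ζ * h) := by
                rw [h3]
                have h6 : g * ζ ^ n = ζ ^ n * g := (hZc _ ((zpowers z).pow_mem h2 n) g)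
                rw [h6]
                group
            _ = ζ ^ (n + 1) * h := by rw [pow_succ, mul_assoc]
      have h5 := h4 5
      rw [hg5] at h5
      simp only [one_mul, inv_one, mul_one] at h5
      have h6 : ζ ^ 5 = 1 := by
        have := mul_right_cancel (show ζ ^ 5 * h = 1 * h by rw [one_mul, ← h5])
        exact this
      have h7 : ζ = 1 := by
        have h8 : ζ * ζ = 1 := hZ2 ζ h2
        calc ζ = (ζ * ζ) * (ζ * ζ) * ζ := by rw [h8]; simp
          _ = ζ ^ 5 := by simp only [pow_succ, pow_zero, one_mul, mul_assoc]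
          _ = 1 := h6
      have h9 : g * h * g⁻¹ = h := by rw [h3, h7, one_mul]
      calc h * g = g * h * g⁻¹ * g := by rw [h9]
        _ = g * h := by group
    have h1 : orderOf g = 5 := orderOf_eq_prime hg5 hg1
    have h2 : orderOf g ∣ Nat.card H := Subgroup.orderOf_dvd_natCard H hg
    rw [h1, h32] at h2
    omega
  have hfpf : ∀ g : G ⧸ zpowers z, orderOf g = 5 → ∀ m ∈ M, g * m = m * g → m = 1 := by
    intro gt ho m hm hc
    obtain ⟨g₀, rfl⟩ := hπs gt
    have hp5 : π g₀ ^ 5 = 1 := by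
      rw [← ho]
      exact pow_orderOf_eq_one _
    have hg₀5 : g₀ ^ 5 ∈ zpowers z := (hπ1 _).mp (by rw [map_pow, hp5])
    have hg₀10 : g₀ ^ 5 * g₀ ^ 5 = 1 := hZ2 _ hg₀5
    have hpg : π (g₀ ^ 6) = π g₀ := by
      rw [map_pow, pow_succ, hp5, one_mul]
    have hg5 : (g₀ ^ 6) ^ 5 = 1 := by
      calc (g₀ ^ 6) ^ 5 = (g₀ ^ 5 * g₀ ^ 5) * (g₀ ^ 5 * g₀ ^ 5) * (g₀ ^ 5 * g₀ ^ 5) := by
            simp only [← pow_mul, ← pow_add]
        _ = 1 := by rw [hg₀10]; simp
    have hg1 : g₀ ^ 6 ≠ 1 := by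
      intro h
      rw [h, map_one] at hpg
      rw [← hpg] at ho
      simp at ho
    have hnt := hact _ hg5 hg1
    rw [hpg] at hnt
    have hD := Cfsg.Agent.Lib.ClassSizes.Ord320.card_modEq_fixed M (π g₀) hp5 (fun m hm => hMn.conj_mem m hm _)
    rw [hM16] at hD
    have hdvd : Nat.card ↥(M ⊓ centralizer ({π g₀} : Set (G ⧸ zpowers z))) ∣ 16 := by
      rw [← hM16]
      exact Subgroup.card_dvd_of_le inf_le_left
    have hcases := card_one_or_sixteen_aux hdvd hD.symm
    rcases hcases with h1 | h16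
    · rw [Subgroup.card_eq_one] at h1
      have h2 : m ∈ M ⊓ centralizer ({π g₀} : Set (G ⧸ zpowers z)) :=
        ⟨hm, Subgroup.mem_centralizer_singleton_iff.mpr hc.symm⟩
      rw [h1] at h2
      exact (Subgroup.mem_bot).mp h2
    · exfalso
      apply hnt
      have hDeq : M ⊓ centralizer ({π g₀} : Set (G ⧸ zpowers z)) = M :=
        Subgroup.eq_of_le_of_card_ge inf_le_left (by rw [h16, hM16])
      intro h hh
      have h1 : π h ∈ M ⊓ centralizer ({π g₀} : Set (G ⧸ zpowers z)) := by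
        rw [hDeq]
        exact ⟨h, hh, rfl⟩
      exact (Subgroup.mem_centralizer_singleton_iff.mp h1.2).symm
  have hcore : ∀ N : Subgroup (G ⧸ zpowers z), N.Normal → IsPGroup 2 N → N ≤ M := by
    intro N hN hNp
    have h1 : N.comap π ≤ H := by
      rw [← hHdef]
      apply Cfsg.Agent.Lib.Core.le_pCore (hN.comap π)
      obtain ⟨k, hk⟩ := IsPGroup.iff_card.mp hNp
      have h2 := Cfsg.Agent.Lib.Core.card_comap_of_surjective π hπs N
      rw [hπker, hZcard, hk, ← pow_succ'] at h2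
      exact IsPGroup.of_card h2
    intro x hx
    obtain ⟨y, rfl⟩ := hπs x
    exact ⟨y, h1 hx, rfl⟩
  have hTT : T * T = 1 := by
    rw [← sq, ← hT]
    exact pow_orderOf_eq_one T
  have hτ : π T * π T = 1 := by rw [← map_mul, hTT, map_one]
  have hτM : π T ∉ M := by
    rintro ⟨h, hh, hhT⟩
    apply hTH
    have h1 : π (h⁻¹ * T) = 1 := by
      rw [map_mul, map_inv, ← hhT]
      group
    have h2 := hZH ((hπ1 _).mp h1)
    have h3 := H.mul_mem hh h2
    simpa using h3
  have hne : ∃ m ∈ M, m ≠ 1 ∧ π T * m = m * π T := by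
    by_contra hcon
    push Not at hcon
    have hVZ : V ≤ zpowers z := by
      intro v hv
      have hvH := (hV hv).1
      have hvT := Subgroup.mem_centralizer_singleton_iff.mp (hV hv).2
      have h1 : π v = 1 := by
        by_contra hne
        apply hcon (π v) ⟨v, hvH, rfl⟩ hne
        rw [← map_mul, ← map_mul, hvT]
      exact (hπ1 _).mp h1
    have := Subgroup.card_le_of_le hVZ
    rw [hV4, hZcard] at this
    omega
  have hbound := key_gamma M hMc hM2 hM16 hΓ hfpf hcore (π T) hτ hτM hne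
  have hrep := exists_rep M hMc hM2 hM16 (π T) hτ hbound
  have hsq : ∀ h ∈ H ⊓ centralizer ({T} : Set G), h * h = 1 := by
    rintro h ⟨hh, hhT⟩
    have hhT' : h * T = T * h := Subgroup.mem_centralizer_singleton_iff.mp hhT
    obtain ⟨w, hw, hwe⟩ := hrep (π h) ⟨h, hh, rfl⟩ (by rw [← map_mul, ← map_mul, hhT'])
    obtain ⟨w₀, hw₀, rfl⟩ := hw
    set t := T * w₀ * T⁻¹ with ht
    have hTinv : T⁻¹ = T := inv_eq_of_mul_eq_one_left hTT
    have h1 : π ((w₀ * t)⁻¹ * h) = 1 := by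
      rw [map_mul, map_inv, hwe, ht]
      simp only [map_mul, map_inv]
      group
    have h2 := (hπ1 _).mp h1
    set ζ := (w₀ * t)⁻¹ * h with hζ
    have hh2 : h = w₀ * t * ζ := by rw [hζ]; group
    have hu : (w₀ * t) * T = T * (w₀ * t) := by
      have h3 : (w₀ * t) * ζ * T = T * ((w₀ * t) * ζ) := by rw [← hh2]; exact hhT'
      have h4 : (w₀ * t) * T * ζ = T * (w₀ * t) * ζ := by
        calc (w₀ * t) * T * ζ = (w₀ * t) * (T * ζ) := by group
          _ = (w₀ * t) * (ζ * T) := by rw [hZc ζ h2 T]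
          _ = (w₀ * t) * ζ * T := by group
          _ = T * ((w₀ * t) * ζ) := h3
          _ = T * (w₀ * t) * ζ := by group
      exact mul_right_cancel h4
    have hct : w₀ * t = t * w₀ := by
      have h3 : T * (w₀ * t) * T⁻¹ = w₀ * t := by
        rw [← hu]
        group
      have h4 : T * (w₀ * t) * T⁻¹ = t * w₀ := by
        rw [ht, hTinv]
        calc T * (w₀ * (T * w₀ * T)) * T = T * w₀ * T * w₀ * (T * T) := by group
          _ = T * w₀ * T * w₀ := by rw [hTT, mul_one]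
      rw [← h3, h4]
    have hc := hF.hsq w₀ hw₀
    have htt : t * t = w₀ * w₀ := by
      calc t * t = T * (w₀ * w₀) * T⁻¹ := by rw [ht]; group
        _ = (w₀ * w₀) * T * T⁻¹ := by rw [hZc _ hc T]
        _ = w₀ * w₀ := by group
    have huu : (w₀ * t) * (w₀ * t) = 1 := by
      calc (w₀ * t) * (w₀ * t) = w₀ * (t * w₀) * t := by group
        _ = w₀ * (w₀ * t) * t := by rw [hct]
        _ = (w₀ * w₀) * (t * t) := by group
        _ = 1 := by rw [htt]; exact hZ2 _ hc
    rw [hh2]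
    calc w₀ * t * ζ * (w₀ * t * ζ) = w₀ * t * (ζ * (w₀ * t)) * ζ := by group
      _ = w₀ * t * ((w₀ * t) * ζ) * ζ := by rw [hZc ζ h2 (w₀ * t)]
      _ = ((w₀ * t) * (w₀ * t)) * (ζ * ζ) := by group
      _ = 1 := by rw [huu, hZ2 ζ h2, one_mul]
  have hEl : Cfsg.IsElementaryAbelian 2 (H ⊓ centralizer ({T} : Set G)) := by
    refine ⟨⟨⟨?_⟩⟩, ?_⟩
    · rintro ⟨a, ha⟩ ⟨b, hb⟩
      apply Subtype.ext
      have h1 := hsq a ha
      have h2 := hsq b hb
      have h3 := hsq (a * b) (Subgroup.mul_mem _ ha hb)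
      have ha' : a⁻¹ = a := inv_eq_of_mul_eq_one_left h1
      have hb' : b⁻¹ = b := inv_eq_of_mul_eq_one_left h2
      have h4 : (a * b)⁻¹ = a * b := inv_eq_of_mul_eq_one_left h3
      rw [mul_inv_rev, ha', hb'] at h4
      exact h4.symm
    · intro a ha
      rw [sq]
      exact hsq a ha
  refine ⟨?_, hEl⟩
  apply le_antisymm
  · exact hminus _ inf_le_left hEl
  · rw [← hV4]
    exact Subgroup.card_le_of_le hV

end main

end Cfsg.Agent.Lib.ClassSizes.Ord320
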