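import Mathlib
import Cfsg.Agent.Lib.Core.Frattini
import Cfsg.Agent.Lib.PGroup.Basic
import Cfsg.Agent.Lib.PGroup.ClassTwo

/-!
# Normal Sylow subgroups of minimal non-nilpotent groups: the structure of the `p`-group

`SchAut p q σ`: `S` is a `p`-group and `σ` is an automorphism of prime order `q ≠ p` such that
every proper `σ`-invariant subgroup is pointwise fixed.
-/

set_option autoImplicit false

namespace Cfsg.Agent.Lib.ClassSizes.Sch

open Subgroup
open scoped commutatorElement

variable {S : Type*} [Group S] [Finite S] {p q : ℕ}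

/-- The Schmidt automorphism data. -/
structure SchAut (p q : ℕ) (σ : MulAut S) : Prop where
  hp : p.Prime
  hq : q.Prime
  hpq : p ≠ q
  pg : IsPGroup p S
  pow : σ ^ q = 1
  ne : σ ≠ 1
  inv : ∀ H : Subgroup S, H ≠ ⊤ → (∀ x ∈ H, σ x ∈ H) → ∀ x ∈ H, σ x = x

omit [Finite S] in
theorem eq_one_of_pow_coprime {X : Type*} [Group X] (hX : IsPGroup p X) (hp : p.Prime) {w : X} {n : ℕ}
    (hn : n.Coprime p) (hw : w ^ n = 1) : w = 1 := by
  obtain ⟨k, hk⟩ := hX w
  have h := pow_gcd_eq_one.mpr ⟨hw, hk⟩
  have hc : n.gcd (p ^ k) = 1 := Nat.Coprime.pow_right k hn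
  rw [hc, pow_one] at h
  exact h

theorem comm_mul_left {a b w : S} (h : ⁅b, w⁆ ∈ center S) : ⁅a * b, w⁆ = ⁅a, w⁆ * ⁅b, w⁆ := by
  have hc : ∀ g : S, g * ⁅b, w⁆ = ⁅b, w⁆ * g := fun g => (mem_center_iff.mp h g)
  have h1 : ⁅a * b, w⁆ = a * ⁅b, w⁆ * (w * a⁻¹ * w⁻¹) := by
    simp only [commutatorElement_def]; group
  rw [h1, hc a, mul_assoc, ← hc (a * (w * a⁻¹ * w⁻¹))]
  simp only [commutatorElement_def]; group

theorem comm_mul_right {u v w : S} (h : ⁅u, w⁆ ∈ center S) : ⁅u, v * w⁆ = ⁅u, v⁆ * ⁅u, w⁆ := by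
  have hc : ∀ g : S, g * ⁅u, w⁆ = ⁅u, w⁆ * g := fun g => (mem_center_iff.mp h g)
  have h1 : ⁅u, v * w⁆ = (u * v * u⁻¹) * ⁅u, w⁆ * v⁻¹ := by
    simp only [commutatorElement_def]; group
  rw [h1, mul_assoc, ← hc v⁻¹]
  simp only [commutatorElement_def]; group

namespace SchAut

variable {σ : MulAut S}

theorem fact (h : SchAut p q σ) : Fact p.Prime := ⟨h.hp⟩

theorem nontrivial (h : SchAut p q σ) : Nontrivial S := by
  by_contra hn
  rw [not_nontrivial_iff_subsingleton] at hn
  exact h.ne (by ext x; exact Subsingleton.elim _ _)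

theorem char_inv (_h : SchAut p q σ) (H : Subgroup S) [hH : H.Characteristic] : ∀ x ∈ H, σ x ∈ H := by
  intro x hx
  exact (characteristic_iff_le_comap.mp hH σ) hx

theorem coprime_qp (h : SchAut p q σ) : q.Coprime p :=
  (Nat.coprime_primes h.hq h.hp).mpr (Ne.symm h.hpq)

theorem gen_top (h : SchAut p q σ) : Subgroup.closure (Set.range fun y : S => σ y * y⁻¹) = ⊤ := by
  by_contra hB
  set B := Subgroup.closure (Set.range fun y : S => σ y * y⁻¹) with hBdef
  have hinv : ∀ x ∈ B, σ x ∈ B := by
    have : B ≤ B.comap σ.toMonoidHom := by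
      rw [hBdef, closure_le]
      rintro _ ⟨y, rfl⟩
      show σ (σ y * y⁻¹) ∈ Subgroup.closure _
      apply Subgroup.subset_closure
      exact ⟨σ y, by simp⟩
    exact fun x hx => this hx
  have hfix := h.inv B hB hinv
  apply h.ne
  ext y
  have hw : σ (σ y * y⁻¹) = σ y * y⁻¹ := hfix _ (Subgroup.subset_closure ⟨y, rfl⟩)
  obtain ⟨w, hwdef⟩ : ∃ w, w = σ y * y⁻¹ := ⟨_, rfl⟩
  rw [← hwdef] at hw
  have hy : σ y = w * y := by simp [hwdef]
  have hn : ∀ n : ℕ, (σ ^ n) y = w ^ n * y := by
    intro n
    induction n with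
    | zero => simp
    | succ n ih =>
      rw [pow_succ', MulAut.mul_apply, ih, map_mul, map_pow, hw, hy, pow_succ, mul_assoc]
  have h1 : w ^ q = 1 := by
    have := hn q
    rw [h.pow] at this
    simpa using this
  have hw1 := eq_one_of_pow_coprime h.pg h.hp h.coprime_qp h1
  rw [hy, hw1]
  simp

theorem normal_le_center (h : SchAut p q σ) (H : Subgroup S) [hn : H.Normal] (hne : H ≠ ⊤)
    (hinv : ∀ x ∈ H, σ x ∈ H) : H ≤ center S := by
  intro c hc
  have hfix := h.inv H hne hinv
  have key : ∀ y : S, (σ y * y⁻¹) * c = c * (σ y * y⁻¹) := by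
    intro y
    have h1 : y⁻¹ * c * y ∈ H := by simpa using hn.conj_mem c hc y⁻¹
    have h2 := hfix _ h1
    rw [map_mul, map_mul, map_inv, hfix c hc] at h2
    have h3 : c * (σ y * y⁻¹) = σ y * ((σ y)⁻¹ * c * σ y) * y⁻¹ := by group
    rw [h3, h2]
    group
  have hC : Subgroup.closure (Set.range fun y : S => σ y * y⁻¹) ≤ centralizer ({c} : Set S) := by
    rw [closure_le]
    rintro _ ⟨y, rfl⟩
    rw [SetLike.mem_coe, mem_centralizer_singleton_iff]
    exact key y
  rw [h.gen_top] at hC
  rw [mem_center_iff]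
  intro g
  have := hC (mem_top g)
  rw [mem_centralizer_singleton_iff] at this
  exact this

theorem commutator_ne_top (h : SchAut p q σ) : commutator S ≠ ⊤ := by
  haveI := h.fact
  haveI := h.nontrivial
  haveI : Group.IsNilpotent S := h.pg.isNilpotent
  exact (Group.IsSolvable.commutator_lt_top_of_nontrivial S).ne

theorem comm_central (h : SchAut p q σ) (a b : S) : ⁅a, b⁆ ∈ center S := by
  have := h.normal_le_center (commutator S) h.commutator_ne_top (h.char_inv _)
  exact this (commutator_mem_commutator (mem_top a) (mem_top b))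

theorem frattini_ne_top (h : SchAut p q σ) : frattini S ≠ ⊤ := by
  haveI := h.nontrivial
  intro he
  have : (⊥ : Subgroup S) ⊔ frattini S = ⊤ := by rw [he]; simp
  exact bot_ne_top (frattini_nongenerating this)

theorem frattini_le_center' (h : SchAut p q σ) : frattini S ≤ center S :=
  h.normal_le_center (frattini S) h.frattini_ne_top (h.char_inv _)

theorem pow_central (h : SchAut p q σ) (a : S) : a ^ p ∈ center S := by
  haveI := h.fact
  exact h.frattini_le_center' (Cfsg.Agent.Lib.PGroup.pow_mem_frattini h.pg a)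

theorem commutator_le_frattini' (h : SchAut p q σ) : commutator S ≤ frattini S := by
  haveI := h.fact
  intro x hx
  rw [Cfsg.Agent.Lib.Core.mem_frattini_iff]
  intro M hM
  have hi := Cfsg.Agent.Lib.PGroup.index_eq_prime_of_isCoatom h.pg hM
  haveI hn : M.Normal := Cfsg.Agent.Lib.PGroup.normal_of_index_eq_prime h.pg hi
  exact Cfsg.Agent.Lib.PGroup.commutator_le_of_index_prime hi hx

theorem inv_le_center (h : SchAut p q σ) (H : Subgroup S) (hne : H ≠ ⊤) (hinv : ∀ x ∈ H, σ x ∈ H) :
    H ≤ center S := by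
  have hD : H ⊔ frattini S ≠ ⊤ := fun he => hne (frattini_nongenerating he)
  haveI hDn : (H ⊔ frattini S).Normal := by
    constructor
    intro d hd g
    have h1 : g * d * g⁻¹ = ⁅g, d⁆ * d := by simp [commutatorElement_def]
    rw [h1]
    refine mul_mem ?_ hd
    exact (le_sup_right : frattini S ≤ H ⊔ frattini S)
      (h.commutator_le_frattini' (commutator_mem_commutator (mem_top g) (mem_top d)))
  have hDinv : ∀ x ∈ H ⊔ frattini S, σ x ∈ H ⊔ frattini S := by
    have : H ⊔ frattini S ≤ (H ⊔ frattini S).comap σ.toMonoidHom := by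
      refine sup_le ?_ ?_
      · intro x hx
        exact (le_sup_left : H ≤ H ⊔ frattini S) (hinv x hx)
      · intro x hx
        exact (le_sup_right : frattini S ≤ H ⊔ frattini S) (h.char_inv _ x hx)
    exact fun x hx => this hx
  exact le_trans le_sup_left (h.normal_le_center _ hD hDinv)

theorem center_fix (h : SchAut p q σ) (hna : center S ≠ ⊤) {z : S} (hz : z ∈ center S) : σ z = z :=
  h.inv (center S) hna (h.char_inv _) z hz

theorem fix_center (h : SchAut p q σ) {z : S} (hz : σ z = z) : z ∈ center S := by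
  have hC : MonoidHom.eqLocus σ.toMonoidHom (MonoidHom.id S) ≠ ⊤ := by
    intro he
    apply h.ne
    ext y
    have : y ∈ MonoidHom.eqLocus σ.toMonoidHom (MonoidHom.id S) := by rw [he]; exact mem_top y
    exact this
  refine h.inv_le_center _ hC ?_ hz
  intro x hx
  have hx' : σ x = x := hx
  show σ (σ x) = σ x
  exact congrArg σ hx'

theorem center_le_commutator (h : SchAut p q σ) (hna : center S ≠ ⊤) : center S ≤ commutator S := by
  classical
  intro z hz
  let φ : S →* Abelianization S := Abelianization.of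
  let T : S →* Abelianization S := ∏ i ∈ Finset.range q, (φ.comp (σ ^ i).toMonoidHom)
  have hT : ∀ y, T y = ∏ i ∈ Finset.range q, φ ((σ ^ i) y) := by
    intro y
    simp only [T, MonoidHom.finsetProd_apply]
    rfl
  have hshift : ∀ y, T (σ y) = T y := by
    intro y
    rw [hT, hT]
    have h1 : ∀ i, φ ((σ ^ i) (σ y)) = φ ((σ ^ (i + 1)) y) := by
      intro i
      rw [pow_succ]
      rfl
    simp_rw [h1]
    have h2 := Finset.prod_range_succ (fun i => φ ((σ ^ i) y)) q
    have h3 := Finset.prod_range_succ' (fun i => φ ((σ ^ i) y)) q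
    rw [h.pow] at h2
    simp only [pow_zero] at h3
    exact mul_right_cancel (h3.symm.trans h2)
  have hker : ∀ y, T (σ y * y⁻¹) = 1 := by
    intro y
    rw [map_mul, map_inv, hshift]
    simp
  have htop : ∀ y, T y = 1 := by
    have hle : Subgroup.closure (Set.range fun y : S => σ y * y⁻¹) ≤ T.ker := by
      rw [closure_le]
      rintro _ ⟨y, rfl⟩
      exact hker y
    rw [h.gen_top] at hle
    intro y
    exact hle (mem_top y)
  have hzfix : σ z = z := h.center_fix hna hz
  have h4 : T z = φ z ^ q := by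
    rw [hT]
    have hi : ∀ i : ℕ, (σ ^ i) z = z := by
      intro i
      induction i with
      | zero => simp
      | succ i ih => rw [pow_succ, MulAut.mul_apply, hzfix, ih]
    simp [hi]
  have h5 : φ z ^ q = 1 := h4.symm.trans (htop z)
  have h6 : IsPGroup p (Abelianization S) :=
    h.pg.of_surjective φ (QuotientGroup.mk'_surjective _)
  have h7 := eq_one_of_pow_coprime h6 h.hp h.coprime_qp h5
  have h8 : z ∈ (Abelianization.of : S →* Abelianization S).ker := h7
  rwa [Abelianization.ker_of] at h8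

/-- Semi-extraspecial. -/
theorem semi (h : SchAut p q σ) {u : S} (hu : u ∉ center S) {z : S} (hz : z ∈ center S) :
    ∃ v, ⁅u, v⁆ = z := by
  have hna : center S ≠ ⊤ := fun e => hu (e ▸ mem_top u)
  let c : S →* S := MonoidHom.mk' (fun v => ⁅u, v⁆) (fun v w => comm_mul_right (h.comm_central u w))
  let N : Subgroup S :=
    { carrier := {n | ∀ w, ⁅n, w⁆ ∈ c.range}
      mul_mem' := by
        intro a b ha hb w
        show ⁅a * b, w⁆ ∈ c.range
        rw [comm_mul_left (h.comm_central b w)]
        exact mul_mem (ha w) (hb w)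
      one_mem' := by
        intro w
        simp
      inv_mem' := by
        intro a ha w
        have h1 : ⁅a * a⁻¹, w⁆ = ⁅a, w⁆ * ⁅a⁻¹, w⁆ := comm_mul_left (h.comm_central _ w)
        have h2 : ⁅a⁻¹, w⁆ = ⁅a, w⁆⁻¹ := by
          rw [mul_inv_cancel] at h1
          simp only [commutatorElement_one_left] at h1
          exact (inv_eq_of_mul_eq_one_right h1.symm).symm
        rw [h2]
        exact inv_mem (ha w) }
  have huN : u ∈ N := fun w => ⟨w, rfl⟩
  have hNinv : ∀ x ∈ N, σ x ∈ N := by
    intro x hx w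
    have h1 : ⁅σ x, w⁆ = σ ⁅x, σ⁻¹ w⁆ := by
      simp [commutatorElement_def]
    rw [h1, h.center_fix hna (h.comm_central _ _)]
    exact hx _
  have hNtop : N = ⊤ := by
    by_contra hne
    exact hu (h.inv_le_center N hne hNinv huN)
  have hle : commutator S ≤ c.range := by
    rw [_root_.commutator_def, Subgroup.commutator_le]
    intro a _ b _
    have : a ∈ N := hNtop ▸ mem_top a
    exact this b
  obtain ⟨v, hv⟩ := hle (h.center_le_commutator hna hz)
  exact ⟨v, hv⟩

theorem comm_pow_left (h : SchAut p q σ) (a b : S) (n : ℕ) : ⁅a ^ n, b⁆ = ⁅a, b⁆ ^ n := by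
  induction n with
  | zero => simp
  | succ n ih =>
    rw [pow_succ, comm_mul_left (h.comm_central a b), ih, pow_succ]

theorem comm_pow_eq_one (h : SchAut p q σ) (a b : S) : ⁅a, b⁆ ^ p = 1 := by
  rw [← h.comm_pow_left, commutatorElement_eq_one_iff_mul_comm]
  exact mem_center_iff.mp (h.pow_central a) b |>.symm

theorem center_exp (h : SchAut p q σ) (hna : center S ≠ ⊤) {z : S} (hz : z ∈ center S) : z ^ p = 1 := by
  have hz' := h.center_le_commutator hna hz
  rw [commutator_eq_closure] at hz'
  have key : ∀ z ∈ Subgroup.closure (commutatorSet S), z ∈ center S ∧ z ^ p = 1 := by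
    intro z hz'
    induction hz' using closure_induction with
    | mem x hx =>
      obtain ⟨a, b, rfl⟩ := hx
      exact ⟨h.comm_central _ _, h.comm_pow_eq_one _ _⟩
    | one => exact ⟨one_mem _, one_pow _⟩
    | mul x y _ _ hx hy =>
      refine ⟨mul_mem hx.1 hy.1, ?_⟩
      have hc : Commute x y := mem_center_iff.mp hx.1 y |>.symm
      rw [hc.mul_pow, hx.2, hy.2, one_mul]
    | inv x _ hx =>
      exact ⟨inv_mem hx.1, by rw [inv_pow, hx.2, inv_one]⟩
  exact (key z hz').2

theorem mem_center_of_gen (h : SchAut p q σ) (hna : center S ≠ ⊤) {y : S}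
    (hy : σ y ∈ zpowers y ⊔ center S) : y ∈ center S := by
  have hL : zpowers y ⊔ center S ≠ ⊤ := by
    intro he
    apply hna
    have hcomm : ∀ a b : S, a * b = b * a := by
      intro a b
      have ha : a ∈ zpowers y ⊔ center S := he ▸ mem_top a
      have hb : b ∈ zpowers y ⊔ center S := he ▸ mem_top b
      rw [mem_sup_of_normal_right] at ha hb
      obtain ⟨a₁, ⟨i, rfl⟩, z₁, hz₁, rfl⟩ := ha
      obtain ⟨b₁, ⟨j, rfl⟩, z₂, hz₂, rfl⟩ := hb
      have c1 := mem_center_iff.mp hz₁
      have c2 := mem_center_iff.mp hz₂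
      simp only at *
      calc y ^ i * z₁ * (y ^ j * z₂) = y ^ i * (z₁ * y ^ j) * z₂ := by group
        _ = y ^ i * (y ^ j * z₁) * z₂ := by rw [c1]
        _ = (y ^ i * y ^ j) * (z₁ * z₂) := by group
        _ = (y ^ j * y ^ i) * (z₂ * z₁) := by
          rw [(Commute.refl y).zpow_zpow i j |>.eq, c2 z₁]
        _ = y ^ j * (y ^ i * z₂) * z₁ := by group
        _ = y ^ j * (z₂ * y ^ i) * z₁ := by rw [c2]
        _ = y ^ j * z₂ * (y ^ i * z₁) := by group
    ext x
    simp only [mem_top, iff_true]
    exact mem_center_iff.mpr fun g => hcomm g x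
  have hinv : ∀ x ∈ zpowers y ⊔ center S, σ x ∈ zpowers y ⊔ center S := by
    have : zpowers y ⊔ center S ≤ (zpowers y ⊔ center S).comap σ.toMonoidHom := by
      refine sup_le ?_ ?_
      · rw [zpowers_le]
        exact hy
      · intro x hx
        show σ x ∈ zpowers y ⊔ center S
        rw [h.center_fix hna hx]
        exact (le_sup_right : center S ≤ zpowers y ⊔ center S) hx
    exact fun x hx => this hx
  exact h.inv_le_center _ hL hinv ((le_sup_left : zpowers y ≤ zpowers y ⊔ center S) (mem_zpowers y))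

theorem q_ne_two (h : SchAut p q σ) (hna : center S ≠ ⊤) : q ≠ 2 := by
  intro hq2
  apply hna
  have h2 : ∀ x, σ (σ x) = x := by
    intro x
    have := h.pow
    rw [hq2, pow_two] at this
    rw [← MulAut.mul_apply, this]
    rfl
  rw [eq_top_iff]
  intro u _
  have hw : u * σ u ∈ center S := by
    apply h.mem_center_of_gen hna
    have h1 : σ (u * σ u) = (u * σ u) * ⁅(σ u)⁻¹, u⁻¹⁆ := by
      rw [map_mul, h2]
      simp only [commutatorElement_def]
      group
    rw [h1]
    exact mul_mem ((le_sup_left : zpowers (u * σ u) ≤ zpowers (u * σ u) ⊔ center S) (mem_zpowers _))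
      ((le_sup_right : center S ≤ zpowers (u * σ u) ⊔ center S) (h.comm_central _ _))
  apply h.mem_center_of_gen hna
  have h3 : σ u = u⁻¹ * (u * σ u) := by group
  rw [h3]
  exact mul_mem ((le_sup_left : zpowers u ≤ zpowers u ⊔ center S) (inv_mem (mem_zpowers u)))
    ((le_sup_right : center S ≤ zpowers u ⊔ center S) hw)

theorem not_q3 (h : SchAut 2 q σ) (hq3 : q = 3) (hna : center S ≠ ⊤) {u : S} (hu : u ∉ center S)
    (hu2 : u ^ 2 = 1) : False := by
  subst hq3
  have h3 : ∀ x, σ (σ (σ x)) = x := by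
    intro x
    have hx : (σ ^ 3) x = x := by rw [h.pow]; rfl
    rw [pow_three] at hx
    exact hx
  obtain ⟨v, hv⟩ : ∃ v, v = σ u := ⟨_, rfl⟩
  obtain ⟨w, hw⟩ : ∃ w, w = σ v := ⟨_, rfl⟩
  have hσw : σ w = u := by rw [hw, hv]; exact h3 u
  have hv2 : v ^ 2 = 1 := by rw [hv, ← map_pow, hu2, map_one]
  have hw2 : w ^ 2 = 1 := by rw [hw, ← map_pow, hv2, map_one]
  have hy : u * v * w ∈ center S := by
    apply h.mem_center_of_gen hna
    have h1 : σ (u * v * w) = (u * v * w) * ⁅(u * v * w)⁻¹, u⁻¹⁆ := by
      rw [map_mul, map_mul, ← hv, ← hw, hσw, hv, hw]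
      simp only [commutatorElement_def]
      group
    rw [h1]
    exact mul_mem ((le_sup_left : zpowers (u * v * w) ≤ zpowers (u * v * w) ⊔ center S) (mem_zpowers _))
      ((le_sup_right : center S ≤ zpowers (u * v * w) ⊔ center S) (h.comm_central _ _))
  obtain ⟨y, hydef⟩ : ∃ y, y = u * v * w := ⟨_, rfl⟩
  rw [← hydef] at hy
  have hy2 : y ^ 2 = 1 := h.center_exp hna hy
  have hui : u⁻¹ = u := by rw [inv_eq_iff_mul_eq_one, ← pow_two, hu2]
  have hvi : v⁻¹ = v := by rw [inv_eq_iff_mul_eq_one, ← pow_two, hv2]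
  have hwy : w = v * u * y := by
    rw [hydef]
    calc w = v⁻¹ * u⁻¹ * (u * v * w) := by group
      _ = v * u * (u * v * w) := by rw [hui, hvi]
  have hcomm : v * u = u * v := by
    have h1 : w ^ 2 = (v * u) ^ 2 * y ^ 2 := by
      have c : Commute (v * u) y := mem_center_iff.mp hy (v * u)
      rw [hwy, c.mul_pow]
    rw [hw2, hy2, mul_one, pow_two] at h1
    have h2 : v * u = (v * u)⁻¹ := by
      rw [eq_inv_iff_mul_eq_one]
      exact h1.symm
    rw [h2, mul_inv_rev, hui, hvi]
  let L : Subgroup S := Subgroup.closure {u, v} ⊔ center S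
  have hLinv : ∀ x ∈ L, σ x ∈ L := by
    have : L ≤ L.comap σ.toMonoidHom := by
      refine sup_le ?_ ?_
      · rw [closure_le]
        rintro x (rfl | hx)
        · show σ x ∈ L
          rw [← hv]
          exact (le_sup_left : Subgroup.closure {x, v} ≤ L) (Subgroup.subset_closure (by simp))
        · rw [Set.mem_singleton_iff] at hx
          subst hx
          show σ x ∈ L
          rw [← hw, hwy]
          refine mul_mem (mul_mem ?_ ?_) ?_
          · exact (le_sup_left : Subgroup.closure {u, x} ≤ L) (Subgroup.subset_closure (by simp))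
          · exact (le_sup_left : Subgroup.closure {u, x} ≤ L) (Subgroup.subset_closure (by simp))
          · exact (le_sup_right : center S ≤ L) hy
      · intro x hx
        show σ x ∈ L
        rw [h.center_fix hna hx]
        exact (le_sup_right : center S ≤ L) hx
    exact fun x hx => this hx
  have huL : u ∈ L := (le_sup_left : Subgroup.closure {u, v} ≤ L) (Subgroup.subset_closure (by simp))
  have hLtop : L = ⊤ := by
    by_contra hne
    exact hu (h.inv_le_center L hne hLinv huL)
  have hLc : L ≤ centralizer ({u} : Set S) := by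
    refine sup_le ?_ ?_
    · rw [closure_le]
      rintro x (rfl | hx)
      · rw [SetLike.mem_coe, mem_centralizer_singleton_iff]
      · rw [Set.mem_singleton_iff] at hx
        subst hx
        rw [SetLike.mem_coe, mem_centralizer_singleton_iff]
        exact hcomm
    · intro x hx
      rw [mem_centralizer_singleton_iff]
      exact (mem_center_iff.mp hx u).symm
  apply hu
  rw [mem_center_iff]
  intro g
  have := hLc (hLtop ▸ mem_top g : g ∈ L)
  rw [mem_centralizer_singleton_iff] at this
  exact this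

theorem card_eq_cube (h : SchAut p q σ) (hna : center S ≠ ⊤) (hZ : Nat.card (center S) = p)
    (hS : Nat.card S ≤ p ^ 3) : Nat.card S = p ^ 3 := by
  haveI := h.fact
  have hpp := h.hp
  obtain ⟨n, hn⟩ := IsPGroup.iff_card.mp h.pg
  have hle : n ≤ 3 := by
    rw [hn] at hS
    exact (Nat.pow_le_pow_iff_right hpp.one_lt).mp hS
  have hidx : (center S).index * p = p ^ n := by
    rw [← hn, ← hZ, mul_comm, Subgroup.card_mul_index]
  have hge : 3 ≤ n := by
    by_contra hlt
    have hn2 : n ≤ 2 := by omega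
    have hidx2 : (center S).index ∣ p := by
      have h1 : (center S).index * p ∣ p * p := by
        rw [hidx, ← pow_two]
        exact pow_dvd_pow p hn2
      exact Nat.dvd_of_mul_dvd_mul_right hpp.pos h1
    have hcyc : IsCyclic (S ⧸ center S) := by
      rcases (Nat.dvd_prime hpp).mp hidx2 with h1 | h1
      · rw [Subgroup.index_eq_one] at h1
        exact absurd h1 hna
      · haveI : Fact (Nat.card (S ⧸ center S)).Prime := ⟨by rw [← Subgroup.index_eq_card, h1]; exact hpp⟩
        exact isCyclic_of_prime_card rfl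
    have hc := commutative_of_cyclic_center_quotient (QuotientGroup.mk' (center S))
      (by rw [QuotientGroup.ker_mk'])
    apply hna
    ext x
    simp only [mem_top, iff_true]
    exact mem_center_iff.mpr fun g => hc g x
  rw [hn, show n = 3 by omega]

/-- The small cases. -/
theorem small (h : SchAut p q σ) (hna : center S ≠ ⊤) (hZ : Nat.card (center S) = p)
    (hS : Nat.card S ≤ p ^ 3) {u : S} (hu : u ∉ center S) (hup : u ^ p = 1) : 5 ≤ p := by
  classical
  have hpp := h.hp
  have hq := h.hq
  have hcard := h.card_eq_cube hna hZ hS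
  haveI : Fact q.Prime := ⟨hq⟩
  haveI := Fintype.ofFinite S
  have hmod : Fintype.card S ≡ Fintype.card (Function.fixedPoints (σ : S → S)) [MOD q] := by
    let f : Function.End S := (σ : S → S)
    have hfn : ∀ n : ℕ, ∀ x, (f ^ n : Function.End S) x = (σ ^ n) x := by
      intro n
      induction n with
      | zero =>
        intro x
        rw [pow_zero, pow_zero]
        rfl
      | succ n ih =>
        intro x
        rw [pow_succ', pow_succ']
        show f ((f ^ n : Function.End S) x) = σ ((σ ^ n) x)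
        rw [ih x]
    have hf : f ^ q ^ 1 = 1 := by
      rw [pow_one]
      refine funext fun x => ?_
      rw [hfn, h.pow]
      rfl
    exact Equiv.Perm.card_fixedPoints_modEq (α := S) (f := f) (p := q) (n := 1) hf
  have hfixcard : Fintype.card (Function.fixedPoints (σ : S → S)) = p := by
    rw [← Nat.card_eq_fintype_card, ← hZ]
    apply Nat.card_congr
    exact Equiv.subtypeEquivRight fun x => ⟨fun hx => h.fix_center hx, fun hx => h.center_fix hna hx⟩
  rw [hfixcard, ← Nat.card_eq_fintype_card, hcard] at hmod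
  have hdvd : q ∣ p ^ 3 - p := (Nat.modEq_iff_dvd' (Nat.le_self_pow (by norm_num) p)).mp hmod.symm
  have hq2 := h.q_ne_two hna
  have hp2 : p ≠ 2 := by
    intro hp2
    subst hp2
    have hq6 : q ∣ 6 := by simpa using hdvd
    have hq3 : q = 3 := by
      have : q ∣ 2 * 3 := by simpa using hq6
      rcases (Nat.Prime.dvd_mul hq).mp this with h1 | h1
      · exact absurd ((Nat.prime_dvd_prime_iff_eq hq Nat.prime_two).mp h1) hq2
      · exact (Nat.prime_dvd_prime_iff_eq hq Nat.prime_three).mp h1
    exact h.not_q3 hq3 hna hu hup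
  have hp3 : p ≠ 3 := by
    intro hp3
    subst hp3
    have hq24 : q ∣ 24 := by simpa using hdvd
    have : q ∣ 2 ^ 3 * 3 := by simpa using hq24
    rcases (Nat.Prime.dvd_mul hq).mp this with h1 | h1
    · exact hq2 ((Nat.prime_dvd_prime_iff_eq hq Nat.prime_two).mp (hq.dvd_of_dvd_pow h1))
    · exact h.hpq ((Nat.prime_dvd_prime_iff_eq hq Nat.prime_three).mp h1).symm
  have h4 : p ≠ 4 := by
    intro h4
    subst h4
    exact absurd hpp (by norm_num)
  have h2le := hpp.two_le
  omega

end SchAut

end Cfsg.Agent.Lib.ClassSizes.Sch
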