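import Mathlib
import Cfsg.Agent.Lib.ClassSizes.SchA

/-!
# Quadratic action on a `p`-group of Schmidt type
-/

set_option autoImplicit false

namespace Cfsg.Agent.Lib.ClassSizes.Sch

open Subgroup

variable {G : Type*} [Group G] {p : ℕ}

section SL2

variable [Fact p.Prime]

/-- Coordinates. -/
def EE (z₁ z₂ : G) (α β : ZMod p) : G := z₁ ^ α.val * z₂ ^ β.val

theorem pow_val_of_cast {z : G} (hz : z ^ p = 1) (n : ℕ) (γ : ZMod p) (h : (n : ZMod p) = γ) :
    z ^ n = z ^ γ.val := by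
  rw [← h, ZMod.val_natCast, pow_eq_pow_mod n hz]

theorem cj_mul (a b v : G) : (a * b) * v * (a * b)⁻¹ = a * (b * v * b⁻¹) * a⁻¹ := by group

theorem cj_hom (g v w : G) : g * (v * w) * g⁻¹ = (g * v * g⁻¹) * (g * w * g⁻¹) := by group

/-- Two transvections with distinct centres in a group with a normal `p'`-subgroup. -/
theorem no_sl2 [Finite G] (hp5 : 5 ≤ p) {R₁ : Subgroup G} (hcop : (Nat.card R₁).Coprime p) {x r z₁ z₂ : G}
    (hr : r ∈ R₁) (hxR : ∀ g ∈ R₁, x * g * x⁻¹ ∈ R₁) (hz₁ : z₁ ^ p = 1) (hz₂ : z₂ ^ p = 1)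
    (hzc : z₁ * z₂ = z₂ * z₁) (hz1 : z₁ ≠ 1) {s t : ZMod p} (hs : s ≠ 0) (ht : t ≠ 0)
    (h1 : x * z₁ * x⁻¹ = z₁) (h2 : x * z₂ * x⁻¹ = z₁ ^ s.val * z₂)
    (h3 : (r * x * r⁻¹) * z₂ * (r * x * r⁻¹)⁻¹ = z₂)
    (h4 : (r * x * r⁻¹) * z₁ * (r * x * r⁻¹)⁻¹ = z₁ * z₂ ^ t.val) : False := by
  classical
  have hp : p.Prime := Fact.out
  have hcz : Commute z₁ z₂ := hzc
  obtain ⟨x', hx'⟩ : ∃ x', x' = r * x * r⁻¹ := ⟨_, rfl⟩
  rw [← hx'] at h3 h4
  let E : ZMod p → ZMod p → G := EE z₁ z₂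
  have hE : ∀ α β, E α β = z₁ ^ α.val * z₂ ^ β.val := fun _ _ => rfl
  -- conjugation by `x`
  have hconj : ∀ (g : G), ∀ n : ℕ, ∀ v : G, g * v ^ n * g⁻¹ = (g * v * g⁻¹) ^ n := by
    intro g n v
    simp [conj_pow]
  have hzn : ∀ (z : G), z ^ p = 1 → ∀ (a b : ℕ) (γ : ZMod p), ((a + b : ℕ) : ZMod p) = γ →
      z ^ a * z ^ b = z ^ γ.val := by
    intro z hz a b γ hγ
    rw [← pow_add]
    exact pow_val_of_cast hz _ _ hγ
  have hx : ∀ α β, x * E α β * x⁻¹ = E (α + s * β) β := by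
    intro α β
    rw [hE, hE, cj_hom, hconj, hconj, h1, h2]
    have hc : Commute (z₁ ^ s.val) z₂ := hcz.pow_left _
    rw [hc.mul_pow, ← pow_mul, ← mul_assoc]
    congr 1
    apply hzn z₁ hz₁
    simp
  have hx'' : ∀ α β, x' * E α β * x'⁻¹ = E α (β + t * α) := by
    intro α β
    rw [hE, hE, cj_hom, hconj, hconj, h3, h4]
    have hc : Commute z₁ (z₂ ^ t.val) := hcz.pow_right _
    rw [hc.mul_pow, ← pow_mul, mul_assoc]
    congr 1
    rw [← pow_add]
    apply pow_val_of_cast hz₂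
    simp [add_comm]
  have hxn : ∀ n : ℕ, ∀ α β, x ^ n * E α β * (x ^ n)⁻¹ = E (α + n * (s * β)) β := by
    intro n
    induction n with
    | zero => intro α β; simp
    | succ n ih =>
      intro α β
      rw [pow_succ', cj_mul, ih, hx]
      congr 1
      push_cast
      ring
  have hxn' : ∀ n : ℕ, ∀ α β, x' ^ n * E α β * (x' ^ n)⁻¹ = E α (β + n * (t * α)) := by
    intro n
    induction n with
    | zero => intro α β; simp
    | succ n ih =>
      intro α β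
      rw [pow_succ', cj_mul, ih, hx'']
      congr 1
      push_cast
      ring
  -- the Weyl elements
  have hW : ∀ lam : ZMod p, lam ≠ 0 → ∃ g : G, (∃ l e : ℕ, g = x ^ l * x' ^ e * x ^ l) ∧
      ∀ α β, g * E α β * g⁻¹ = E (lam * β) (-α / lam) := by
    intro lam hlam
    refine ⟨x ^ (lam / s).val * x' ^ (-1 / lam / t).val * x ^ (lam / s).val,
      ⟨_, _, rfl⟩, ?_⟩
    intro α β
    rw [cj_mul, cj_mul, hxn, hxn', hxn]
    simp only [ZMod.natCast_val, ZMod.cast_id', id_eq]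
    congr 1
    · field_simp
      ring
    · field_simp
      ring
  have h2ne : (2 : ZMod p) ≠ 0 := by
    intro h
    have : ((2 : ℕ) : ZMod p) = 0 := by exact_mod_cast h
    rw [ZMod.natCast_eq_zero_iff] at this
    have := Nat.le_of_dvd (by norm_num) this
    omega
  have h3ne : (3 : ZMod p) ≠ 0 := by
    intro h
    have : ((3 : ℕ) : ZMod p) = 0 := by exact_mod_cast h
    rw [ZMod.natCast_eq_zero_iff] at this
    have := Nat.le_of_dvd (by norm_num) this
    omega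
  obtain ⟨g₂, ⟨l₂, e₂, hg₂⟩, hg₂E⟩ := hW 2 h2ne
  obtain ⟨g₁, ⟨l₁, e₁, hg₁⟩, hg₁E⟩ := hW (-1) (neg_ne_zero.mpr one_ne_zero)
  -- `d = diag(2, 1/2)`
  obtain ⟨d, hd⟩ : ∃ d, d = g₂ * g₁ := ⟨_, rfl⟩
  have hdE : ∀ α β, d * E α β * d⁻¹ = E (2 * α) (β / 2) := by
    intro α β
    rw [hd, cj_mul, hg₁E, hg₂E]
    congr 1
    · field_simp
    · field_simp
  -- the subgroup-like property
  let Good : G → Prop := fun g => (∀ h ∈ R₁, g * h * g⁻¹ ∈ R₁) ∧ g * x * g⁻¹ * x⁻¹ ∈ R₁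
  have good_one : Good 1 := ⟨fun h hh => by simpa using hh, by simp [R₁.one_mem]⟩
  have good_mul : ∀ a b, Good a → Good b → Good (a * b) := by
    intro a b ha hb
    refine ⟨fun h hh => ?_, ?_⟩
    · rw [cj_mul]
      exact ha.1 _ (hb.1 _ hh)
    · have : (a * b) * x * (a * b)⁻¹ * x⁻¹ = (a * (b * x * b⁻¹ * x⁻¹) * a⁻¹) * (a * x * a⁻¹ * x⁻¹) := by
        group
      rw [this]
      exact mul_mem (ha.1 _ hb.2) ha.2
  have good_pow : ∀ a, Good a → ∀ n : ℕ, Good (a ^ n) := by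
    intro a ha n
    induction n with
    | zero => simpa using good_one
    | succ n ih =>
      rw [pow_succ]
      exact good_mul _ _ ih ha
  have good_x : Good x := ⟨hxR, by simp [R₁.one_mem]⟩
  have good_x' : Good x' := by
    have htt : x' * x⁻¹ ∈ R₁ := by
      have : x' * x⁻¹ = r * (x * r⁻¹ * x⁻¹) := by rw [hx']; group
      rw [this]
      exact mul_mem hr (hxR _ (inv_mem hr))
    refine ⟨fun h hh => ?_, ?_⟩
    · have : x' * h * x'⁻¹ = r * (x * (r⁻¹ * h * r) * x⁻¹) * r⁻¹ := by rw [hx']; group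
      rw [this]
      refine mul_mem (mul_mem hr (hxR _ ?_)) (inv_mem hr)
      exact mul_mem (mul_mem (inv_mem hr) hh) hr
    · have : x' * x * x'⁻¹ * x⁻¹ = (x' * x⁻¹) * (x * (x' * x⁻¹)⁻¹ * x⁻¹) := by group
      rw [this]
      exact mul_mem htt (hxR _ (inv_mem htt))
  have good_d : Good d := by
    rw [hd, hg₂, hg₁]
    exact good_mul _ _
      (good_mul _ _ (good_mul _ _ (good_pow _ good_x _) (good_pow _ good_x' _)) (good_pow _ good_x _))
      (good_mul _ _ (good_mul _ _ (good_pow _ good_x _) (good_pow _ good_x' _)) (good_pow _ good_x _))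
  -- the element
  obtain ⟨y, hy⟩ : ∃ y, y = d * x * d⁻¹ * x⁻¹ := ⟨_, rfl⟩
  have hyR : y ∈ R₁ := hy ▸ good_d.2
  have hxinv : ∀ α β, x⁻¹ * E α β * x = E (α - s * β) β := by
    intro α β
    have := hx (α - s * β) β
    rw [sub_add_cancel] at this
    rw [← this]
    group
  have hdinv : ∀ α β, d⁻¹ * E α β * d = E (α / 2) (2 * β) := by
    intro α β
    have := hdE (α / 2) (2 * β)
    have e1 : 2 * (α / 2) = α := by field_simp
    have e2 : 2 * β / 2 = β := by field_simp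
    rw [e1, e2] at this
    rw [← this]
    group
  have hyE : ∀ α β, y * E α β * y⁻¹ = E (α + 3 * (s * β)) β := by
    intro α β
    have e : y * E α β * y⁻¹ = d * (x * (d⁻¹ * (x⁻¹ * E α β * x) * d) * x⁻¹) * d⁻¹ := by
      rw [hy]; group
    rw [e, hxinv, hdinv, hx, hdE]
    congr 1
    · field_simp
      ring
    · field_simp
  have hyn : ∀ n : ℕ, ∀ α β, y ^ n * E α β * (y ^ n)⁻¹ = E (α + n * (3 * (s * β))) β := by
    intro n
    induction n with
    | zero => intro α β; simp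
    | succ n ih =>
      intro α β
      rw [pow_succ', cj_mul, ih, hyE]
      congr 1
      push_cast
      ring
  have hone : orderOf y ≠ 0 := (orderOf_pos y).ne'
  have hco : (orderOf y).Coprime p := by
    have h5 : orderOf y ∣ Nat.card R₁ := by
      have := Subgroup.orderOf_dvd_natCard R₁ hyR
      exact this
    exact Nat.Coprime.coprime_dvd_left h5 hcop
  have h6 := hyn (orderOf y) 0 1
  rw [pow_orderOf_eq_one] at h6
  simp only [one_mul, inv_one, mul_one, zero_add] at h6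
  -- evaluate
  obtain ⟨γ, hγ⟩ : ∃ γ : ZMod p, γ = (orderOf y : ZMod p) * (3 * s) := ⟨_, rfl⟩
  rw [← hγ] at h6
  have hγ0 : γ ≠ 0 := by
    rw [hγ]
    refine mul_ne_zero ?_ (mul_ne_zero h3ne hs)
    rw [Ne, ZMod.natCast_eq_zero_iff]
    intro hdvd
    have := Nat.Coprime.eq_one_of_dvd hco.symm hdvd
    exact hp.one_lt.ne' this
  rw [hE, hE] at h6
  simp only [ZMod.val_zero, pow_zero, one_mul] at h6
  have h7 : z₁ ^ γ.val = 1 := mul_right_cancel (h6.symm.trans (one_mul _).symm)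
  have hord : orderOf z₁ = p := orderOf_eq_prime hz₁ hz1
  have h8 : p ∣ γ.val := by
    have := orderOf_dvd_of_pow_eq_one h7
    rwa [hord] at this
  have h9 : γ.val = 0 := Nat.eq_zero_of_dvd_of_lt h8 (ZMod.val_lt γ)
  exact hγ0 ((ZMod.val_eq_zero γ).mp h9)

end SL2

end Cfsg.Agent.Lib.ClassSizes.Sch
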