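import Mathlib
import Cfsg.Agent.Lib.ClassSizes.SchB

/-!
# Quadratic action on a `p`-group of Schmidt type: the action lemma
-/

set_option autoImplicit false

namespace Cfsg.Agent.Lib.ClassSizes.Sch

open Subgroup

variable {G : Type*} [Group G] {p : ℕ}

/-- The structure of a subgroup of Schmidt type. -/
structure SL (p : ℕ) (T Z : Subgroup G) : Prop where
  ZT : Z ≤ T
  zc : ∀ z ∈ Z, ∀ t ∈ T, z * t = t * z
  zm : ∀ z ∈ T, (∀ t ∈ T, z * t = t * z) → z ∈ Z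
  cm : ∀ x ∈ T, ∀ y ∈ T, x * y * x⁻¹ * y⁻¹ ∈ Z
  pw : ∀ x ∈ T, x ^ p ∈ Z
  semi : ∀ u ∈ T, u ∉ Z → ∀ z ∈ Z, ∃ v ∈ T, u * v * u⁻¹ * v⁻¹ = z
  small : ∀ u ∈ T, u ∉ Z → u ^ p = 1 → Nat.card T ≤ p ^ 3 → Nat.card Z = p → 5 ≤ p

theorem triv_lemma [Finite G] (hp : p.Prime) {K₁ W : Subgroup G} (hWp : IsPGroup p W) {r x : G}
    (hKx : ∀ k ∈ K₁, x⁻¹ * k * x ∈ K₁) (hKr : ∀ k ∈ K₁, r⁻¹ * k * r ∈ K₁)
    (hWr : ∀ w ∈ W, r * w * r⁻¹ ∈ W) (hWr' : ∀ w ∈ W, r⁻¹ * w * r ∈ W)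
    (hWx : ∀ w ∈ W, x * w = w * x) (hKW : ∀ k ∈ K₁, x * k * x⁻¹ * k⁻¹ ∈ W)
    (hc : (orderOf (r * x * r⁻¹ * x⁻¹)).Coprime p) :
    ∀ k ∈ K₁, (r * x * r⁻¹ * x⁻¹) * k = k * (r * x * r⁻¹ * x⁻¹) := by
  obtain ⟨c, hcdef⟩ : ∃ c, c = r * x * r⁻¹ * x⁻¹ := ⟨_, rfl⟩
  rw [← hcdef] at hc ⊢
  have hcW : ∀ w ∈ W, c * w * c⁻¹ = w := by
    intro w hw
    have h1 : x⁻¹ * w * x = w := by rw [mul_assoc, inv_mul_eq_iff_eq_mul, hWx w hw]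
    have h2 := hWx _ (hWr' w hw)
    calc c * w * c⁻¹ = r * x * (r⁻¹ * (x⁻¹ * w * x) * r) * x⁻¹ * r⁻¹ := by rw [hcdef]; group
      _ = r * (x * (r⁻¹ * w * r)) * x⁻¹ * r⁻¹ := by rw [h1]; group
      _ = r * ((r⁻¹ * w * r) * x) * x⁻¹ * r⁻¹ := by rw [h2]
      _ = w := by group
  have hcK : ∀ k ∈ K₁, ∃ w ∈ W, c * k * c⁻¹ = w * k := by
    intro k hk
    have hk₁ := hKx k hk
    obtain ⟨k₁, hk₁d⟩ : ∃ k₁, k₁ = x⁻¹ * k * x := ⟨_, rfl⟩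
    rw [← hk₁d] at hk₁
    have hw₁ := hKW k₁ hk₁
    obtain ⟨w₁, hw₁d⟩ : ∃ w₁, w₁ = x * k₁ * x⁻¹ * k₁⁻¹ := ⟨_, rfl⟩
    rw [← hw₁d] at hw₁
    have hk₃ := hKr k hk
    obtain ⟨k₃, hk₃d⟩ : ∃ k₃, k₃ = r⁻¹ * k * r := ⟨_, rfl⟩
    rw [← hk₃d] at hk₃
    have hw₃ := hKW k₃ hk₃
    obtain ⟨w₃, hw₃d⟩ : ∃ w₃, w₃ = x * k₃ * x⁻¹ * k₃⁻¹ := ⟨_, rfl⟩
    rw [← hw₃d] at hw₃
    have hw₂ := hWr' _ (inv_mem hw₁)
    obtain ⟨w₂, hw₂d⟩ : ∃ w₂, w₂ = r⁻¹ * w₁⁻¹ * r := ⟨_, rfl⟩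
    rw [← hw₂d] at hw₂
    have hkk : k = w₁ * k₁ := by rw [hw₁d, hk₁d]; group
    have hk1' : r⁻¹ * k₁ * r = w₂ * k₃ := by
      rw [hw₂d, hk₃d]
      have : k₁ = w₁⁻¹ * k := by rw [hkk]; group
      rw [this]
      group
    have hxk₃ : x * k₃ * x⁻¹ = w₃ * k₃ := by rw [hw₃d]; group
    have hxw₂ : x * w₂ * x⁻¹ = w₂ := by rw [hWx w₂ hw₂]; group
    refine ⟨r * (w₂ * w₃) * r⁻¹, hWr _ (mul_mem hw₂ hw₃), ?_⟩
    have e1 : c * k * c⁻¹ = r * (x * (r⁻¹ * (x⁻¹ * k * x) * r) * x⁻¹) * r⁻¹ := by rw [hcdef]; group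
    rw [e1, ← hk₁d, hk1']
    have e2 : x * (w₂ * k₃) * x⁻¹ = (x * w₂ * x⁻¹) * (x * k₃ * x⁻¹) := by group
    rw [e2, hxw₂, hxk₃, hk₃d]
    group
  intro k hk
  obtain ⟨w, hw, hwk⟩ := hcK k hk
  have hpow : ∀ n : ℕ, c ^ n * k * (c ^ n)⁻¹ = w ^ n * k := by
    intro n
    induction n with
    | zero => simp
    | succ n ih =>
      have e : c ^ (n + 1) * k * (c ^ (n + 1))⁻¹ = c * (c ^ n * k * (c ^ n)⁻¹) * c⁻¹ := by
        rw [pow_succ']; group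
      rw [e, ih]
      have e2 : c * (w ^ n * k) * c⁻¹ = (c * w ^ n * c⁻¹) * (c * k * c⁻¹) := by group
      have e3 : c * w ^ n * c⁻¹ = w ^ n := by rw [← conj_pow, hcW w hw]
      rw [e2, e3, hwk, pow_succ, mul_assoc]
  have h1 := hpow (orderOf c)
  rw [pow_orderOf_eq_one] at h1
  simp only [one_mul, inv_one, mul_one] at h1
  have h2 : w ^ orderOf c = 1 := by
    have : w ^ orderOf c * k = 1 * k := by rw [← h1, one_mul]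
    exact mul_right_cancel this
  have h3 : (⟨w, hw⟩ : W) ^ orderOf c = 1 := Subtype.ext (by simpa using h2)
  have h4 := eq_one_of_pow_coprime hWp hp hc h3
  have hw1 : w = 1 := congrArg Subtype.val h4
  rw [hw1, one_mul] at hwk
  calc c * k = (c * k * c⁻¹) * c := by group
    _ = k * c := by rw [hwk]

theorem action_trivial [Finite G] [Fact p.Prime] {T Z K₁ R₁ : Subgroup G} {x : G} (hS : SL p T Z)
    (hTp : IsPGroup p T) (hK₁T : K₁ ≤ T) (hZK : Z ≤ K₁) (hxT : x ∈ T)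
    (hgen : ∀ t ∈ T, ∃ k ∈ K₁, ∃ i : ℕ, t = k * x ^ i)
    (hRK : ∀ r ∈ R₁, ∀ k ∈ K₁, r * k * r⁻¹ ∈ K₁)
    (hxR : ∀ r ∈ R₁, x * r * x⁻¹ ∈ R₁)
    (hfaith : ∀ r ∈ R₁, (∀ k ∈ K₁, r * k = k * r) → r = 1)
    (hcop : (Nat.card R₁).Coprime p) {r : G} (hr : r ∈ R₁) : r * x = x * r := by
  classical
  have hp : p.Prime := Fact.out
  have hZp : IsPGroup p Z := hTp.to_le hS.ZT
  have hxK : ∀ k ∈ K₁, x⁻¹ * k * x ∈ K₁ := by
    intro k hk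
    have h1 := hS.cm x⁻¹ (inv_mem hxT) k (hK₁T hk)
    have h2 : x⁻¹ * k * x = (x⁻¹ * k * x⁻¹⁻¹ * k⁻¹) * k := by group
    rw [h2]
    exact mul_mem (hZK h1) hk
  have hKr : ∀ k ∈ K₁, r⁻¹ * k * r ∈ K₁ := by
    intro k hk
    simpa using hRK r⁻¹ (inv_mem hr) k hk
  have hcR : r * x * r⁻¹ * x⁻¹ ∈ R₁ := by
    have : r * x * r⁻¹ * x⁻¹ = r * (x * r⁻¹ * x⁻¹) := by group
    rw [this]
    exact mul_mem hr (hxR _ (inv_mem hr))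
  have hco : (orderOf (r * x * r⁻¹ * x⁻¹)).Coprime p :=
    Nat.Coprime.coprime_dvd_left (Subgroup.orderOf_dvd_natCard R₁ hcR) hcop
  have hdone : (∀ k ∈ K₁, (r * x * r⁻¹ * x⁻¹) * k = k * (r * x * r⁻¹ * x⁻¹)) → r * x = x * r := by
    intro h
    have h1 := hfaith _ hcR h
    have : r * x = (r * x * r⁻¹ * x⁻¹) * (x * r) := by group
    rw [this, h1, one_mul]
  have hZcase : (∀ z ∈ Z, r * z * r⁻¹ ∈ Z) → (∀ z ∈ Z, r⁻¹ * z * r ∈ Z) → r * x = x * r := by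
    intro h1 h2
    exact hdone (triv_lemma hp hZp hxK hKr h1 h2 (fun w hw => (hS.zc w hw x hxT).symm)
      (fun k hk => hS.cm x hxT k (hK₁T hk)) hco)
  by_contra hne
  have hZr : ¬ ((∀ z ∈ Z, r * z * r⁻¹ ∈ Z) ∧ (∀ z ∈ Z, r⁻¹ * z * r ∈ Z)) :=
    fun h => hne (hZcase h.1 h.2)
  have hZmem : ∀ k ∈ K₁, (∀ k' ∈ K₁, k * k' = k' * k) → k * x = x * k → k ∈ Z := by
    intro k hk h1 h2
    apply hS.zm k (hK₁T hk)
    intro t ht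
    obtain ⟨k', hk', i, rfl⟩ := hgen t ht
    have h3 : Commute k (x ^ i) := (show Commute k x from h2).pow_right i
    calc k * (k' * x ^ i) = (k * k') * x ^ i := by group
      _ = k' * (k * x ^ i) := by rw [h1 k' hk', mul_assoc]
      _ = k' * (x ^ i * k) := by rw [h3.eq]
      _ = k' * x ^ i * k := by group
  have hY : ∃ u ∈ K₁, (∀ k ∈ K₁, u * k = k * u) ∧ u * x ≠ x * u := by
    by_contra hno
    push Not at hno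
    apply hZr
    have hcomm : ∀ g ∈ R₁, ∀ z ∈ Z, ∀ k' ∈ K₁, g * z * g⁻¹ * k' = k' * (g * z * g⁻¹) := by
      intro g hg z hz k' hk'
      have h1 : g⁻¹ * k' * g ∈ K₁ := by simpa using hRK g⁻¹ (inv_mem hg) k' hk'
      have h2 := hS.zc z hz _ (hK₁T h1)
      calc g * z * g⁻¹ * k' = g * (z * (g⁻¹ * k' * g)) * g⁻¹ := by group
        _ = g * ((g⁻¹ * k' * g) * z) * g⁻¹ := by rw [h2]
        _ = _ := by group
    have key : ∀ g ∈ R₁, ∀ z ∈ Z, g * z * g⁻¹ ∈ Z := by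
      intro g hg z hz
      have h1 : g * z * g⁻¹ ∈ K₁ := hRK g hg z (hZK hz)
      exact hZmem _ h1 (hcomm g hg z hz) (hno _ h1 (hcomm g hg z hz))
    exact ⟨key r hr, by simpa using key r⁻¹ (inv_mem hr)⟩
  obtain ⟨u, huK, huc, hux⟩ := hY
  have huT := hK₁T huK
  have huZ : u ∉ Z := fun h => hux (hS.zc u h x hxT)
  obtain ⟨z₀, hz₀⟩ : ∃ z₀, z₀ = u * x * u⁻¹ * x⁻¹ := ⟨_, rfl⟩
  have hz₀Z : z₀ ∈ Z := hz₀ ▸ hS.cm u huT x hxT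
  have hz₀1 : z₀ ≠ 1 := by
    intro h
    apply hux
    have : u * x = (u * x * u⁻¹ * x⁻¹) * (x * u) := by group
    rw [this, ← hz₀, h, one_mul]
  have hzt : ∀ i : ℕ, ∀ t ∈ T, z₀ ^ i * t = t * z₀ ^ i := by
    intro i t ht
    exact hS.zc _ (pow_mem hz₀Z i) t ht
  have hpowx : ∀ i : ℕ, u * x ^ i * u⁻¹ * (x ^ i)⁻¹ = z₀ ^ i := by
    intro i
    induction i with
    | zero => simp
    | succ i ih =>
      have e : u * x ^ (i + 1) * u⁻¹ * (x ^ (i + 1))⁻¹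
          = (u * x ^ i * u⁻¹ * (x ^ i)⁻¹) * (x ^ i * (u * x * u⁻¹ * x⁻¹) * (x ^ i)⁻¹) := by
        rw [pow_succ]; group
      rw [e, ih, ← hz₀]
      have h1 := hS.zc z₀ hz₀Z (x ^ i) (pow_mem hxT i)
      rw [← h1, pow_succ]
      group
  have hpowu : ∀ n : ℕ, u ^ n * x * (u ^ n)⁻¹ * x⁻¹ = z₀ ^ n := by
    intro n
    induction n with
    | zero => simp
    | succ n ih =>
      have e : u ^ (n + 1) * x * (u ^ (n + 1))⁻¹ * x⁻¹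
          = u * (u ^ n * x * (u ^ n)⁻¹ * x⁻¹) * x * u⁻¹ * x⁻¹ := by
        rw [pow_succ']; group
      rw [e, ih, hzt n u huT |>.symm, pow_succ, hz₀]
      group
  have hz₀p : z₀ ^ p = 1 := by
    rw [← hpowu p]
    have h1 := hS.zc _ (hS.pw u huT) x hxT
    rw [h1]
    group
  have hZgen : ∀ z ∈ Z, ∃ i : ℕ, z = z₀ ^ i := by
    intro z hz
    obtain ⟨v, hv, hvz⟩ := hS.semi u huT huZ z hz
    obtain ⟨k, hk, i, rfl⟩ := hgen v hv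
    refine ⟨i, ?_⟩
    have e : u * (k * x ^ i) * u⁻¹ * (k * x ^ i)⁻¹ = k * (u * x ^ i * u⁻¹ * (x ^ i)⁻¹) * k⁻¹ := by
      have h1 := huc k hk
      calc u * (k * x ^ i) * u⁻¹ * (k * x ^ i)⁻¹
          = (u * k) * x ^ i * u⁻¹ * (x ^ i)⁻¹ * k⁻¹ := by group
        _ = (k * u) * x ^ i * u⁻¹ * (x ^ i)⁻¹ * k⁻¹ := by rw [h1]
        _ = _ := by group
    rw [← hvz, e, hpowx, ← hzt i k (hK₁T hk)]
    group
  have hZcard : Nat.card Z = p := by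
    have he : Z = zpowers z₀ := le_antisymm
      (fun z hz => by
        obtain ⟨i, rfl⟩ := hZgen z hz
        exact pow_mem (mem_zpowers _) i)
      (by rw [zpowers_le]; exact hz₀Z)
    rw [he, Nat.card_zpowers, orderOf_eq_prime hz₀p hz₀1]
  have hZgen' : ∀ ζ ∈ Z, ζ ≠ 1 → ∀ z ∈ Z, ∃ i : ℕ, z = ζ ^ i := by
    intro ζ hζ hζ1 z hz
    have h1 : (⟨z, hz⟩ : Z) ∈ zpowers (⟨ζ, hζ⟩ : Z) :=
      mem_zpowers_of_prime_card hZcard (by simpa [Subtype.ext_iff] using hζ1)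
    rw [← mem_powers_iff_mem_zpowers] at h1
    obtain ⟨i, hi⟩ := h1
    exact ⟨i, by simpa using (congrArg Subtype.val hi).symm⟩
  have hab : ∀ k ∈ K₁, ∀ k' ∈ K₁, k * k' = k' * k := by
    by_contra hna
    push Not at hna
    obtain ⟨k, hk, k', hk', hkk⟩ := hna
    apply hZr
    obtain ⟨ζ, hζ⟩ : ∃ ζ, ζ = k * k' * k⁻¹ * k'⁻¹ := ⟨_, rfl⟩
    have hζZ : ζ ∈ Z := hζ ▸ hS.cm k (hK₁T hk) k' (hK₁T hk')
    have hζ1 : ζ ≠ 1 := by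
      intro h
      apply hkk
      have : k * k' = (k * k' * k⁻¹ * k'⁻¹) * (k' * k) := by group
      rw [this, ← hζ, h, one_mul]
    have key : ∀ g ∈ R₁, ∀ z ∈ Z, g * z * g⁻¹ ∈ Z := by
      intro g hg z hz
      obtain ⟨i, rfl⟩ := hZgen' ζ hζZ hζ1 z hz
      rw [← conj_pow]
      apply pow_mem
      have : g * ζ * g⁻¹ = (g * k * g⁻¹) * (g * k' * g⁻¹) * (g * k * g⁻¹)⁻¹ * (g * k' * g⁻¹)⁻¹ := by
        rw [hζ]; group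
      rw [this]
      exact hS.cm _ (hK₁T (hRK g hg k hk)) _ (hK₁T (hRK g hg k' hk'))
    exact ⟨key r hr, by simpa using key r⁻¹ (inv_mem hr)⟩
  obtain ⟨z₂, hz₂⟩ : ∃ z₂, z₂ = r * z₀ * r⁻¹ := ⟨_, rfl⟩
  have hz₂K : z₂ ∈ K₁ := hz₂ ▸ hRK r hr z₀ (hZK hz₀Z)
  have hz₂1 : z₂ ≠ 1 := by
    intro h
    apply hz₀1
    have : z₀ = r⁻¹ * z₂ * r := by rw [hz₂]; group
    rw [this, h]
    group
  have hz₂Z : z₂ ∉ Z := by
    intro hin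
    apply hZr
    refine ⟨fun z hz => ?_, fun z hz => ?_⟩
    · obtain ⟨i, rfl⟩ := hZgen z hz
      rw [← conj_pow, ← hz₂]
      exact pow_mem hin i
    · obtain ⟨i, rfl⟩ := hZgen' z₂ hin hz₂1 z hz
      have : r⁻¹ * z₂ ^ i * r = z₀ ^ i := by
        have h1 : r⁻¹ * z₂ ^ i * r = (r⁻¹ * z₂ * r⁻¹⁻¹) ^ i := by
          rw [conj_pow, inv_inv]
        rw [h1, hz₂]
        congr 1
        group
      rw [this]
      exact pow_mem hz₀Z i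
  have hz₂p : z₂ ^ p = 1 := by
    rw [hz₂, conj_pow, hz₀p]
    group
  have hz₂T := hK₁T hz₂K
  obtain ⟨ζ, hζ⟩ : ∃ ζ, ζ = x * z₂ * x⁻¹ * z₂⁻¹ := ⟨_, rfl⟩
  have hζZ : ζ ∈ Z := hζ ▸ hS.cm x hxT z₂ hz₂T
  have hxz₂ : x * z₂ ≠ z₂ * x :=
    fun h => hz₂Z (hZmem z₂ hz₂K (fun k' hk' => hab _ hz₂K _ hk') h.symm)
  have hζ1 : ζ ≠ 1 := by
    intro h
    apply hxz₂
    have : x * z₂ = (x * z₂ * x⁻¹ * z₂⁻¹) * (z₂ * x) := by group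
    rw [this, ← hζ, h, one_mul]
  obtain ⟨i, hi⟩ := hZgen ζ hζZ
  obtain ⟨s, hs⟩ : ∃ s : ZMod p, s = (i : ZMod p) := ⟨_, rfl⟩
  have hsval : z₀ ^ s.val = z₀ ^ i := (pow_val_of_cast hz₀p i s hs.symm).symm
  have hs0 : s ≠ 0 := by
    intro h
    rw [h, ZMod.val_zero, pow_zero, ← hi] at hsval
    exact hζ1 hsval.symm
  have h1 : x * z₀ * x⁻¹ = z₀ := by
    rw [(hS.zc z₀ hz₀Z x hxT).symm]
    group
  have h2 : x * z₂ * x⁻¹ = z₀ ^ s.val * z₂ := by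
    rw [hsval, ← hi, hζ]
    group
  obtain ⟨w, hw⟩ : ∃ w, w = r⁻¹ * z₀ * r := ⟨_, rfl⟩
  have hwK : w ∈ K₁ := hw ▸ hKr z₀ (hZK hz₀Z)
  obtain ⟨j, hj⟩ := hZgen _ (hS.cm x hxT w (hK₁T hwK))
  obtain ⟨t, ht⟩ : ∃ t : ZMod p, t = (j : ZMod p) := ⟨_, rfl⟩
  have htval : z₂ ^ t.val = z₂ ^ j := (pow_val_of_cast hz₂p j t ht.symm).symm
  have ht0 : t ≠ 0 := by
    intro h
    have h0 : z₀ ^ j = 1 := by
      have := pow_val_of_cast hz₀p j t ht.symm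
      rw [h, ZMod.val_zero, pow_zero] at this
      exact this
    rw [h0] at hj
    have hwx : w * x = x * w := by
      have : x * w = (x * w * x⁻¹ * w⁻¹) * (w * x) := by group
      rw [this, hj, one_mul]
    have hwZ : w ∈ Z := hZmem w hwK (fun k' hk' => hab _ hwK _ hk') hwx
    have hw1 : w ≠ 1 := by
      intro h
      apply hz₀1
      have : z₀ = r * w * r⁻¹ := by rw [hw]; group
      rw [this, h]
      group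
    obtain ⟨b, hb⟩ := hZgen' w hwZ hw1 z₀ hz₀Z
    apply hz₂Z
    have : z₂ = z₀ ^ b := by
      have e : r * w * r⁻¹ = z₀ := by rw [hw]; group
      calc z₂ = r * z₀ * r⁻¹ := hz₂
        _ = r * w ^ b * r⁻¹ := by rw [← hb]
        _ = (r * w * r⁻¹) ^ b := by rw [conj_pow]
        _ = z₀ ^ b := by rw [e]
    rw [this]
    exact pow_mem hz₀Z b
  have h3 : (r * x * r⁻¹) * z₂ * (r * x * r⁻¹)⁻¹ = z₂ := by
    have e : (r * x * r⁻¹) * z₂ * (r * x * r⁻¹)⁻¹ = r * (x * z₀ * x⁻¹) * r⁻¹ := by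
      rw [hz₂]; group
    rw [e, h1, hz₂]
  have h4 : (r * x * r⁻¹) * z₀ * (r * x * r⁻¹)⁻¹ = z₀ * z₂ ^ t.val := by
    have e : (r * x * r⁻¹) * z₀ * (r * x * r⁻¹)⁻¹ = r * (x * w * x⁻¹) * r⁻¹ := by
      rw [hw]; group
    have e2 : x * w * x⁻¹ = z₀ ^ j * w := by rw [← hj]; group
    have e3 : r * w * r⁻¹ = z₀ := by rw [hw]; group
    have e4 : r * z₀ ^ j * r⁻¹ = z₂ ^ j := by rw [← conj_pow, hz₂]
    have e5 : r * (z₀ ^ j * w) * r⁻¹ = (r * z₀ ^ j * r⁻¹) * (r * w * r⁻¹) := by group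
    rw [e, e2, e5, e4, e3, htval]
    exact (hab _ (pow_mem hz₂K j) _ (hZK hz₀Z))
  -- the order of `T`
  have hKrep : ∀ k ∈ K₁, ∃ m : ℕ, ∃ z ∈ Z, k = z₂ ^ m * z := by
    intro k hk
    obtain ⟨m, hm⟩ := hZgen' ζ hζZ hζ1 _ (hS.cm x hxT k (hK₁T hk))
    refine ⟨m, (z₂ ^ m)⁻¹ * k, ?_, by group⟩
    have hk' : (z₂ ^ m)⁻¹ * k ∈ K₁ := mul_mem (inv_mem (pow_mem hz₂K m)) hk
    refine hZmem _ hk' (fun k'' hk'' => hab _ hk' _ hk'') ?_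
    have e1 : x * z₂ * x⁻¹ = ζ * z₂ := by rw [hζ]; group
    have e2 : x * k * x⁻¹ = ζ ^ m * k := by rw [← hm]; group
    have hcz : Commute ζ z₂ := hS.zc ζ hζZ z₂ hz₂T
    have e3 : x * z₂ ^ m * x⁻¹ = ζ ^ m * z₂ ^ m := by
      rw [← conj_pow, e1, hcz.mul_pow]
    have e4 : x * ((z₂ ^ m)⁻¹ * k) * x⁻¹ = (x * z₂ ^ m * x⁻¹)⁻¹ * (x * k * x⁻¹) := by group
    have e5 : x * ((z₂ ^ m)⁻¹ * k) * x⁻¹ = (z₂ ^ m)⁻¹ * k := by
      rw [e4, e3, e2]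
      group
    calc (z₂ ^ m)⁻¹ * k * x = (x * ((z₂ ^ m)⁻¹ * k) * x⁻¹) * x := by rw [e5]
      _ = x * ((z₂ ^ m)⁻¹ * k) := by group
  have hTcard : Nat.card T ≤ p ^ 3 := by
    haveI : NeZero p := ⟨hp.ne_zero⟩
    let F : Fin p × Fin p × Fin p → G := fun a => z₂ ^ a.1.val * z₀ ^ a.2.1.val * x ^ a.2.2.val
    have hsurj : ∀ t : T, ∃ a, F a = (t : G) := by
      rintro ⟨t, ht⟩
      obtain ⟨k, hk, l, rfl⟩ := hgen t ht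
      obtain ⟨m, z, hz, rfl⟩ := hKrep k hk
      have hxl : x ^ l = (x ^ p) ^ (l / p) * x ^ (l % p) := by
        rw [← pow_mul, ← pow_add, Nat.div_add_mod]
      have hz' : z * (x ^ p) ^ (l / p) ∈ Z := mul_mem hz (pow_mem (hS.pw x hxT) _)
      obtain ⟨n, hn⟩ := hZgen _ hz'
      have hm' : z₂ ^ m = z₂ ^ (m % p) := pow_eq_pow_mod m hz₂p
      have hn' : z₀ ^ n = z₀ ^ (n % p) := pow_eq_pow_mod n hz₀p
      refine ⟨(⟨m % p, Nat.mod_lt _ hp.pos⟩, ⟨n % p, Nat.mod_lt _ hp.pos⟩, ⟨l % p, Nat.mod_lt _ hp.pos⟩), ?_⟩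
      show z₂ ^ (m % p) * z₀ ^ (n % p) * x ^ (l % p) = z₂ ^ m * z * x ^ l
      rw [← hm', ← hn', ← hn, hxl]
      group
    choose g hg using hsurj
    have hinj : Function.Injective g := by
      intro a b hab'
      apply Subtype.ext
      rw [← hg a, ← hg b, hab']
    have := Nat.card_le_card_of_injective g hinj
    simpa [Nat.card_prod, pow_succ, mul_assoc] using this
  have hp5 := hS.small z₂ hz₂T hz₂Z hz₂p hTcard hZcard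
  have hzc : z₀ * z₂ = z₂ * z₀ := hS.zc z₀ hz₀Z z₂ hz₂T
  exact no_sl2 hp5 hcop hr hxR hz₀p hz₂p hzc hz₀1 hs0 ht0 h1 h2 h3 h4

end Cfsg.Agent.Lib.ClassSizes.Sch
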