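import Mathlib
import Cfsg.Agent.Lib.ClassSizes.SchB
import Cfsg.Agent.Lib.Hall.CoprimeSylow
import Cfsg.Agent.Lib.PSolv.Basic

/-!
# Elementary abelian `p`-groups acting on `p'`-groups: reduction to a cyclic action

If an elementary abelian `p`-group `A` acts nontrivially on a `p'`-group `R`, then there is a minimal
non-centralized `A`-invariant subgroup `R₁`, and `A / C_A(R₁)` has order `p`.
-/

set_option autoImplicit false

namespace Cfsg.Agent.Lib.ClassSizes.Sch

open Subgroup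

variable {Γ : Type*} [Group Γ] {p : ℕ}

section Act

variable (A R : Subgroup Γ) (hinv : ∀ a ∈ A, ∀ g ∈ R, a * g * a⁻¹ ∈ R)

/-- Conjugation of `R` by an element of `A`. -/
def cjA (a : A) : R →* R :=
  MonoidHom.mk' (fun g => ⟨a * g * a⁻¹, hinv a a.2 g g.2⟩) (by
    intro x y
    apply Subtype.ext
    show (a : Γ) * ((x : Γ) * (y : Γ)) * (a : Γ)⁻¹ = ((a : Γ) * x * (a : Γ)⁻¹) * ((a : Γ) * y * (a : Γ)⁻¹)
    group)

variable {A R hinv}

@[simp] theorem cjA_coe (a : A) (g : R) : ((cjA A R hinv a g : R) : Γ) = a * g * (a : Γ)⁻¹ := rfl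

theorem cjA_mul (a b : A) (g : R) : cjA A R hinv (a * b) g = cjA A R hinv a (cjA A R hinv b g) := by
  ext
  simp only [cjA_coe, Subgroup.coe_mul]
  group

theorem cjA_one (g : R) : cjA A R hinv 1 g = g := by
  ext
  simp

theorem map_of_cjA (a : A) (g : R) :
    Abelianization.map (cjA A R hinv a) (Abelianization.of g) = Abelianization.of (cjA A R hinv a g) :=
  Abelianization.map_of _ _

variable [hpf : Fact p.Prime]

/-- The norm. -/
noncomputable def Nm (hinv : ∀ a ∈ A, ∀ g ∈ R, a * g * a⁻¹ ∈ R) (a : A) (v : R) : Abelianization R :=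
  ∏ i : ZMod p, Abelianization.of (cjA A R hinv (a ^ i.val) v)

theorem Nm_fix (a : A) (hap : a ^ p = 1) (v : R) :
    Abelianization.map (cjA A R hinv a) (Nm (p := p) hinv a v) = Nm (p := p) hinv a v := by
  unfold Nm
  rw [map_prod]
  have h1 : ∀ i : ZMod p, Abelianization.map (cjA A R hinv a) (Abelianization.of (cjA A R hinv (a ^ i.val) v))
      = Abelianization.of (cjA A R hinv (a ^ (i + 1).val) v) := by
    intro i
    rw [map_of_cjA, ← cjA_mul, ← pow_succ', pow_val_of_cast hap (i.val + 1) (i + 1) (by simp)]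
  simp_rw [h1]
  exact Fintype.prod_equiv (Equiv.addRight 1) _ _ (fun i => rfl)

/-- The norm identity. -/
theorem norm_trick [Finite Γ] (hAc : ∀ a : A, ∀ b : A, a * b = b * a) (hAe : ∀ a : A, a ^ p = 1)
    (hcop : (Nat.card R).Coprime p)
    (W : Subgroup (Abelianization R))
    (hWfix : ∀ ξ ∈ W, ∀ a : A, Abelianization.map (cjA A R hinv a) ξ = ξ)
    (x₀ y : A) (hNy : ∀ v, Nm (p := p) hinv y v ∈ W)
    (hNE : ∀ j : ZMod p, ∀ v, Nm (p := p) hinv (x₀ * y ^ j.val) v ∈ W) (v : R) :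
    Abelianization.map (cjA A R hinv x₀) (Abelianization.of v) = Abelianization.of v := by
  classical
  have hp : p.Prime := Fact.out
  let f : ZMod p → ZMod p → Abelianization R :=
    fun i l => Abelianization.of (cjA A R hinv (x₀ ^ i.val * y ^ l.val) v)
  have hE : ∀ j i : ZMod p, (x₀ * y ^ j.val) ^ i.val = x₀ ^ i.val * y ^ (i * j).val := by
    intro j i
    have hc : Commute x₀ (y ^ j.val) := hAc _ _
    rw [hc.mul_pow, ← pow_mul]
    congr 1
    apply pow_val_of_cast (hAe y)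
    simp [mul_comm]
  have hN1 : ∀ j : ZMod p, Nm (p := p) hinv (x₀ * y ^ j.val) v = ∏ i : ZMod p, f i (i * j) := by
    intro j
    unfold Nm
    refine Finset.prod_congr rfl fun i _ => ?_
    rw [hE]
  have hN2 : Nm (p := p) hinv y v = ∏ l : ZMod p, f 0 l := by
    unfold Nm
    refine Finset.prod_congr rfl fun l _ => ?_
    simp [f]
  have hprod : ∏ j : ZMod p, Nm (p := p) hinv (x₀ * y ^ j.val) v
      = ∏ i : ZMod p, ∏ j : ZMod p, f i (i * j) := by
    simp_rw [hN1]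
    exact Finset.prod_comm
  have hi0 : ∏ j : ZMod p, f 0 (0 * j) = (Abelianization.of v) ^ p := by
    have : ∀ j : ZMod p, f 0 (0 * j) = Abelianization.of v := by
      intro j
      simp [f, cjA_one]
    simp_rw [this]
    rw [Finset.prod_const, Finset.card_univ, ZMod.card]
  have hine : ∀ i : ZMod p, i ≠ 0 → ∏ j : ZMod p, f i (i * j) ∈ W := by
    intro i hi
    have h1 : ∏ j : ZMod p, f i (i * j) = ∏ l : ZMod p, f i l :=
      Fintype.prod_equiv (Equiv.mulLeft₀ i hi) _ _ (fun j => rfl)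
    have h2 : ∏ l : ZMod p, f i l
        = Abelianization.map (cjA A R hinv (x₀ ^ i.val)) (Nm (p := p) hinv y v) := by
      unfold Nm
      rw [map_prod]
      refine Finset.prod_congr rfl fun l _ => ?_
      rw [map_of_cjA, ← cjA_mul]
    rw [h1, h2, hWfix _ (hNy v)]
    exact hNy v
  have hsplit : ∏ i : ZMod p, ∏ j : ZMod p, f i (i * j)
      = (Abelianization.of v) ^ p * ∏ i ∈ ({0} : Finset (ZMod p))ᶜ, ∏ j : ZMod p, f i (i * j) := by
    rw [Fintype.prod_eq_mul_prod_compl 0, hi0]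
  have hpW : (Abelianization.of v) ^ p ∈ W := by
    have h1 : ∏ i ∈ ({0} : Finset (ZMod p))ᶜ, ∏ j : ZMod p, f i (i * j) ∈ W := by
      refine Subgroup.prod_mem _ fun i hi => hine i ?_
      simpa using hi
    have h2 : ∏ j : ZMod p, Nm (p := p) hinv (x₀ * y ^ j.val) v ∈ W :=
      Subgroup.prod_mem _ fun j _ => hNE j v
    rw [hprod, hsplit] at h2
    exact (Subgroup.mul_mem_cancel_right _ h1).mp h2
  have hfix := hWfix _ hpW x₀
  rw [map_pow] at hfix
  obtain ⟨ξ, hξ⟩ : ∃ ξ, ξ = Abelianization.of v := ⟨_, rfl⟩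
  rw [← hξ] at hfix ⊢
  obtain ⟨η, hη⟩ : ∃ η, η = Abelianization.map (cjA A R hinv x₀) ξ := ⟨_, rfl⟩
  rw [← hη] at hfix ⊢
  have h3 : (η * ξ⁻¹) ^ p = 1 := by
    rw [mul_pow, hfix, inv_pow, mul_inv_cancel]
  have h4 : (η * ξ⁻¹) ^ Nat.card R = 1 := by
    obtain ⟨u, hu⟩ := QuotientGroup.mk'_surjective (commutator R) (η * ξ⁻¹)
    have hu' : Abelianization.of u = η * ξ⁻¹ := hu
    rw [← hu', ← map_pow, pow_card_eq_one', map_one]
  have h5 : η * ξ⁻¹ = 1 := by
    have := pow_gcd_eq_one.mpr ⟨h4, h3⟩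
    rwa [hcop, pow_one] at this
  exact mul_inv_eq_one.mp h5

end Act

/-- Reduction to a cyclic action. -/
theorem exists_rank_one [Finite Γ] [Fact p.Prime] (A R : Subgroup Γ)
    (hAc : ∀ a ∈ A, ∀ b ∈ A, a * b = b * a) (hAe : ∀ a ∈ A, a ^ p = 1)
    (hAR : ∀ a ∈ A, ∀ g ∈ R, a * g * a⁻¹ ∈ R) (hcop : (Nat.card R).Coprime p)
    (hne : ∃ a ∈ A, ∃ g ∈ R, a * g ≠ g * a) :
    ∃ R₁ : Subgroup Γ, R₁ ≤ R ∧ ∃ x₀ ∈ A, (∀ a ∈ A, ∀ g ∈ R₁, a * g * a⁻¹ ∈ R₁) ∧
      (∃ g ∈ R₁, x₀ * g ≠ g * x₀) ∧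
      ∀ y ∈ A, ∃ n : ℕ, ∀ g ∈ R₁, (y * x₀ ^ n) * g = g * (y * x₀ ^ n) := by
  classical
  have hp : p.Prime := Fact.out
  let 𝓡 : Set (Subgroup Γ) :=
    {X | X ≤ R ∧ (∀ a ∈ A, ∀ g ∈ X, a * g * a⁻¹ ∈ X) ∧ ∃ a ∈ A, ∃ g ∈ X, a * g ≠ g * a}
  have hne𝓡 : 𝓡.Nonempty := ⟨R, le_rfl, hAR, hne⟩
  obtain ⟨R₁, hR₁min⟩ := 𝓡.toFinite.exists_minimal hne𝓡
  obtain ⟨⟨hR₁R, hinv, x₀, hx₀, g₀, hg₀, hx₀g₀⟩, hmin⟩ := hR₁min
  have hmin' : ∀ X : Subgroup Γ, X ≤ R₁ → (∀ a ∈ A, ∀ g ∈ X, a * g * a⁻¹ ∈ X) → X ≠ R₁ →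
      ∀ a ∈ A, ∀ g ∈ X, a * g = g * a := by
    intro X hX hXinv hXne
    by_contra hcon
    push Not at hcon
    exact hXne (le_antisymm hX (hmin ⟨hX.trans hR₁R, hXinv, hcon⟩ hX))
  have hcop₁ : (Nat.card R₁).Coprime p :=
    Nat.Coprime.coprime_dvd_left (Subgroup.card_dvd_of_le hR₁R) hcop
  have hApg : IsPGroup p A := by
    intro a
    exact ⟨1, Subtype.ext (by simpa using hAe a a.2)⟩
  have hnorm : A ≤ normalizer (R₁ : Set Γ) := by
    intro a ha
    rw [mem_normalizer_iff]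
    intro g
    refine ⟨fun hg => hinv a ha g hg, fun hg => ?_⟩
    have := hinv a⁻¹ (inv_mem ha) _ hg
    simpa [mul_assoc] using this
  have hcoAR : (Nat.card A).Coprime (Nat.card R₁) := by
    obtain ⟨k, hk⟩ := IsPGroup.iff_card.mp hApg
    rw [hk]
    exact Nat.Coprime.pow_left k hcop₁.symm
  haveI : Group.IsNilpotent A := hApg.isNilpotent
  have hsolv : Group.IsSolvable A ∨ Group.IsSolvable R₁ := Or.inl inferInstance
  -- `R₁` is an `r`-group
  have hrp : ∃ r : ℕ, r.Prime ∧ IsPGroup r R₁ := by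
    by_contra hno
    push Not at hno
    have hall : ∀ r : ℕ, r.Prime → ¬ r ∣ ((centralizer ({x₀} : Set Γ)).subgroupOf R₁).index := by
      intro r hr
      haveI : Fact r.Prime := ⟨hr⟩
      obtain ⟨P, hP⟩ := Cfsg.Agent.Lib.Hall.exists_invariant_sylow A R₁ hnorm hcoAR hsolv r
      have hXne : (P : Subgroup R₁).map R₁.subtype ≠ R₁ := by
        intro he
        apply hno r hr
        have := (P.isPGroup').map R₁.subtype
        rw [he] at this
        exact this
      have hXinv : ∀ a ∈ A, ∀ g ∈ (P : Subgroup R₁).map R₁.subtype,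
          a * g * a⁻¹ ∈ (P : Subgroup R₁).map R₁.subtype := by
        intro a ha g hg
        exact (mem_normalizer_iff.mp (hP ha) g).mp hg
      have hc := hmin' _ (by
        rintro _ ⟨g, -, rfl⟩
        exact g.2) hXinv hXne
      apply Cfsg.Agent.Lib.PSolv.not_dvd_index_of_sylow_le P
      intro g hg
      rw [mem_subgroupOf, mem_centralizer_singleton_iff]
      exact (hc x₀ hx₀ g ⟨g, hg, rfl⟩).symm
    have h1 : ((centralizer ({x₀} : Set Γ)).subgroupOf R₁).index = 1 := by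
      by_contra hne1
      obtain ⟨r, hr, hrd⟩ := Nat.exists_prime_and_dvd hne1
      exact hall r hr hrd
    rw [Subgroup.index_eq_one] at h1
    have h2 : (⟨g₀, hg₀⟩ : R₁) ∈ (centralizer ({x₀} : Set Γ)).subgroupOf R₁ := by
      rw [h1]
      exact mem_top _
    rw [mem_subgroupOf, mem_centralizer_singleton_iff] at h2
    exact hx₀g₀ h2.symm
  obtain ⟨r, hr, hRr⟩ := hrp
  haveI : Fact r.Prime := ⟨hr⟩
  haveI hnt : Nontrivial R₁ := by
    refine ⟨⟨⟨g₀, hg₀⟩, 1, ?_⟩⟩
    intro h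
    have : g₀ = 1 := congrArg Subtype.val h
    rw [this] at hx₀g₀
    simp at hx₀g₀
  haveI : Group.IsNilpotent R₁ := hRr.isNilpotent
  have hcomne : commutator R₁ ≠ ⊤ := (Group.IsSolvable.commutator_lt_top_of_nontrivial R₁).ne
  -- `A` centralizes the commutator subgroup of `R₁`
  have hDfix : ∀ a ∈ A, ∀ d : R₁, d ∈ commutator R₁ → a * (d : Γ) = d * a := by
    intro a ha d hd
    refine hmin' ((commutator R₁).map R₁.subtype) ?_ ?_ ?_ a ha _ ⟨d, hd, rfl⟩
    · rintro _ ⟨g, -, rfl⟩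
      exact g.2
    · rintro b hb _ ⟨g, hg, rfl⟩
      let b' : A := ⟨b, hb⟩
      refine ⟨cjA A R₁ hinv b' g, ?_, rfl⟩
      have h1 : g ∈ (Abelianization.of : R₁ →* Abelianization R₁).ker := by
        rw [Abelianization.ker_of]
        exact hg
      have h2 : Abelianization.of g = (1 : Abelianization R₁) := h1
      have h3 : cjA A R₁ hinv b' g ∈ (Abelianization.of : R₁ →* Abelianization R₁).ker := by
        rw [MonoidHom.mem_ker, ← map_of_cjA, h2, map_one]
      rwa [Abelianization.ker_of] at h3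
    · intro he
      apply hcomne
      have h1 : (commutator R₁).map R₁.subtype = (⊤ : Subgroup R₁).map R₁.subtype := by
        rw [he]
        ext x
        simp
      exact Subgroup.map_injective R₁.subtype_injective h1
  -- fixed points of the abelianization lift
  have hlift : ∀ a : A, ∀ g : R₁, Abelianization.of (cjA A R₁ hinv a g) = Abelianization.of g →
      (a : Γ) * g = g * a := by
    intro a g hag
    have hwmem : g⁻¹ * cjA A R₁ hinv a g ∈ commutator R₁ := by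
      rw [← Abelianization.ker_of, MonoidHom.mem_ker, map_mul, map_inv, hag, inv_mul_cancel]
    obtain ⟨w, hw⟩ : ∃ w, w = g⁻¹ * cjA A R₁ hinv a g := ⟨_, rfl⟩
    rw [← hw] at hwmem
    have hwa := hDfix a a.2 w hwmem
    have hag' : (a : Γ) * g * (a : Γ)⁻¹ = g * w := by
      have : ((cjA A R₁ hinv a g : R₁) : Γ) = ((g * w : R₁) : Γ) := by
        rw [hw]
        group
      exact this
    have hpow : ∀ n : ℕ, (a : Γ) ^ n * g * ((a : Γ) ^ n)⁻¹ = g * (w : Γ) ^ n := by
      intro n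
      induction n with
      | zero => simp
      | succ n ih =>
        have e : (a : Γ) ^ (n + 1) * g * ((a : Γ) ^ (n + 1))⁻¹
            = (a : Γ) * ((a : Γ) ^ n * g * ((a : Γ) ^ n)⁻¹) * (a : Γ)⁻¹ := by
          rw [pow_succ']
          group
        rw [e, ih]
        have e2 : (a : Γ) * ((g : Γ) * (w : Γ) ^ n) * (a : Γ)⁻¹
            = ((a : Γ) * g * (a : Γ)⁻¹) * ((a : Γ) * (w : Γ) ^ n * (a : Γ)⁻¹) := by
          group
        have e3 : (a : Γ) * (w : Γ) ^ n * (a : Γ)⁻¹ = (w : Γ) ^ n := by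
          rw [← conj_pow, hwa]
          simp
        rw [e2, e3, hag', pow_succ, mul_assoc]
        congr 1
        rw [(Commute.refl (w : Γ)).pow_left n |>.eq]
    have h1 := hpow p
    rw [hAe a a.2] at h1
    simp only [one_mul, inv_one, mul_one] at h1
    have h2 : (w : Γ) ^ p = 1 := by
      have : (g : Γ) * (w : Γ) ^ p = g * 1 := by rw [← h1, mul_one]
      exact mul_left_cancel this
    have h3 : w ^ p = 1 := Subtype.ext (by simpa using h2)
    have h4 : w ^ Nat.card R₁ = 1 := pow_card_eq_one'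
    have h5 : w = 1 := by
      have := pow_gcd_eq_one.mpr ⟨h4, h3⟩
      rwa [hcop₁, pow_one] at this
    rw [h5] at hag'
    simp only [OneMemClass.coe_one, mul_one] at hag'
    calc (a : Γ) * g = ((a : Γ) * g * (a : Γ)⁻¹) * a := by group
      _ = g * a := by rw [hag']
  -- the centralizer of one element
  have hcent : ∀ y ∈ A, (∃ h ∈ R₁, y * h ≠ h * y) → ∀ g ∈ R₁, y * g = g * y → ∀ a ∈ A, a * g = g * a := by
    intro y hy hyh g hg hyg a ha
    refine hmin' (R₁ ⊓ centralizer ({y} : Set Γ)) inf_le_left ?_ ?_ a ha g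
      (Subgroup.mem_inf.mpr ⟨hg, by rw [mem_centralizer_singleton_iff]; exact hyg.symm⟩)
    · rintro b hb u hu
      obtain ⟨huR, huc⟩ := Subgroup.mem_inf.mp hu
      refine Subgroup.mem_inf.mpr ⟨hinv b hb u huR, ?_⟩
      rw [mem_centralizer_singleton_iff] at huc ⊢
      have h1 := hAc b hb y hy
      calc b * u * b⁻¹ * y = b * u * (b⁻¹ * y) := by group
        _ = b * u * (y * b⁻¹) := by
          congr 1
          rw [inv_mul_eq_iff_eq_mul, ← mul_assoc, h1]
          group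
        _ = b * (u * y) * b⁻¹ := by group
        _ = b * (y * u) * b⁻¹ := by rw [huc]
        _ = y * (b * u * b⁻¹) := by
          rw [← mul_assoc, h1]
          group
    · intro he
      obtain ⟨h, hh, hyh'⟩ := hyh
      have : h ∈ R₁ ⊓ centralizer ({y} : Set Γ) := by rw [he]; exact hh
      have h2 := (Subgroup.mem_inf.mp this).2
      rw [mem_centralizer_singleton_iff] at h2
      exact hyh' h2.symm
  -- the norm trick
  let F : Subgroup R₁ := (centralizer (A : Set Γ)).subgroupOf R₁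
  let W : Subgroup (Abelianization R₁) := F.map Abelianization.of
  have hFmem : ∀ g : R₁, (∀ a ∈ A, a * (g : Γ) = g * a) → g ∈ F := by
    intro g hg
    show (g : Γ) ∈ centralizer (A : Set Γ)
    rw [mem_centralizer_iff]
    exact hg
  have hWfix : ∀ ξ ∈ W, ∀ a : A, Abelianization.map (cjA A R₁ hinv a) ξ = ξ := by
    rintro _ ⟨n, hn, rfl⟩ a
    rw [map_of_cjA]
    congr 1
    apply Subtype.ext
    rw [cjA_coe]
    have hn' : (n : Γ) ∈ centralizer (A : Set Γ) := hn
    rw [mem_centralizer_iff] at hn'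
    rw [hn' a a.2]
    group
  have hNmW : ∀ a : A, (∃ h ∈ R₁, (a : Γ) * h ≠ h * a) → ∀ v, Nm (p := p) hinv a v ∈ W := by
    intro a ha v
    have hap : a ^ p = 1 := Subtype.ext (by simpa using hAe a a.2)
    obtain ⟨n, hn⟩ := QuotientGroup.mk'_surjective (commutator R₁) (Nm (p := p) hinv a v)
    have hn' : Abelianization.of n = Nm (p := p) hinv a v := hn
    have h1 : Abelianization.of (cjA A R₁ hinv a n) = Abelianization.of n := by
      rw [← map_of_cjA, hn', Nm_fix a hap]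
    have h2 := hlift a n h1
    have h3 := hcent a a.2 ha n n.2 h2
    exact ⟨n, hFmem n h3, hn'⟩
  refine ⟨R₁, hR₁R, x₀, hx₀, hinv, ⟨g₀, hg₀, hx₀g₀⟩, ?_⟩
  intro y hy
  by_cases hy1 : ∃ h ∈ R₁, y * h ≠ h * y
  swap
  · push Not at hy1
    exact ⟨0, fun g hg => by simpa using hy1 g hg⟩
  let x₀' : A := ⟨x₀, hx₀⟩
  let y' : A := ⟨y, hy⟩
  have hAc' : ∀ a : A, ∀ b : A, a * b = b * a := fun a b => Subtype.ext (hAc a a.2 b b.2)
  have hAe' : ∀ a : A, a ^ p = 1 := fun a => Subtype.ext (by simpa using hAe a a.2)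
  by_cases hE : ∀ j : ZMod p, ∃ h ∈ R₁, ((x₀' * y' ^ j.val : A) : Γ) * h ≠ h * ((x₀' * y' ^ j.val : A) : Γ)
  · -- contradiction
    exfalso
    have hN := norm_trick (p := p) (hinv := hinv) hAc' hAe' hcop₁ W hWfix x₀' y' (hNmW y' hy1)
      (fun j v => hNmW _ (hE j) v) ⟨g₀, hg₀⟩
    rw [map_of_cjA] at hN
    exact hx₀g₀ (hlift x₀' ⟨g₀, hg₀⟩ hN)
  · push Not at hE
    obtain ⟨j, hj⟩ := hE
    have hj0 : j ≠ 0 := by
      intro h
      subst h
      apply hx₀g₀
      simpa [x₀'] using hj g₀ hg₀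
    refine ⟨(j⁻¹ : ZMod p).val, fun g hg => ?_⟩
    have hc1 : Commute ((x₀' * y' ^ j.val : A) : Γ) g := hj g hg
    have hc2 := hc1.pow_left (j⁻¹ : ZMod p).val
    have he : (((x₀' * y' ^ j.val : A) : Γ)) ^ (j⁻¹ : ZMod p).val = y * x₀ ^ (j⁻¹ : ZMod p).val := by
      have hc : Commute x₀' (y' ^ j.val) := hAc' _ _
      have h1 : (x₀' * y' ^ j.val) ^ (j⁻¹ : ZMod p).val = x₀' ^ (j⁻¹ : ZMod p).val * y' := by
        rw [hc.mul_pow, ← pow_mul]
        congr 1
        have h2 := pow_val_of_cast (hAe' y') (j.val * (j⁻¹ : ZMod p).val) 1 (by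
          simp [hj0])
        rw [h2, ZMod.val_one, pow_one]
      have h3 := congrArg Subtype.val h1
      simp only [SubgroupClass.coe_pow, Subgroup.coe_mul] at h3 ⊢
      rw [h3]
      exact (hAc _ (pow_mem hx₀ _) _ hy)
    rw [he] at hc2
    exact hc2

end Cfsg.Agent.Lib.ClassSizes.Sch
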