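import Mathlib
import Cfsg.Agent.Lib.ClassSizes.SchC
import Cfsg.Agent.Lib.ClassSizes.SchD
import Cfsg.Agent.Lib.PGroup.AxLemma
import Cfsg.Agent.Lib.PGroup.PComp

/-!
# Sylow subgroups of Schmidt type in `p`-solvable groups with `O_{p'} = 1` are normal
-/

set_option autoImplicit false

namespace Cfsg.Agent.Lib.ClassSizes.Sch

open Subgroup Cfsg Cfsg.Agent.Lib.Core

variable {G : Type*} [Group G] {p : ℕ}

theorem core_normal [Finite G] [hpf : Fact p.Prime] (hstep : Cfsg.Agent.Lib.PSolv.PStep p G)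
    (hO : pPrimeCore p G = ⊥) (T : Sylow p G) {Z : Subgroup G} (hS : SL p (T : Subgroup G) Z) :
    (T : Subgroup G) ≤ pCore p G := by
  classical
  have hp : p.Prime := hpf.out
  obtain ⟨K, hKdef⟩ : ∃ K, K = pCore p G := ⟨_, rfl⟩
  rw [← hKdef]
  haveI hKn : K.Normal := hKdef ▸ pCore_normal p G
  have hKp : IsPGroup p K := hKdef ▸ pCore_isPGroup p G
  have hKT : K ≤ T := hKdef ▸ pCore_le_sylow T
  have hC : centralizer (K : Set G) ≤ K := by
    rw [hKdef]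
    exact Cfsg.Agent.Lib.PSolv.centralizer_pCore_le hstep hO
  have hZK : Z ≤ K := by
    intro z hz
    apply hC
    rw [mem_centralizer_iff]
    intro k hk
    exact (hS.zc z hz k (hKT hk)).symm
  by_contra hne
  obtain ⟨t₀, ht₀, ht₀K⟩ := SetLike.not_le_iff_exists.mp hne
  let π : G →* G ⧸ K := QuotientGroup.mk' K
  have hπsurj : Function.Surjective π := QuotientGroup.mk'_surjective K
  have hπ1 : ∀ g, π g = 1 ↔ g ∈ K := fun g => QuotientGroup.eq_one_iff g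
  have hπeq : ∀ g h, π g = π h ↔ g * h⁻¹ ∈ K := by
    intro g h
    rw [← hπ1, map_mul, map_inv, mul_inv_eq_one]
  let A : Subgroup (G ⧸ K) := (T : Subgroup G).map π
  obtain ⟨R, hRdef⟩ : ∃ R, R = pPrimeCore p (G ⧸ K) := ⟨_, rfl⟩
  haveI hRn : R.Normal := hRdef ▸ pPrimeCore_normal p (G ⧸ K)
  have hRc : (Nat.card R).Coprime p := hRdef ▸ pPrimeCore_coprime p (G ⧸ K)
  have hAc : ∀ a ∈ A, ∀ b ∈ A, a * b = b * a := by
    rintro _ ⟨a, ha, rfl⟩ _ ⟨b, hb, rfl⟩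
    rw [← map_mul, ← map_mul, hπeq]
    have : a * b * (b * a)⁻¹ = a * b * a⁻¹ * b⁻¹ := by group
    rw [this]
    exact hZK (hS.cm a ha b hb)
  have hAe : ∀ a ∈ A, a ^ p = 1 := by
    rintro _ ⟨a, ha, rfl⟩
    rw [← map_pow, hπ1]
    exact hZK (hS.pw a ha)
  have hAR : ∀ a ∈ A, ∀ g ∈ R, a * g * a⁻¹ ∈ R := fun a _ g hg => hRn.conj_mem g hg a
  have hKq : pCore p (G ⧸ K) = ⊥ := by
    subst hKdef
    exact pCore_quotient_pCore_eq_bot
  have hneR : ∃ a ∈ A, ∃ g ∈ R, a * g ≠ g * a := by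
    by_contra hno
    push Not at hno
    have h1 : π t₀ ∈ centralizer (R : Set (G ⧸ K)) := by
      rw [mem_centralizer_iff]
      intro g hg
      exact (hno _ ⟨t₀, ht₀, rfl⟩ g hg).symm
    have h2 := Cfsg.Agent.Lib.PGroup.AxLemma.centralizer_pPrimeCore_le (hstep.quotient K) hKq
    rw [← hRdef] at h2
    have h3 : π t₀ ∈ R := h2 h1
    have h4 : (π t₀) ^ p = 1 := hAe _ ⟨t₀, ht₀, rfl⟩
    have h5 : (⟨π t₀, h3⟩ : R) ^ Nat.card R = 1 := pow_card_eq_one'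
    have h6 : (⟨π t₀, h3⟩ : R) ^ p = 1 := Subtype.ext (by simpa using h4)
    have h7 : (⟨π t₀, h3⟩ : R) = 1 := by
      have := pow_gcd_eq_one.mpr ⟨h5, h6⟩
      rwa [hRc, pow_one] at this
    have h8 : π t₀ = 1 := congrArg Subtype.val h7
    exact ht₀K ((hπ1 _).mp h8)
  obtain ⟨R₁, hR₁R, x₀, hx₀, hinv, ⟨g₀, hg₀, hx₀g₀⟩, hgenA⟩ :=
    exists_rank_one A R hAc hAe hAR hRc hneR
  obtain ⟨x₁, hx₁, rfl⟩ := hx₀
  have hcopR₁ : (Nat.card R₁).Coprime p :=
    Nat.Coprime.coprime_dvd_left (Subgroup.card_dvd_of_le hR₁R) hRc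
  -- the preimage and a complement
  let L₁ : Subgroup G := R₁.comap π
  have hKL : K ≤ L₁ := by
    intro k hk
    show π k ∈ R₁
    rw [(hπ1 k).mpr hk]
    exact one_mem _
  let N : Subgroup L₁ := K.subgroupOf L₁
  haveI hNn : N.Normal := inferInstance
  let f : L₁ →* G ⧸ K := π.comp L₁.subtype
  have hfker : f.ker = N := by
    ext l
    rw [MonoidHom.mem_ker]
    show π (l : G) = 1 ↔ (l : G) ∈ K
    exact hπ1 _
  have hfrange : f.range = R₁ := by
    ext g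
    constructor
    · rintro ⟨l, rfl⟩
      exact l.2
    · intro hg
      obtain ⟨l, rfl⟩ := hπsurj g
      exact ⟨⟨l, hg⟩, rfl⟩
  have hNidx : N.index = Nat.card R₁ := by
    rw [← hfker, Subgroup.index_ker, hfrange]
  have hNcard : Nat.card N = Nat.card K := by
    show Nat.card (K.subgroupOf L₁) = Nat.card K
    exact Nat.card_congr (Subgroup.subgroupOfEquivOfLe hKL).toEquiv
  obtain ⟨j, hj⟩ := IsPGroup.iff_card.mp hKp
  have hco : (Nat.card N).Coprime N.index := by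
    rw [hNcard, hNidx, hj]
    exact Nat.Coprime.pow_left j hcopR₁.symm
  obtain ⟨H, hH⟩ := Subgroup.exists_right_complement'_of_coprime hco
  have hHcard : Nat.card H = Nat.card R₁ := by
    have h1 := hH.card_mul
    have h2 := N.card_mul_index
    rw [hNidx] at h2
    exact Nat.eq_of_mul_eq_mul_left Nat.card_pos (h1.trans h2.symm)
  let S : Subgroup G := H.map L₁.subtype
  have hScard : Nat.card S = Nat.card R₁ := by
    rw [Subgroup.card_map_of_injective L₁.subtype_injective, hHcard]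
  have hSc : (Nat.card S).Coprime p := by rw [hScard]; exact hcopR₁
  have hSL : S ≤ L₁ := by
    rintro _ ⟨h, -, rfl⟩
    exact h.2
  have hdecomp : ∀ l ∈ L₁, ∃ s ∈ S, ∃ k ∈ K, l = s * k := by
    intro l hl
    have h1 : N ⊔ H = ⊤ := hH.sup_eq_top
    have h2 : (⟨l, hl⟩ : L₁) ∈ H ⊔ N := by
      rw [sup_comm, h1]
      exact mem_top _
    rw [mem_sup_of_normal_right] at h2
    obtain ⟨h, hh, n, hn, hhn⟩ := h2
    refine ⟨h, ⟨h, hh, rfl⟩, n, hn, ?_⟩
    exact (congrArg Subtype.val hhn).symm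
  have hSKsup : S ⊔ K = L₁ := by
    apply le_antisymm (sup_le hSL hKL)
    intro l hl
    obtain ⟨s, hs, k, hk, rfl⟩ := hdecomp l hl
    exact mul_mem ((le_sup_left : S ≤ S ⊔ K) hs) ((le_sup_right : K ≤ S ⊔ K) hk)
  have hTL : ∀ t ∈ (T : Subgroup G), ∀ l ∈ L₁, t * l * t⁻¹ ∈ L₁ := by
    intro t ht l hl
    show π (t * l * t⁻¹) ∈ R₁
    rw [map_mul, map_mul, map_inv]
    exact hinv _ ⟨t, ht, rfl⟩ _ hl
  have hTL' : ∀ t ∈ (T : Subgroup G), ∀ l ∈ L₁, t⁻¹ * l * t ∈ L₁ := by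
    intro t ht l hl
    simpa using hTL t⁻¹ (inv_mem ht) l hl
  -- Frattini argument
  let W : Subgroup G := S.map (MulAut.conj x₁).toMonoidHom
  have hWcard : Nat.card W = Nat.card S :=
    Subgroup.card_map_of_injective (MulAut.conj x₁).injective
  have hWsup : W ⊔ K = S ⊔ K := by
    rw [hSKsup]
    apply le_antisymm
    · refine sup_le ?_ hKL
      rintro _ ⟨s, hs, rfl⟩
      exact hTL x₁ hx₁ s (hSL hs)
    · intro l hl
      obtain ⟨s, hs, k, hk, hsk⟩ := hdecomp _ (hTL' x₁ hx₁ l hl)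
      have e : l = (x₁ * s * x₁⁻¹) * (x₁ * k * x₁⁻¹) := by
        have : l = x₁ * (x₁⁻¹ * l * x₁) * x₁⁻¹ := by group
        rw [this, hsk]
        group
      rw [e]
      exact mul_mem ((le_sup_left : W ≤ W ⊔ K) ⟨s, hs, rfl⟩)
        ((le_sup_right : K ≤ W ⊔ K) (hKn.conj_mem k hk x₁))
  obtain ⟨k₀, hk₀, hk₀W⟩ := Cfsg.Agent.Lib.PGroup.PComp.complement_conj_sub (p := p) K W S hKp
    (by rw [hWcard]; exact hSc) hSc hWsup
  obtain ⟨x, hx⟩ : ∃ x, x = k₀ * x₁ := ⟨_, rfl⟩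
  have hxT : x ∈ (T : Subgroup G) := hx ▸ mul_mem (hKT hk₀) hx₁
  have hπx : π x = π x₁ := by
    rw [hx, map_mul, (hπ1 k₀).mpr hk₀, one_mul]
  have hxS : ∀ s ∈ S, x * s * x⁻¹ ∈ S := by
    intro s hs
    have e : x * s * x⁻¹ = k₀ * (x₁ * s * x₁⁻¹) * k₀⁻¹ := by rw [hx]; group
    rw [e]
    exact hk₀W _ ⟨s, hs, rfl⟩
  -- the subgroup `K₁`
  let K₁ : Subgroup G := (T : Subgroup G) ⊓ (centralizer (R₁ : Set (G ⧸ K))).comap π
  have hK₁mem : ∀ t, t ∈ K₁ ↔ t ∈ (T : Subgroup G) ∧ ∀ g ∈ R₁, π t * g = g * π t := by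
    intro t
    rw [Subgroup.mem_inf, mem_comap, mem_centralizer_iff]
    refine and_congr_right fun _ => ⟨fun h g hg => (h g hg).symm, fun h g hg => (h g hg).symm⟩
  have hK₁T : K₁ ≤ T := inf_le_left
  have hK_K₁ : K ≤ K₁ := by
    intro k hk
    rw [hK₁mem]
    refine ⟨hKT hk, fun g _ => ?_⟩
    rw [(hπ1 k).mpr hk, one_mul, mul_one]
  have hgen : ∀ t ∈ (T : Subgroup G), ∃ k ∈ K₁, ∃ i : ℕ, t = k * x ^ i := by
    intro t ht
    obtain ⟨n, hn⟩ := hgenA _ ⟨t, ht, rfl⟩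
    refine ⟨t * x ^ n, ?_, n * (orderOf x - 1), ?_⟩
    · rw [hK₁mem]
      refine ⟨mul_mem ht (pow_mem hxT n), fun g hg => ?_⟩
      rw [map_mul, map_pow, hπx]
      exact hn g hg
    · have h1 : x ^ n * x ^ (n * (orderOf x - 1)) = 1 := by
        rw [← pow_add]
        have : n + n * (orderOf x - 1) = orderOf x * n := by
          have := orderOf_pos x
          obtain ⟨m, hm⟩ : ∃ m, orderOf x = m + 1 := ⟨orderOf x - 1, by omega⟩
          rw [hm]
          simp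
          ring
        rw [this, pow_mul, pow_orderOf_eq_one, one_pow]
      rw [mul_assoc, h1, mul_one]
  have hRK : ∀ r ∈ S, ∀ k ∈ K₁, r * k * r⁻¹ ∈ K₁ := by
    intro r hr k hk
    obtain ⟨hkT, hkc⟩ := (hK₁mem k).mp hk
    have hπr : π r ∈ R₁ := hSL hr
    have hc : π r * π k = π k * π r := (hkc _ hπr).symm
    rw [hK₁mem]
    have h1 : π (r * k * r⁻¹) = π k := by
      rw [map_mul, map_mul, map_inv, hc]
      group
    have h2 : r * k * r⁻¹ * k⁻¹ ∈ K := (hπeq _ _).mp h1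
    refine ⟨?_, fun g hg => ?_⟩
    · have : r * k * r⁻¹ = (r * k * r⁻¹ * k⁻¹) * k := by group
      rw [this]
      exact mul_mem (hKT h2) hkT
    · rw [h1]
      exact hkc g hg
  have hfaith : ∀ r ∈ S, (∀ k ∈ K₁, r * k = k * r) → r = 1 := by
    intro r hr h
    have h1 : r ∈ K := by
      apply hC
      rw [mem_centralizer_iff]
      intro k hk
      exact (h k (hK_K₁ hk)).symm
    have h2 : (⟨r, h1⟩ : K) ^ p ^ j = 1 := by
      have := pow_card_eq_one' (x := (⟨r, h1⟩ : K))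
      rwa [hj] at this
    have h3 : (⟨r, hr⟩ : S) ^ Nat.card S = 1 := pow_card_eq_one'
    have h4 : r ^ p ^ j = 1 := by simpa using congrArg Subtype.val h2
    have h5 : r ^ Nat.card S = 1 := by
      have e : ((⟨r, hr⟩ : S) ^ Nat.card S : S).1 = r ^ Nat.card S := rfl
      rw [← e, h3]
      rfl
    have := pow_gcd_eq_one.mpr ⟨h5, h4⟩
    rwa [Nat.Coprime.pow_right j hSc, pow_one] at this
  have hTp : IsPGroup p (T : Subgroup G) := T.isPGroup'
  have hact : ∀ r ∈ S, r * x = x * r := fun r hr =>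
    action_trivial hS hTp hK₁T (hZK.trans hK_K₁) hxT hgen hRK hxS hfaith hSc hr
  -- contradiction
  obtain ⟨l, rfl⟩ := hπsurj g₀
  have hl : l ∈ L₁ := hg₀
  obtain ⟨s, hs, k, hk, rfl⟩ := hdecomp l hl
  apply hx₀g₀
  rw [← hπx, map_mul, (hπ1 k).mpr hk, mul_one, ← map_mul, ← map_mul, (hact s hs).symm]

end Cfsg.Agent.Lib.ClassSizes.Sch
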