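import Mathlib
import Cfsg.Agent.Lib.ClassSizes.SchE
import Cfsg.Agent.Lib.Hall.Schmidt
import Cfsg.Agent.Lib.PGroup.MaxNormal

/-!
# The automorphism of the normal Sylow subgroup of a minimal non-nilpotent group
-/

set_option autoImplicit false

namespace Cfsg.Agent.Lib.ClassSizes.Sch

open Subgroup Cfsg Cfsg.Agent.Lib.Core
open scoped commutatorElement

variable {p q : ℕ}

theorem SchAut.transport {S S' : Type*} [Group S] [Group S'] [Finite S] [Finite S'] {σ : MulAut S}
    (h : SchAut p q σ) (e : S' ≃* S) : SchAut p q ((e.trans σ).trans e.symm) := by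
  have hpow : ∀ n : ℕ, ∀ x, (((e.trans σ).trans e.symm : MulAut S') ^ n) x = e.symm ((σ ^ n) (e x)) := by
    intro n
    induction n with
    | zero => intro x; simp
    | succ n ih =>
      intro x
      rw [pow_succ, pow_succ, MulAut.mul_apply, ih]
      simp [MulAut.mul_apply]
  refine ⟨h.hp, h.hq, h.hpq, h.pg.of_injective e.toMonoidHom e.injective, ?_, ?_, ?_⟩
  · ext x
    rw [hpow, h.pow]
    simp
  · intro he
    apply h.ne
    ext x
    have h1 : ((e.trans σ).trans e.symm : MulAut S') (e.symm x) = e.symm x := by rw [he]; rfl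
    have h2 : e.symm (σ (e (e.symm x))) = e.symm x := h1
    rw [e.apply_symm_apply] at h2
    have h3 := congrArg e h2
    simpa using h3
  · intro H hH hinv x hx
    have hne : H.map e.toMonoidHom ≠ ⊤ := by
      intro he
      apply hH
      rw [eq_top_iff]
      intro y _
      have h1 : e y ∈ H.map e.toMonoidHom := by rw [he]; exact mem_top _
      obtain ⟨z, hz, hzy⟩ := h1
      have : z = y := e.injective hzy
      exact this ▸ hz
    have hinv' : ∀ y ∈ H.map e.toMonoidHom, σ y ∈ H.map e.toMonoidHom := by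
      rintro _ ⟨z, hz, rfl⟩
      refine ⟨e.symm (σ (e z)), ?_, by simp⟩
      exact hinv z hz
    have := h.inv _ hne hinv' (e x) ⟨x, hx, rfl⟩
    show e.symm (σ (e x)) = x
    rw [this]
    simp

/-- From the abstract structure to the subgroup structure. -/
theorem SL_of_schAut {G : Type*} [Group G] [Finite G] {T : Subgroup G} {σ : MulAut T} (h : SchAut p q σ) :
    SL p T ((center T).map T.subtype) := by
  refine ⟨?_, ?_, ?_, ?_, ?_, ?_, ?_⟩
  · rintro _ ⟨z, -, rfl⟩
    exact z.2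
  · rintro _ ⟨z, hz, rfl⟩ t ht
    have := mem_center_iff.mp hz ⟨t, ht⟩
    exact (congrArg Subtype.val this).symm
  · intro z hz hc
    refine ⟨⟨z, hz⟩, ?_, rfl⟩
    show (⟨z, hz⟩ : T) ∈ center T
    rw [mem_center_iff]
    rintro ⟨t, ht⟩
    exact Subtype.ext (hc t ht).symm
  · intro x hx y hy
    refine ⟨⁅(⟨x, hx⟩ : T), (⟨y, hy⟩ : T)⁆, h.comm_central _ _, ?_⟩
    simp [commutatorElement_def]
  · intro x hx
    exact ⟨(⟨x, hx⟩ : T) ^ p, h.pow_central _, by simp⟩
  · intro u hu huZ z hz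
    have hu' : (⟨u, hu⟩ : T) ∉ center T := fun h1 => huZ ⟨_, h1, rfl⟩
    obtain ⟨z', hz', rfl⟩ := hz
    obtain ⟨v, hv⟩ := h.semi hu' hz'
    refine ⟨v, v.2, ?_⟩
    have := congrArg Subtype.val hv
    simpa [commutatorElement_def] using this
  · intro u hu huZ hup hT hZ
    have hu' : (⟨u, hu⟩ : T) ∉ center T := fun h1 => huZ ⟨_, h1, rfl⟩
    have hna : center T ≠ ⊤ := fun e => hu' (e ▸ mem_top _)
    have hZ' : Nat.card (center T) = p := by
      rw [← hZ, Subgroup.card_map_of_injective T.subtype_injective]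
    exact h.small hna hZ' hT hu' (Subtype.ext (by simpa using hup))

/-- The automorphism of the normal Sylow subgroup of a minimal non-nilpotent group. -/
theorem schAut_of_minimal {X : Type*} [Group X] [Finite X] [hpf : Fact p.Prime]
    (hX : IsMinimalNonNilpotent X) (P : Sylow p X) (hPn : (P : Subgroup X).Normal)
    (hP1 : (P : Subgroup X) ≠ ⊥) : ∃ q : ℕ, ∃ σ : MulAut (P : Subgroup X), SchAut p q σ := by
  classical
  have hp : p.Prime := hpf.out
  obtain ⟨p₁, q₁, hp₁, hq₁, hne, P₁, Q₁, hcyc, hQn, hsup⟩ := Cfsg.Agent.Lib.Hall.minimal_non_nilpotent_structure hX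
  haveI : Fact p₁.Prime := ⟨hp₁⟩
  haveI : Fact q₁.Prime := ⟨hq₁⟩
  -- `p` divides the order
  have hpdvd : p ∣ Nat.card X := by
    obtain ⟨k, hk⟩ := IsPGroup.iff_card.mp (P.isPGroup')
    have hk0 : k ≠ 0 := by
      rintro rfl
      apply hP1
      rw [pow_zero] at hk
      exact (Subgroup.card_eq_one).mp hk
    have : p ∣ Nat.card (P : Subgroup X) := by
      rw [hk]
      exact dvd_pow_self p hk0
    exact this.trans (Subgroup.card_subgroup_dvd_card _)
  -- the order of `X`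
  have hcard : Nat.card X = Nat.card (P₁ : Subgroup X) * Nat.card (Q₁ : Subgroup X) := by
    have h1 := Cfsg.Agent.Lib.PSolv.card_sup_mul_card_inf (P₁ : Subgroup X) (Q₁ : Subgroup X)
    rw [hsup] at h1
    have h2 : (P₁ : Subgroup X) ⊓ Q₁ = ⊥ := by
      apply Subgroup.inf_eq_bot_of_coprime
      obtain ⟨a, ha⟩ := IsPGroup.iff_card.mp (P₁.isPGroup')
      obtain ⟨b, hb⟩ := IsPGroup.iff_card.mp (Q₁.isPGroup')
      rw [ha, hb]
      exact Nat.Coprime.pow _ _ ((Nat.coprime_primes hp₁ hq₁).mpr hne)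
    rw [h2, Subgroup.card_bot, mul_one, Subgroup.card_top] at h1
    exact h1
  have hpcases : p = p₁ ∨ p = q₁ := by
    rw [hcard] at hpdvd
    rcases (Nat.Prime.dvd_mul hp).mp hpdvd with h | h
    · left
      obtain ⟨a, ha⟩ := IsPGroup.iff_card.mp (P₁.isPGroup')
      rw [ha] at h
      exact (Nat.prime_dvd_prime_iff_eq hp hp₁).mp (hp.dvd_of_dvd_pow h)
    · right
      obtain ⟨a, ha⟩ := IsPGroup.iff_card.mp (Q₁.isPGroup')
      rw [ha] at h
      exact (Nat.prime_dvd_prime_iff_eq hp hq₁).mp (hp.dvd_of_dvd_pow h)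
  rcases hpcases with rfl | rfl
  · exfalso
    haveI := Sylow.unique_of_normal P hPn
    have he : P₁ = P := Subsingleton.elim _ _
    subst he
    haveI := hPn
    haveI := hQn
    exact hX.1 (isNilpotent_of_sup_eq_top _ _ (P₁.isPGroup').isNilpotent (Q₁.isPGroup').isNilpotent hsup)
  haveI := Sylow.unique_of_normal P hPn
  have he : Q₁ = P := Subsingleton.elim _ _
  subst he
  -- now `X = P₁ Q₁` with `P₁` cyclic
  haveI := hPn
  obtain ⟨g₀, hg₀⟩ := hcyc.exists_generator
  obtain ⟨g, hgdef⟩ : ∃ g : X, g = (g₀ : X) := ⟨_, rfl⟩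
  have hgC : g ∈ (P₁ : Subgroup X) := hgdef ▸ g₀.2
  have hCz : (P₁ : Subgroup X) = zpowers g := by
    apply le_antisymm
    · intro c hc
      obtain ⟨i, hi⟩ := hg₀ ⟨c, hc⟩
      refine ⟨i, ?_⟩
      have := congrArg Subtype.val hi
      simpa [hgdef] using this
    · rw [zpowers_le]
      exact hgC
  have hsupz : zpowers g ⊔ (Q₁ : Subgroup X) = ⊤ := hCz ▸ hsup
  have hzinf : ∀ i : ℤ, g ^ i ∈ (Q₁ : Subgroup X) → g ^ i = 1 := by
    intro i hi
    have h1 : g ^ i ∈ (P₁ : Subgroup X) := zpow_mem hgC i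
    obtain ⟨a, ha⟩ := P₁.isPGroup' ⟨_, h1⟩
    obtain ⟨b, hb⟩ := Q₁.isPGroup' ⟨_, hi⟩
    have ha' : (g ^ i) ^ p₁ ^ a = 1 := by simpa using congrArg Subtype.val ha
    have hb' : (g ^ i) ^ p ^ b = 1 := by simpa using congrArg Subtype.val hb
    have := pow_gcd_eq_one.mpr ⟨ha', hb'⟩
    rwa [Nat.Coprime.pow _ _ ((Nat.coprime_primes hp₁ hq₁).mpr hne), pow_one] at this
  have hgord : (orderOf g).Coprime p := by
    obtain ⟨a, ha⟩ := IsPGroup.iff_card.mp (P₁.isPGroup')
    have h1 : orderOf g ∣ p₁ ^ a := by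
      rw [← ha]
      exact Subgroup.orderOf_dvd_natCard _ hgC
    exact Nat.Coprime.coprime_dvd_left h1 (Nat.Coprime.pow_left a ((Nat.coprime_primes hp₁ hq₁).mpr hne))
  -- commuting inside proper subgroups
  have hcomm : ∀ M : Subgroup X, M ≠ ⊤ → ∀ u ∈ M, u ∈ (Q₁ : Subgroup X) → ∀ c ∈ M, c ∈ zpowers g →
      c * u = u * c := by
    intro M hM u huM huQ c hcM hcz
    haveI := hX.2 M hM
    have hc1 : orderOf c ∣ orderOf g := orderOf_dvd_of_mem_zpowers hcz
    have h1 : Commute (⟨u, huM⟩ : M) (⟨c, hcM⟩ : M) := by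
      refine Cfsg.Agent.Lib.PGroup.commute_of_nilpotent_of_coprime (p := p) ?_ ?_
      · obtain ⟨a, ha⟩ := Q₁.isPGroup' ⟨u, huQ⟩
        have ha' : u ^ p ^ a = 1 := by simpa using congrArg Subtype.val ha
        rw [IsPGroup.iff_card, Nat.card_zpowers]
        have h2 : orderOf (⟨u, huM⟩ : M) ∣ p ^ a := by
          rw [Subgroup.orderOf_mk]
          exact orderOf_dvd_of_pow_eq_one ha'
        obtain ⟨k, -, hk⟩ := (Nat.dvd_prime_pow hp).mp h2
        exact ⟨k, hk⟩
      · rw [Subgroup.orderOf_mk]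
        exact Nat.Coprime.coprime_dvd_left hc1 hgord
    exact (congrArg Subtype.val h1.eq).symm
  let σ : MulAut (Q₁ : Subgroup X) := MulAut.conjNormal g
  have hσ : ∀ x : (Q₁ : Subgroup X), ((σ x : (Q₁ : Subgroup X)) : X) = g * x * g⁻¹ :=
    fun x => MulAut.conjNormal_apply g x
  refine ⟨p₁, σ, hp, hp₁, hne.symm, Q₁.isPGroup', ?_, ?_, ?_⟩
  · -- `σ ^ p₁ = 1`
    have hgne : g ≠ 1 := by
      intro h1
      apply hX.1
      have hQtop : (Q₁ : Subgroup X) = ⊤ := by
        rw [← hsupz, h1]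
        simp
      have hXp : IsPGroup p X := by
        intro x
        have hx : x ∈ (Q₁ : Subgroup X) := by rw [hQtop]; exact mem_top x
        obtain ⟨a, ha⟩ := Q₁.isPGroup' ⟨x, hx⟩
        exact ⟨a, by simpa using congrArg Subtype.val ha⟩
      exact hXp.isNilpotent
    have hM₁ : zpowers (g ^ p₁) ⊔ (Q₁ : Subgroup X) ≠ ⊤ := by
      intro he
      have hg : g ∈ zpowers (g ^ p₁) ⊔ (Q₁ : Subgroup X) := by rw [he]; exact mem_top _
      rw [mem_sup_of_normal_right] at hg
      obtain ⟨_, ⟨i, rfl⟩, z, hz, hgz⟩ := hg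
      have hzz : z = g ^ (1 - (p₁ : ℤ) * i) := by
        have hgz' : (g ^ p₁) ^ i * z = g := hgz
        have h1 : z = ((g ^ p₁) ^ i)⁻¹ * g := by
          calc z = ((g ^ p₁) ^ i)⁻¹ * ((g ^ p₁) ^ i * z) := by group
            _ = _ := by rw [hgz']
        have h2 : (g ^ p₁) ^ i = g ^ ((p₁ : ℤ) * i) := by rw [zpow_mul, zpow_natCast]
        rw [h1, h2, sub_eq_neg_add, zpow_add, zpow_one, zpow_neg]
      rw [hzz] at hz
      have h3 := hzinf _ hz
      have h4 : (orderOf g : ℤ) ∣ 1 - (p₁ : ℤ) * i := orderOf_dvd_iff_zpow_eq_one.mpr h3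
      obtain ⟨a, ha⟩ := IsPGroup.iff_card.mp (P₁.isPGroup')
      have h5 : orderOf g ∣ p₁ ^ a := by
        rw [← ha]
        exact Subgroup.orderOf_dvd_natCard _ hgC
      obtain ⟨k, -, hk⟩ := (Nat.dvd_prime_pow hp₁).mp h5
      have hk0 : k ≠ 0 := by
        rintro rfl
        rw [pow_zero, orderOf_eq_one_iff] at hk
        exact hgne hk
      have h6 : p₁ ∣ orderOf g := by
        rw [hk]
        exact dvd_pow_self p₁ hk0
      have h7 : (p₁ : ℤ) ∣ 1 - (p₁ : ℤ) * i := (Int.natCast_dvd_natCast.mpr h6).trans h4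
      have h8 : (p₁ : ℤ) ∣ 1 := by
        have := dvd_add h7 (dvd_mul_right (p₁ : ℤ) i)
        simpa using this
      have h9 : p₁ ∣ 1 := by exact_mod_cast h8
      exact hp₁.not_dvd_one h9
    ext x
    have h1 : (((σ ^ p₁ : MulAut (Q₁ : Subgroup X)) x : (Q₁ : Subgroup X)) : X) = g ^ p₁ * x * (g ^ p₁)⁻¹ := by
      have : (σ ^ p₁ : MulAut (Q₁ : Subgroup X)) = MulAut.conjNormal (g ^ p₁) := by
        simp only [σ, map_pow]
      rw [this]
      exact MulAut.conjNormal_apply _ _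
    rw [h1]
    have h2 := hcomm _ hM₁ x ((le_sup_right : (Q₁ : Subgroup X) ≤ _) x.2) x.2 (g ^ p₁)
      ((le_sup_left : zpowers (g ^ p₁) ≤ _) (mem_zpowers _)) (pow_mem (mem_zpowers g) p₁)
    rw [h2]
    simp
  · -- `σ ≠ 1`
    intro h1
    have hgx : ∀ x ∈ (Q₁ : Subgroup X), g * x = x * g := by
      intro x hx
      have h2 := hσ ⟨x, hx⟩
      rw [h1] at h2
      have h3 : x = g * x * g⁻¹ := h2
      calc g * x = (g * x * g⁻¹) * g := by group
        _ = x * g := by rw [← h3]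
    have hz : ∀ x : X, x * g * x⁻¹ = g := by
      intro x
      have hx : x ∈ zpowers g ⊔ (Q₁ : Subgroup X) := by rw [hsupz]; exact mem_top x
      rw [mem_sup_of_normal_right] at hx
      obtain ⟨_, ⟨i, rfl⟩, z, hz, rfl⟩ := hx
      have h2 : z * g * z⁻¹ = g := by rw [← hgx z hz]; group
      have hcm : Commute (g ^ i) g := (Commute.refl g).zpow_left i
      show g ^ i * z * g * (g ^ i * z)⁻¹ = g
      calc g ^ i * z * g * (g ^ i * z)⁻¹ = g ^ i * (z * g * z⁻¹) * (g ^ i)⁻¹ := by group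
        _ = g ^ i * g * (g ^ i)⁻¹ := by rw [h2]
        _ = g := by rw [hcm.eq]; group
    haveI hCn : (zpowers g).Normal := by
      constructor
      rintro _ ⟨i, rfl⟩ x
      have h2 : x * g ^ i * x⁻¹ = (x * g * x⁻¹) ^ i := by rw [conj_zpow]
      show x * g ^ i * x⁻¹ ∈ zpowers g
      rw [h2, hz]
      exact zpow_mem (mem_zpowers g) i
    apply hX.1
    have hCnil : Group.IsNilpotent (zpowers g) := by
      have : IsPGroup p₁ (zpowers g) := hCz ▸ P₁.isPGroup'
      exact this.isNilpotent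
    exact isNilpotent_of_sup_eq_top _ _ hCnil (Q₁.isPGroup').isNilpotent hsupz
  · -- proper invariant subgroups
    intro H hH hinv x hx
    have hconj : ∀ n : ℕ, ∀ h ∈ H, ∃ h' ∈ H, (h' : X) = g ^ n * h * (g ^ n)⁻¹ := by
      intro n
      induction n with
      | zero => intro h hh; exact ⟨h, hh, by simp⟩
      | succ n ih =>
        intro h hh
        obtain ⟨h', hh', e⟩ := ih h hh
        refine ⟨σ h', hinv _ hh', ?_⟩
        rw [hσ, e, pow_succ']
        group
    have hconjz : ∀ c ∈ zpowers g, ∀ h ∈ H, ∃ h' ∈ H, (h' : X) = c * h * c⁻¹ := by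
      intro c hc h hh
      rw [← mem_powers_iff_mem_zpowers] at hc
      obtain ⟨n, rfl⟩ := hc
      exact hconj n h hh
    let H₀ : Subgroup X := H.map (Q₁ : Subgroup X).subtype
    have hconj₀ : ∀ c ∈ zpowers g, ∀ h ∈ H₀, c * h * c⁻¹ ∈ H₀ := by
      rintro c hc _ ⟨h, hh, rfl⟩
      obtain ⟨h', hh', e⟩ := hconjz c hc h hh
      exact ⟨h', hh', e⟩
    let L : Subgroup X :=
      { carrier := {y | ∃ c ∈ zpowers g, ∃ h ∈ H₀, y = c * h}
        mul_mem' := by
          rintro _ _ ⟨c, hc, h, hh, rfl⟩ ⟨c', hc', h', hh', rfl⟩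
          refine ⟨c * c', mul_mem hc hc', c'⁻¹ * h * c' * h', ?_, by group⟩
          refine mul_mem ?_ hh'
          simpa using hconj₀ c'⁻¹ (inv_mem hc') h hh
        one_mem' := ⟨1, one_mem _, 1, one_mem _, by simp⟩
        inv_mem' := by
          rintro _ ⟨c, hc, h, hh, rfl⟩
          refine ⟨c⁻¹, inv_mem hc, c * h⁻¹ * c⁻¹, hconj₀ c hc _ (inv_mem hh), by group⟩ }
    have hM : zpowers g ⊔ H₀ ≠ ⊤ := by
      intro he
      have hle : zpowers g ⊔ H₀ ≤ L := by
        refine sup_le ?_ ?_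
        · intro c hc
          exact ⟨c, hc, 1, one_mem _, by simp⟩
        · intro h hh
          exact ⟨1, one_mem _, h, hh, by simp⟩
      apply hH
      rw [eq_top_iff]
      rintro y -
      have hy : (y : X) ∈ L := hle (by rw [he]; exact mem_top _)
      obtain ⟨c, hc, h, hh, e⟩ := hy
      have hhQ : h ∈ (Q₁ : Subgroup X) := by
        obtain ⟨h', -, rfl⟩ := hh
        exact h'.2
      have hcQ : c ∈ (Q₁ : Subgroup X) := by
        have : c = (y : X) * h⁻¹ := by rw [e]; group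
        rw [this]
        exact mul_mem y.2 (inv_mem hhQ)
      obtain ⟨i, hi⟩ := hc
      have hi' : g ^ i = c := hi
      have h1 : c = 1 := by
        rw [← hi'] at hcQ ⊢
        exact hzinf i hcQ
      rw [h1, one_mul] at e
      obtain ⟨h', hh', e'⟩ := hh
      have : y = h' := Subtype.ext (e.trans e'.symm)
      rw [this]
      exact hh'
    have hxH₀ : (x : X) ∈ H₀ := ⟨x, hx, rfl⟩
    have h2 := hcomm _ hM x ((le_sup_right : H₀ ≤ _) hxH₀) x.2 g
      ((le_sup_left : zpowers g ≤ _) (mem_zpowers _)) (mem_zpowers g)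
    apply Subtype.ext
    rw [hσ, h2]
    simp

end Cfsg.Agent.Lib.ClassSizes.Sch
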