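import Mathlib
import Cfsg.Agent.Lib.Coprime.FrobCount
import Cfsg.Agent.Lib.PGroup.Basic

set_option autoImplicit false

namespace Cfsg.Agent.Lib.ClassSizes.SolvFrob

open Subgroup Finset
open Cfsg.Agent.Lib.Coprime

universe u

/-- A nontrivial finite solvable group has a normal subgroup of prime index. -/
theorem exists_normal_prime_index (G : Type*) [Group G] [Finite G] [Group.IsSolvable G] [Nontrivial G] :
    ∃ H : Subgroup G, H.Normal ∧ H.index.Prime := by
  classical
  have hlt := IsSolvable.commutator_lt_top_of_nontrivial G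
  obtain ⟨M, hM, hle⟩ : ∃ M : Subgroup G, IsCoatom M ∧ commutator G ≤ M := by
    rcases eq_top_or_exists_le_coatom (commutator G) with h | h
    · exact absurd h hlt.ne
    · obtain ⟨M, hM, hle⟩ := h
      exact ⟨M, hM, hle⟩
  haveI hMn : M.Normal := by
    have := Subgroup.Normal.mk (H := M) (fun x hx g => ?_)
    · exact this
    · have h1 : g * x * g⁻¹ * x⁻¹ ∈ M := hle (Subgroup.commutator_mem_commutator
        (mem_top g) (mem_top x))
      have h2 := M.mul_mem h1 hx
      simpa using h2
  refine ⟨M, hMn, ?_⟩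
  letI : CommGroup (G ⧸ M) :=
    { (inferInstance : Group (G ⧸ M)) with
      mul_comm := by
        intro a b
        obtain ⟨x, rfl⟩ := QuotientGroup.mk_surjective a
        obtain ⟨y, rfl⟩ := QuotientGroup.mk_surjective b
        rw [← QuotientGroup.mk_mul, ← QuotientGroup.mk_mul, QuotientGroup.eq]
        have h1 : (x * y)⁻¹ * (y * x) = y⁻¹ * x⁻¹ * y⁻¹⁻¹ * x⁻¹⁻¹ := by group
        rw [h1]
        exact hle (Subgroup.commutator_mem_commutator (mem_top _) (mem_top _)) }
  haveI hsimple : IsSimpleGroup (G ⧸ M) := by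
    haveI : Nontrivial (G ⧸ M) := QuotientGroup.nontrivial_iff.mpr hM.1
    refine ⟨fun N _ => ?_⟩
    by_cases hN : N = ⊤
    · exact Or.inr hN
    · left
      have h1 : M ≤ N.comap (QuotientGroup.mk' M) := by
        intro x hx
        rw [mem_comap]
        have : (QuotientGroup.mk' M) x = 1 := (QuotientGroup.eq_one_iff x).mpr hx
        rw [this]
        exact N.one_mem
      rcases h1.eq_or_lt with h2 | h2
      · rw [eq_bot_iff]
        intro y hy
        obtain ⟨x, rfl⟩ := QuotientGroup.mk_surjective y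
        have : x ∈ N.comap (QuotientGroup.mk' M) := hy
        rw [← h2] at this
        exact (QuotientGroup.eq_one_iff x).mpr this
      · have h3 := hM.2 _ h2
        exfalso
        apply hN
        rw [eq_top_iff]
        intro y _
        obtain ⟨x, rfl⟩ := QuotientGroup.mk_surjective y
        have : x ∈ N.comap (QuotientGroup.mk' M) := by rw [h3]; trivial
        exact this
  have := IsSimpleGroup.prime_card (α := G ⧸ M)
  rwa [Subgroup.index]

/-- The set of solutions is conjugation closed, hence any subgroup with that carrier is normal. -/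
theorem normal_of_set {G : Type*} [Group G] {L : Subgroup G} {n : ℕ}
    (h : (L : Set G) = {x | x ^ n = 1}) : L.Normal := by
  refine ⟨fun x hx g => ?_⟩
  have h1 : x ^ n = 1 := by
    have : x ∈ (L : Set G) := hx
    rw [h] at this
    exact this
  have h2 : (g * x * g⁻¹) ∈ (L : Set G) := by
    rw [h]
    show (g * x * g⁻¹) ^ n = 1
    rw [conj_pow, h1]
    group
  exact h2

section Decomp

variable {G : Type u} [Group G] [Fintype G] [DecidableEq G]

open Classical in
/-- Decomposition of the solutions in a coset of a normal subgroup of index `p` along the `p`-part. -/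
theorem dvd_card_coset {H : Subgroup G} [H.Normal] {p a m : ℕ} (hp : p.Prime) (ha : 1 ≤ a) (hm : ¬ p ∣ m)
    (hidx : H.index = p) (hmG : m ∣ Nat.card G) (c : G ⧸ H) :
    m ∣ (univ.filter fun x : G => x ^ (p ^ a * m) = 1 ∧ (x : G ⧸ H) = c).card := by
  classical
  set P := p ^ a with hP
  have hco : P.Coprime m := Nat.Coprime.pow_left _ ((Nat.Prime.coprime_iff_not_dvd hp).mpr hm)
  have hpP : p ∣ P := by rw [hP]; exact dvd_pow_self p (by omega)
  have hQcard : Nat.card (G ⧸ H) = p := hidx
  haveI : Fact p.Prime := ⟨hp⟩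
  have hQp : ∀ q : G ⧸ H, q ^ p = 1 := by
    intro q
    have := pow_card_eq_one' (x := q)
    rwa [hQcard] at this
  haveI hcyc : IsCyclic (G ⧸ H) := isCyclic_of_prime_card hQcard
  have hQcomm : ∀ s t : G ⧸ H, s * t = t * s := (IsCyclic.commGroup (α := G ⧸ H)).mul_comm
  have hQm : ∀ q : G ⧸ H, q ^ m = 1 → q = 1 := by
    intro q hq
    have h1 := orderOf_dvd_of_pow_eq_one hq
    have h2 := orderOf_dvd_of_pow_eq_one (hQp q)
    rcases (Nat.dvd_prime hp).mp h2 with h3 | h3
    · exact orderOf_eq_one_iff.mp h3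
    · rw [h3] at h1
      exact absurd h1 hm
  obtain ⟨u, hu1, hu2⟩ := Nat.chineseRemainder hco 1 0
  obtain ⟨v, hv1, hv2⟩ := Nat.chineseRemainder hco 0 1
  have hmu : m ∣ u := (Nat.modEq_zero_iff_dvd).mp hu2
  have hPv : P ∣ v := (Nat.modEq_zero_iff_dvd).mp hv1
  have huv : u + v ≡ 1 [MOD P * m] := by
    rw [← Nat.modEq_and_modEq_iff_modEq_mul hco]
    constructor
    · have := hu1.add hv1
      simpa using this
    · have := hu2.add hv2
      simpa using this
  have huc : ∀ q : G ⧸ H, q ^ u = q := by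
    intro q
    have h1 : u ≡ 1 [MOD p] := hu1.of_dvd hpP
    have h2 : q ^ u = q ^ (u % orderOf q) := (pow_mod_orderOf q u).symm
    rw [h2, show u % orderOf q = 1 % orderOf q from
      Nat.ModEq.of_dvd (orderOf_dvd_of_pow_eq_one (hQp q)) h1, pow_mod_orderOf, pow_one]
  let Y : Finset G := univ.filter fun y : G => y ^ P = 1 ∧ (y : G ⧸ H) = c
  have hsum : (univ.filter fun x : G => x ^ (P * m) = 1 ∧ (x : G ⧸ H) = c).card =
      ∑ y ∈ Y, centSol m y := by
    have hsig : ∑ y ∈ Y, centSol m y =
        (Y.sigma fun y => univ.filter fun z : G => Commute z y ∧ z ^ m = 1).card := by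
      rw [card_sigma]
      rfl
    rw [hsig]
    refine Finset.card_bij' (fun x _ => ⟨x ^ u, x ^ v⟩) (fun t _ => t.1 * t.2) ?_ ?_ ?_ ?_
    · intro x hx
      obtain ⟨hx1, hx2⟩ := (mem_filter.mp hx).2
      have hy : (x ^ u) ^ P = 1 := by
        obtain ⟨w, rfl⟩ := hmu
        rw [← pow_mul, show m * w * P = P * m * w by ring, pow_mul, hx1, one_pow]
      have hz : (x ^ v) ^ m = 1 := by
        obtain ⟨w, rfl⟩ := hPv
        rw [← pow_mul, show P * w * m = P * m * w by ring, pow_mul, hx1, one_pow]
      have hcomm : Commute (x ^ v) (x ^ u) := Commute.pow_pow_self x v u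
      have hc : ((x ^ u : G) : G ⧸ H) = c := by
        rw [QuotientGroup.mk_pow, huc, hx2]
      simp only [mem_sigma, Y, mem_filter, mem_univ, true_and]
      exact ⟨⟨hy, hc⟩, hcomm, hz⟩
    · rintro ⟨y, z⟩ ht
      simp only [mem_sigma, Y, mem_filter, mem_univ, true_and] at ht
      obtain ⟨⟨hy, hyc⟩, hc, hz⟩ := ht
      simp only [mem_filter, mem_univ, true_and]
      constructor
      · rw [hc.symm.mul_pow, pow_mul y, hy, one_pow, one_mul, show P * m = m * P by ring, pow_mul z, hz,
          one_pow]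
      · have hz1 : (z : G ⧸ H) = 1 := hQm _ (by rw [← QuotientGroup.mk_pow, hz]; rfl)
        rw [QuotientGroup.mk_mul, hyc, hz1, mul_one]
    · intro x hx
      obtain ⟨hx1, hx2⟩ := (mem_filter.mp hx).2
      show x ^ u * x ^ v = x
      rw [← pow_add, ← pow_mod_orderOf, show (u + v) % orderOf x = 1 % orderOf x from
        Nat.ModEq.of_dvd (orderOf_dvd_of_pow_eq_one hx1) huv, pow_mod_orderOf, pow_one]
    · rintro ⟨y, z⟩ ht
      simp only [mem_sigma, Y, mem_filter, mem_univ, true_and] at ht
      obtain ⟨⟨hy, hyc⟩, hc, hz⟩ := ht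
      have hyu : y ^ u = y := by
        have hyP : orderOf y ∣ P := orderOf_dvd_of_pow_eq_one hy
        rw [← pow_mod_orderOf, show u % orderOf y = 1 % orderOf y from
          Nat.ModEq.of_dvd hyP hu1, pow_mod_orderOf, pow_one]
      have hzu : z ^ u = 1 := by
        obtain ⟨w, rfl⟩ := hmu
        rw [pow_mul, hz, one_pow]
      have hyv : y ^ v = 1 := by
        obtain ⟨w, rfl⟩ := hPv
        rw [pow_mul, hy, one_pow]
      have hzv : z ^ v = z := by
        have hzm : orderOf z ∣ m := orderOf_dvd_of_pow_eq_one hz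
        rw [← pow_mod_orderOf, show v % orderOf z = 1 % orderOf z from Nat.ModEq.of_dvd hzm hv2,
          pow_mod_orderOf, pow_one]
      show (⟨(y * z) ^ u, (y * z) ^ v⟩ : Σ _ : G, G) = ⟨y, z⟩
      rw [hc.symm.mul_pow, hc.symm.mul_pow, hyu, hzu, hyv, hzv, mul_one, one_mul]
  rw [hsum]
  apply dvd_sum_of_setoid _ (IsConj.setoid G)
  · intro x _ y _ hxy
    exact centSol_eq_of_isConj m (IsConj.symm hxy)
  · intro x hx
    have hx' : x ^ P = 1 ∧ (x : G ⧸ H) = c := (mem_filter.mp hx).2
    have hcard : (Y.filter fun y => (IsConj.setoid G).r y x).card =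
        (centralizer ({x} : Set G)).index := by
      rw [← Cfsg.Agent.Lib.ClassSizes.card_isConj_eq_index, Nat.card_eq_fintype_card,
        Fintype.card_subtype]
      congr 1
      ext y
      simp only [mem_filter, Y, mem_univ, true_and]
      constructor
      · rintro ⟨-, h⟩
        exact IsConj.symm h
      · intro h
        refine ⟨?_, IsConj.symm h⟩
        obtain ⟨g, rfl⟩ := isConj_iff.mp h
        constructor
        · rw [conj_pow, hx'.1]; group
        · rw [QuotientGroup.mk_mul, QuotientGroup.mk_mul, hQcomm (g : G ⧸ H), QuotientGroup.mk_inv,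
            mul_assoc, mul_inv_cancel, mul_one, hx'.2]
    rw [hcard]
    exact dvd_index_mul_centSol_of_dvd hmG x

open Classical in
/-- The non-trivial cosets of a normal subgroup of prime index contain equally many solutions. -/
theorem card_coset_le {H : Subgroup G} [H.Normal] {p a m : ℕ} (hp : p.Prime) (ha : 1 ≤ a) (hm : ¬ p ∣ m)
    (hm0 : 0 < m) (hidx : H.index = p) (c c' : G ⧸ H) (hc : c ≠ 1) (hc' : c' ≠ 1) :
    (univ.filter fun x : G => x ^ (p ^ a * m) = 1 ∧ (x : G ⧸ H) = c).card ≤
      (univ.filter fun x : G => x ^ (p ^ a * m) = 1 ∧ (x : G ⧸ H) = c').card := by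
  classical
  haveI : Fact p.Prime := ⟨hp⟩
  have hQcard : Nat.card (G ⧸ H) = p := hidx
  have hQp : ∀ q : G ⧸ H, q ^ p = 1 := by
    intro q
    have := pow_card_eq_one' (x := q)
    rwa [hQcard] at this
  obtain ⟨i, hi⟩ : ∃ i : ℕ, c ^ i = c' := mem_powers_of_prime_card hQcard hc
  have hpi : ¬ p ∣ i := by
    rintro ⟨j, rfl⟩
    apply hc'
    rw [← hi, pow_mul, hQp, one_pow]
  have hco : (p ^ a).Coprime m := Nat.Coprime.pow_left _ ((Nat.Prime.coprime_iff_not_dvd hp).mpr hm)
  have hpP : p ∣ p ^ a := dvd_pow_self p (by omega)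
  obtain ⟨r, hr1, hr2⟩ := Nat.chineseRemainder hco i 1
  have hrp : r ≡ i [MOD p] := hr1.of_dvd hpP
  have hcopr : Nat.Coprime r (p ^ a * m) := by
    apply Nat.Coprime.mul_right
    · apply Nat.Coprime.pow_right
      apply Nat.Coprime.symm
      rw [Nat.Prime.coprime_iff_not_dvd hp]
      intro h
      exact hpi ((Nat.ModEq.dvd_iff hrp (dvd_refl p)).mp h)
    · have := hr2.gcd_eq
      simpa [Nat.Coprime] using this
  have hn1 : 1 < p ^ a * m := by
    have h1 : 1 < p ^ a := Nat.one_lt_pow (by omega) hp.one_lt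
    nlinarith
  obtain ⟨r', -, hr'⟩ := Nat.exists_mul_mod_eq_one_of_coprime hcopr hn1
  set n := p ^ a * m with hn
  have hback : ∀ x : G, x ^ n = 1 → (x ^ r) ^ r' = x := by
    intro x hx
    rw [← pow_mul]
    conv_lhs => rw [← Nat.div_add_mod (r * r') n, hr', pow_add, pow_mul, hx, one_pow, one_mul, pow_one]
  apply Finset.card_le_card_of_injOn (fun x => x ^ r)
  · intro x hx
    have hx' := (mem_filter.mp (Finset.mem_coe.mp hx)).2
    simp only [Finset.coe_filter, mem_univ, true_and, Set.mem_setOf_eq]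
    constructor
    · rw [← pow_mul, mul_comm, pow_mul, hx'.1, one_pow]
    · rw [QuotientGroup.mk_pow, hx'.2, ← hi]
      rw [← pow_mod_orderOf c r, ← pow_mod_orderOf c i,
        show r % orderOf c = i % orderOf c from Nat.ModEq.of_dvd (orderOf_dvd_of_pow_eq_one (hQp c)) hrp]
  · intro x hx w hw h
    have hx' := (mem_filter.mp (Finset.mem_coe.mp hx)).2
    have hw' := (mem_filter.mp (Finset.mem_coe.mp hw)).2
    have h1 := congrArg (· ^ r') h
    simp only at h1
    rwa [hback x hx'.1, hback w hw'.1] at h1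

end Decomp

section Main

theorem card_le_of_subgroup {G : Type*} [Group G] [Finite G] (H : Subgroup G) (n : ℕ) :
    Nat.card {x : H // x ^ n = 1} ≤ Nat.card {x : G // x ^ n = 1} := by
  apply Nat.card_le_card_of_injective
    (fun x : {x : H // x ^ n = 1} => (⟨(x.1 : G), by
      have := congrArg Subtype.val x.2
      simpa using this⟩ : {x : G // x ^ n = 1}))
  intro x y h
  apply Subtype.ext
  apply Subtype.ext
  exact Subtype.mk.inj h

theorem subset_of_card_eq {G : Type*} [Group G] [Finite G] (H : Subgroup G) (n : ℕ)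
    (h : Nat.card {x : H // x ^ n = 1} = Nat.card {x : G // x ^ n = 1}) {x : G} (hx : x ^ n = 1) :
    x ∈ H := by
  have hinj : Function.Injective
      (fun x : {x : H // x ^ n = 1} => (⟨(x.1 : G), by
        have := congrArg Subtype.val x.2
        simpa using this⟩ : {x : G // x ^ n = 1})) := by
    intro x y h
    apply Subtype.ext
    apply Subtype.ext
    exact Subtype.mk.inj h
  have hbij := (Nat.bijective_iff_injective_and_card _).mpr ⟨hinj, h⟩
  obtain ⟨y, hy⟩ := hbij.2 ⟨x, hx⟩
  have : (y.1 : G) = x := congrArg Subtype.val hy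
  rw [← this]
  exact y.1.2

/-- Transport of the conclusion from a subgroup. -/
theorem exists_map_of_subgroup {G : Type*} [Group G] (H : Subgroup G) (n : ℕ) (K : Subgroup H)
    (hK : (K : Set H) = {x | x ^ n = 1}) :
    ∀ x : G, x ∈ K.map H.subtype ↔ x ∈ H ∧ x ^ n = 1 := by
  intro x
  constructor
  · rintro ⟨y, hy, rfl⟩
    refine ⟨y.2, ?_⟩
    have h1 : y ∈ (K : Set H) := hy
    rw [hK] at h1
    have h2 : y ^ n = 1 := h1
    simpa using congrArg Subtype.val h2
  · rintro ⟨h1, h2⟩
    refine ⟨⟨x, h1⟩, ?_, rfl⟩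
    show (⟨x, h1⟩ : H) ∈ (K : Set H)
    rw [hK]
    show (⟨x, h1⟩ : H) ^ n = 1
    apply Subtype.ext
    simpa using h2

theorem main_aux : ∀ (N : ℕ) (G : Type u) [Group G] [Finite G] [Group.IsSolvable G], Nat.card G = N →
    ∀ n, n ∣ N → Nat.card {x : G // x ^ n = 1} = n →
      ∃ H : Subgroup G, (H : Set G) = {x | x ^ n = 1} := by
  intro N
  induction N using Nat.strong_induction_on with
  | _ N ih =>
  intro G _ _ _ hN n hn hcount
  classical
  haveI := Fintype.ofFinite G
  by_cases htriv : Subsingleton G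
  · refine ⟨⊤, ?_⟩
    ext x
    simp [Subsingleton.elim x 1]
  haveI : Nontrivial G := not_subsingleton_iff_nontrivial.mp htriv
  obtain ⟨H, hHn, hHp⟩ := exists_normal_prime_index G
  obtain ⟨p, hp⟩ : ∃ p, p = H.index := ⟨_, rfl⟩
  rw [← hp] at hHp
  haveI : Fact p.Prime := ⟨hHp⟩
  have hcardG : Nat.card H * p = N := by
    rw [hp, H.card_mul_index, hN]
  have hHlt : Nat.card H < N := by
    have := hHp.two_le
    have h0 : 0 < Nat.card H := Nat.card_pos
    nlinarith
  by_cases hnH : n ∣ Nat.card H
  · -- all solutions lie in `H`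
    have hF := frobenius_count (G := H) n hnH
    have hpos : 0 < Nat.card {x : H // x ^ n = 1} := by
      haveI : Nonempty {x : H // x ^ n = 1} := ⟨⟨1, one_pow n⟩⟩
      exact Nat.card_pos
    have hle := card_le_of_subgroup H n
    rw [hcount] at hle
    have heq : Nat.card {x : H // x ^ n = 1} = n := le_antisymm hle (Nat.le_of_dvd hpos hF)
    obtain ⟨K, hK⟩ := ih _ hHlt H rfl n hnH heq
    refine ⟨K.map H.subtype, ?_⟩
    ext x
    have h1 := exists_map_of_subgroup H n K hK x
    rw [SetLike.mem_coe, h1]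
    exact ⟨fun h => h.2, fun h => ⟨subset_of_card_eq H n (by rw [heq, hcount]) h, h⟩⟩
  · -- arithmetic
    obtain ⟨b, h', hh', hcH⟩ := Nat.exists_eq_pow_mul_and_not_dvd (Nat.card_pos (α := H)).ne' p hHp.ne_one
    have hnpos : 0 < n := by
      have h0 : 0 < N := hN ▸ Nat.card_pos
      exact Nat.pos_of_dvd_of_pos hn h0
    obtain ⟨a', m, hm, hnm⟩ := Nat.exists_eq_pow_mul_and_not_dvd hnpos.ne' p hHp.ne_one
    have hNform : N = p ^ (b + 1) * h' := by
      rw [← hcardG, hcH, pow_succ]; ring
    have hmh' : m ∣ h' := by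
      have h1 : m ∣ p ^ (b + 1) * h' := by
        rw [← hNform]
        exact (Dvd.intro_left _ hnm.symm).trans hn
      exact ((Nat.Coprime.pow_left _ ((Nat.Prime.coprime_iff_not_dvd hHp).mpr hm)).symm).dvd_of_dvd_mul_left h1
    have ha'le : a' ≤ b + 1 := by
      have h1 : p ^ a' ∣ p ^ (b + 1) * h' := by
        rw [← hNform]
        exact (Dvd.intro _ hnm.symm).trans hn
      have h2 : p ^ a' ∣ p ^ (b + 1) :=
        (Nat.Coprime.pow_left _ ((Nat.Prime.coprime_iff_not_dvd hHp).mpr hh')).dvd_of_dvd_mul_right h1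
      exact (Nat.pow_dvd_pow_iff_le_right hHp.one_lt).mp h2
    have ha' : a' = b + 1 := by
      by_contra hne
      apply hnH
      rw [hnm, hcH]
      exact Nat.mul_dvd_mul (pow_dvd_pow p (by omega)) hmh'
    subst ha'
    obtain ⟨n₁, hn₁⟩ : ∃ n₁, n₁ = p ^ b * m := ⟨_, rfl⟩
    have hn_eq : n = p * n₁ := by rw [hnm, hn₁, pow_succ]; ring
    have hn₁H : n₁ ∣ Nat.card H := by
      rw [hcH, hn₁]
      exact mul_dvd_mul_left _ hmh'
    have hmG : m ∣ Nat.card G := by
      rw [hN, hNform]
      exact Dvd.dvd.mul_left hmh' _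
    have hm0 : 0 < m := by
      by_contra h
      have : m = 0 := by omega
      rw [this, mul_zero] at hnm
      omega
    -- order arithmetic inside `H`
    have hord : ∀ x : G, x ∈ H → x ^ (p ^ (b + 1) * m) = 1 → x ^ n₁ = 1 := by
      intro x hxH hx
      have h1 : orderOf x ∣ p ^ b * h' := by
        rw [← hcH]
        have := orderOf_dvd_natCard (⟨x, hxH⟩ : H)
        simpa [Subgroup.orderOf_mk] using this
      have h2 : orderOf x ∣ p ^ b * (p * m) := by
        have := orderOf_dvd_of_pow_eq_one hx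
        rwa [pow_succ, mul_assoc] at this
      have h3 := Nat.dvd_gcd h1 h2
      rw [Nat.gcd_mul_left, Nat.Coprime.gcd_mul_left_cancel_right m
        ((Nat.Prime.coprime_iff_not_dvd hHp).mpr hh'), Nat.gcd_eq_right hmh'] at h3
      rw [hn₁]
      exact orderOf_dvd_iff_pow_eq_one.mp h3
    -- a Sylow subgroup
    have hP : ∃ P : Sylow p G, True := ⟨default, trivial⟩
    obtain ⟨P, -⟩ := hP
    have hPcard : Nat.card (P : Subgroup G) = p ^ (b + 1) := by
      have h1 : p ^ (b + 1) ∣ Nat.card (P : Subgroup G) :=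
        P.pow_dvd_card_of_pow_dvd_card (by rw [hN, hNform]; exact dvd_mul_right _ _)
      obtain ⟨k, hk⟩ := IsPGroup.iff_card.mp P.isPGroup'
      have h2 : Nat.card (P : Subgroup G) ∣ p ^ (b + 1) * h' := by
        rw [← hNform, ← hN]
        exact Subgroup.card_subgroup_dvd_card _
      rw [hk] at h1 h2 ⊢
      have h3 : p ^ k ∣ p ^ (b + 1) :=
        (Nat.Coprime.pow_left _ ((Nat.Prime.coprime_iff_not_dvd hHp).mpr hh')).dvd_of_dvd_mul_right h2
      congr 1
      exact le_antisymm ((Nat.pow_dvd_pow_iff_le_right hHp.one_lt).mp h3)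
        ((Nat.pow_dvd_pow_iff_le_right hHp.one_lt).mp h1)
    have hPpow : ∀ x ∈ (P : Subgroup G), x ^ (p ^ (b + 1)) = 1 := by
      intro x hx
      have := pow_card_eq_one' (x := (⟨x, hx⟩ : (P : Subgroup G)))
      rw [hPcard] at this
      simpa using congrArg Subtype.val this
    have hPH : ¬ (P : Subgroup G) ≤ H := by
      intro h
      have h1 := Subgroup.card_dvd_of_le h
      rw [hPcard, hcH, pow_succ, mul_dvd_mul_iff_left (by have := hHp.pos; positivity)] at h1
      have h2 := Nat.dvd_trans (dvd_refl p) h1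
      obtain ⟨t, ht⟩ := h1
      exact hh' ⟨t, ht⟩
    obtain ⟨g, hgP, hgH⟩ := SetLike.not_le_iff_exists.mp hPH
    -- counting in cosets
    haveI : Fintype (G ⧸ H) := Fintype.ofFinite _
    have hQcard : Nat.card (G ⧸ H) = p := hp.symm
    have hQfin : Fintype.card (G ⧸ H) = p := by rw [← Nat.card_eq_fintype_card]; exact hQcard
    let T : G ⧸ H → Finset G := fun c => univ.filter fun x : G => x ^ n = 1 ∧ (x : G ⧸ H) = c
    have hTsum : ∑ c, (T c).card = n := by
      have h1 : (univ.filter fun x : G => x ^ n = 1).card = n := by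
        have := hcount
        rw [Nat.card_eq_fintype_card, Fintype.card_subtype] at this
        convert this
      have h2 := Finset.card_eq_sum_card_fiberwise (s := univ.filter fun x : G => x ^ n = 1)
        (t := (univ : Finset (G ⧸ H))) (f := fun x : G => (x : G ⧸ H)) (fun _ _ => by simp)
      rw [h1] at h2
      rw [h2]
      apply Finset.sum_congr rfl
      intro c _
      congr 1
      ext x
      simp [T]
    have hg1 : (g : G ⧸ H) ≠ 1 := fun h => hgH ((QuotientGroup.eq_one_iff g).mp h)
    set c₀ : G ⧸ H := (g : G ⧸ H) with hc₀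
    -- nonempty
    have hTne : ∀ c, (T c).Nonempty := by
      intro c
      obtain ⟨i, hi⟩ : ∃ i : ℕ, c₀ ^ i = c := mem_powers_of_prime_card hQcard hg1
      refine ⟨g ^ i, ?_⟩
      simp only [T, mem_filter, mem_univ, true_and]
      constructor
      · have : (g ^ i) ^ n = (g ^ (p ^ (b + 1))) ^ (i * m) := by
          rw [hnm, ← pow_mul, ← pow_mul]
          congr 1
          ring
        rw [this, hPpow g hgP, one_pow]
      · rw [QuotientGroup.mk_pow, ← hi]
    -- equal sizes
    have heq : ∀ c, c ≠ 1 → (T c).card = (T c₀).card := by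
      intro c hc
      have h1 := card_coset_le (G := G) (H := H) hHp (a := b + 1) (by omega) hm hm0 hp.symm c c₀ hc hg1
      have h2 := card_coset_le (G := G) (H := H) hHp (a := b + 1) (by omega) hm hm0 hp.symm c₀ c hg1 hc
      rw [← hnm] at h1 h2
      exact le_antisymm h1 h2
    have hsplit : n = (T 1).card + (p - 1) * (T c₀).card := by
      rw [← hTsum, ← Finset.add_sum_erase univ (fun c => (T c).card) (mem_univ (1 : G ⧸ H))]
      congr 1
      rw [Finset.sum_congr rfl (fun c hc => heq c (Finset.ne_of_mem_erase hc)), Finset.sum_const,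
        Finset.card_erase_of_mem (mem_univ _), Finset.card_univ, hQfin, smul_eq_mul]
    -- the trivial coset
    have hT1 : (T 1).card = Nat.card {x : H // x ^ n₁ = 1} := by
      rw [Nat.card_eq_fintype_card, Fintype.card_subtype]
      symm
      refine Finset.card_bij (fun z _ => (z : G)) ?_ ?_ ?_
      · intro z hz
        have hz' : z ^ n₁ = 1 := (mem_filter.mp hz).2
        simp only [T, mem_filter, mem_univ, true_and]
        constructor
        · have h1 : (z : G) ^ n₁ = 1 := by simpa using congrArg Subtype.val hz'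
          rw [hn_eq, mul_comm, pow_mul, h1, one_pow]
        · exact (QuotientGroup.eq_one_iff _).mpr z.2
      · intro s _ t _ hst
        exact Subtype.ext hst
      · intro x hx
        simp only [T, mem_filter, mem_univ, true_and] at hx
        obtain ⟨h1, h2⟩ := hx
        have hxH : x ∈ H := (QuotientGroup.eq_one_iff x).mp h2
        refine ⟨⟨x, hxH⟩, ?_, rfl⟩
        simp only [mem_filter, mem_univ, true_and]
        apply Subtype.ext
        have := hord x hxH (hnm ▸ h1)
        simpa using this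
    have hFH := frobenius_count (G := H) n₁ hn₁H
    have hdvd0 : n₁ ∣ (T 1).card := by
      rw [hT1]
      refine hFH.trans ?_
      apply dvd_of_eq
      refine Nat.card_congr (Equiv.subtypeEquivRight fun x => ?_)
      rfl
    have hpbn₁ : p ^ b ∣ n₁ := hn₁ ▸ dvd_mul_right _ _
    have hpbn : p ^ b ∣ n := by
      rw [hn_eq]
      exact Dvd.dvd.mul_left hpbn₁ p
    have ht_p : p ^ b ∣ (T c₀).card := by
      have h1 : p ^ b ∣ (T 1).card := hpbn₁.trans hdvd0
      have h2 : p ^ b ∣ (T 1).card + (p - 1) * (T c₀).card := hsplit ▸ hpbn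
      have h3 : p ^ b ∣ (p - 1) * (T c₀).card := (Nat.dvd_add_right h1).mp h2
      have hcop : Nat.Coprime (p ^ b) (p - 1) := by
        apply Nat.Coprime.pow_left
        rw [Nat.coprime_self_sub_right hHp.one_lt.le]
        exact Nat.coprime_one_right _
      exact hcop.dvd_of_dvd_mul_left h3
    have ht_m : m ∣ (T c₀).card := by
      have := dvd_card_coset (G := G) (H := H) hHp (a := b + 1) (by omega) hm hp.symm hmG c₀
      rw [← hnm] at this
      exact this
    have hcopbm : Nat.Coprime (p ^ b) m :=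
      Nat.Coprime.pow_left _ ((Nat.Prime.coprime_iff_not_dvd hHp).mpr hm)
    have ht : n₁ ∣ (T c₀).card := hn₁ ▸ hcopbm.mul_dvd_of_dvd_of_dvd ht_p ht_m
    have htpos : 0 < (T c₀).card := Finset.card_pos.mpr (hTne c₀)
    have ht0pos : 0 < (T 1).card := Finset.card_pos.mpr (hTne 1)
    have hle1 := Nat.le_of_dvd htpos ht
    have hle0 := Nat.le_of_dvd ht0pos hdvd0
    have heq1 : (T 1).card = n₁ := by
      obtain ⟨q, hq⟩ : ∃ q, p = q + 1 := ⟨p - 1, by have := hHp.pos; omega⟩
      rw [hn_eq] at hsplit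
      rw [hq] at hsplit
      simp only [Nat.add_sub_cancel] at hsplit
      have h1 : q * n₁ ≤ q * (T c₀).card := Nat.mul_le_mul_left q hle1
      nlinarith
    have hK : Nat.card {x : H // x ^ n₁ = 1} = n₁ := hT1 ▸ heq1
    obtain ⟨K', hK'⟩ := ih _ hHlt H rfl n₁ hn₁H hK
    obtain ⟨K, hKdef⟩ : ∃ K, K = K'.map H.subtype := ⟨_, rfl⟩
    have hKmem : ∀ x, x ∈ K ↔ x ∈ H ∧ x ^ n₁ = 1 := by
      rw [hKdef]
      exact exists_map_of_subgroup H n₁ K' hK'
    haveI hKn : K.Normal := by
      refine ⟨fun x hx g => ?_⟩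
      rw [hKmem] at hx ⊢
      exact ⟨hHn.conj_mem x hx.1 g, by rw [conj_pow, hx.2]; group⟩
    have hKcard : Nat.card K = n₁ := by
      have h1 : Nat.card K = Nat.card K' := by
        rw [hKdef]
        exact Nat.card_congr (K'.equivMapOfInjective H.subtype H.subtype_injective).toEquiv.symm
      rw [h1, ← hK]
      exact Nat.card_congr (Equiv.setCongr hK')
    have hHcoatom : IsCoatom H := Cfsg.Agent.Lib.PGroup.isCoatom_of_index_prime (by rw [← hp]; exact hHp)
    have hHP : H ⊔ (P : Subgroup G) = ⊤ := by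
      apply hHcoatom.2
      exact lt_of_le_of_ne le_sup_left (fun h => hPH (h ▸ le_sup_right))
    have hinf : K ⊓ (P : Subgroup G) = H ⊓ (P : Subgroup G) := by
      apply le_antisymm
      · exact inf_le_inf_right _ (fun x hx => ((hKmem x).mp hx).1)
      · rintro x ⟨hxH, hxP⟩
        refine ⟨(hKmem x).mpr ⟨hxH, ?_⟩, hxP⟩
        apply hord x hxH
        rw [pow_mul, hPpow x hxP, one_pow]
    have hidxKP : K.relIndex (K ⊔ (P : Subgroup G)) = p := by
      rw [Subgroup.relIndex_sup_left, ← Subgroup.inf_relIndex_right, hinf,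
        Subgroup.inf_relIndex_right, ← Subgroup.relIndex_sup_left, hHP, Subgroup.relIndex_top_right, hp]
    have hLcard : Nat.card (K ⊔ (P : Subgroup G) : Subgroup G) = n := by
      have h1 := Subgroup.relIndex_mul_index (le_sup_left : K ≤ K ⊔ (P : Subgroup G))
      have h2 := K.card_mul_index
      have h3 := (K ⊔ (P : Subgroup G) : Subgroup G).card_mul_index
      have hpos : 0 < (K ⊔ (P : Subgroup G) : Subgroup G).index :=
        Nat.pos_of_ne_zero Subgroup.index_ne_zero_of_finite
      rw [hidxKP] at h1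
      rw [← h1, hKcard, ← h3] at h2
      rw [hn_eq, mul_comm p]
      exact (Nat.eq_of_mul_eq_mul_right hpos (by rw [← h2, mul_assoc])).symm
    refine ⟨K ⊔ (P : Subgroup G), ?_⟩
    apply Set.eq_of_subset_of_ncard_le
    · intro x hx
      have := pow_card_eq_one' (x := (⟨x, hx⟩ : (K ⊔ (P : Subgroup G) : Subgroup G)))
      rw [hLcard] at this
      show x ^ n = 1
      simpa using congrArg Subtype.val this
    · have h1 : ({x : G | x ^ n = 1}).ncard = n := by
        have h0 := Nat.card_coe_set_eq ({x : G | x ^ n = 1})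
        rw [← h0]
        exact hcount
      have h2 : ((K ⊔ (P : Subgroup G) : Subgroup G) : Set G).ncard = n := by
        rw [← hLcard]
        exact (Nat.card_coe_set_eq _).symm
      rw [h1, h2]
    · exact Set.toFinite _

/-- **Frobenius' theorem for solvable groups**. -/
theorem solvable_frobenius {G : Type u} [Group G] [Finite G] [Group.IsSolvable G] (n : ℕ)
    (hn : n ∣ Nat.card G) (hcount : Nat.card {x : G // x ^ n = 1} = n) :
    ∃ H : Subgroup G, H.Normal ∧ (H : Set G) = {x : G | x ^ n = 1} := by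
  obtain ⟨H, hH⟩ := main_aux _ G rfl n hn hcount
  exact ⟨H, normal_of_set hH, hH⟩

end Main

end Cfsg.Agent.Lib.ClassSizes.SolvFrob
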