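import Mathlib
import Cfsg.Agent.Lib.ClassSizes.PCentral

/-!
# There are no finite groups with `2p+1` Sylow `p`-subgroups (when `5` exactly divides `2p+1`).
-/

set_option autoImplicit false

namespace Cfsg.Agent.Lib.ClassSizes.SylowNumber

open scoped Pointwise
open Subgroup MulAction

variable {G : Type*} [Group G] [Finite G] {p : ℕ} [hp : Fact p.Prime]

/-- A `p`-element that normalizes a Sylow subgroup lies in it. -/
theorem mem_of_smul_eq {x : G} {R : Sylow p G} (hx : ∃ k : ℕ, orderOf x = p ^ k)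
    (h : x • R = R) : x ∈ R := by
  have hz : IsPGroup p (zpowers x) := by
    obtain ⟨k, hk⟩ := hx
    exact IsPGroup.of_card (n := k) (by rw [Nat.card_zpowers, hk])
  have h1 : R ∈ fixedPoints (zpowers x) (Sylow p G) := by
    rintro ⟨g, n, rfl⟩
    change x ^ n • R = R
    exact (stabilizer G R).zpow_mem (mem_stabilizer_iff.2 h) n
  have h2 := (hz.sylow_mem_fixedPoints_iff (Q := R)).1 h1
  exact h2 (mem_zpowers x)

theorem smul_eq_of_mem {x : G} {R : Sylow p G} (h : x ∈ R) : x • R = R :=
  Sylow.smul_eq_iff_mem_normalizer.2 (Subgroup.le_normalizer h)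

theorem isPElement_of_mem {R : Sylow p G} {x : G} (h : x ∈ R) : ∃ k : ℕ, orderOf x = p ^ k :=
  exists_orderOf_eq_prime_pow_of_mem R.isPGroup' h

/-- The orbit of `a` under the Sylow subgroup `R`. -/
def orb (R a : Sylow p G) : Set (Sylow p G) := MulAction.orbit (R : Subgroup G) a

theorem mem_orb {R a e : Sylow p G} : e ∈ orb R a ↔ ∃ r ∈ R, r • a = e := by
  constructor
  · rintro ⟨r, rfl⟩
    exact ⟨r.1, r.2, rfl⟩
  · rintro ⟨r, hr, rfl⟩
    exact ⟨⟨r, hr⟩, rfl⟩

theorem self_mem_orb (R a : Sylow p G) : a ∈ orb R a := MulAction.mem_orbit_self a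

theorem orb_eq_of_mem {R a e : Sylow p G} (h : e ∈ orb R a) : orb R e = orb R a :=
  MulAction.orbit_eq_iff.2 h

theorem not_mem_orb {R a : Sylow p G} (h : a ≠ R) : R ∉ orb R a := by
  intro h1
  obtain ⟨r, hr, hra⟩ := mem_orb.1 h1
  apply h
  have : r⁻¹ • R = a := by rw [← hra, inv_smul_smul]
  rw [← this]
  exact smul_eq_of_mem (R.inv_mem hr)

variable (hX : Nat.card (Sylow p G) = 2 * p + 1) (hp2 : p ≠ 2)

include hX hp2 in
theorem ncard_orb {R a : Sylow p G} (h : a ≠ R) : (orb R a).ncard = p := by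
  classical
  have hpp : p.Prime := hp.out
  have h1 : (orb R a).ncard = (stabilizer (R : Subgroup G) a).index :=
    (index_stabilizer (R : Subgroup G) a).symm
  obtain ⟨n, hn⟩ := IsPGroup.iff_card.1 R.isPGroup'
  have h2 : (orb R a).ncard ∣ p ^ n := by
    rw [h1, ← hn]
    exact index_dvd_card _
  obtain ⟨i, _, hi⟩ := (Nat.dvd_prime_pow hpp).1 h2
  have h3 : (orb R a).ncard ≤ 2 * p := by
    have h4 : orb R a ⊆ {R}ᶜ := fun e he => by
      intro he2
      rw [Set.mem_singleton_iff] at he2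
      exact not_mem_orb h (he2 ▸ he)
    have h5 := Set.ncard_le_ncard h4 (Set.toFinite _)
    have h6 : ({R}ᶜ : Set (Sylow p G)).ncard = 2 * p := by
      rw [Set.ncard_compl, Set.ncard_singleton, hX]
      simp
    omega
  have h7 : i ≠ 0 := by
    rintro rfl
    rw [pow_zero] at hi
    rw [Set.ncard_eq_one] at hi
    obtain ⟨b, hb⟩ := hi
    have hb1 : a = b := by
      have := self_mem_orb R a
      rw [hb] at this
      exact this
    have h8 : ∀ r ∈ R, r • a = a := by
      intro r hr
      have : r • a ∈ orb R a := mem_orb.2 ⟨r, hr, rfl⟩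
      rw [hb, Set.mem_singleton_iff, ← hb1] at this
      exact this
    have h9 : a ∈ fixedPoints (R : Subgroup G) (Sylow p G) := by
      rintro ⟨r, hr⟩
      exact h8 r hr
    have h10 := (R.isPGroup'.sylow_mem_fixedPoints_iff (Q := a)).1 h9
    apply h
    exact (Sylow.ext (R.is_maximal' a.isPGroup' h10))
  have h8 : i = 1 := by
    by_contra hne
    have h9 : 2 ≤ i := by omega
    have h10 : p ^ 2 ≤ p ^ i := Nat.pow_le_pow_right hpp.pos h9
    have h11 : 3 ≤ p := by
      have := hpp.two_le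
      omega
    rw [hi] at h3
    nlinarith
  rw [hi, h8, pow_one]

include hX hp2 in
/-- The other `R`-orbit. -/
theorem orb_eq_compl {R a c : Sylow p G} (ha : a ≠ R) (hc : c ≠ R) (hca : c ∉ orb R a) :
    orb R c = {y | y ∉ orb R a ∧ y ≠ R} := by
  classical
  apply Set.eq_of_subset_of_ncard_le
  · intro e he
    refine ⟨?_, ?_⟩
    · intro h2
      apply hca
      have h3 : orb R c = orb R a := by rw [← orb_eq_of_mem he, orb_eq_of_mem h2]
      rw [← h3]
      exact self_mem_orb R c
    · rintro rfl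
      exact not_mem_orb hc he
  · rw [ncard_orb hX hp2 hc]
    have h1 : ({y | y ∉ orb R a ∧ y ≠ R} : Set (Sylow p G)) = (orb R a ∪ {R})ᶜ := by
      ext y
      simp [and_comm]
    rw [h1, Set.ncard_compl, Set.ncard_union_eq, ncard_orb hX hp2 ha, Set.ncard_singleton, hX]
    · omega
    · rw [Set.disjoint_singleton_right]
      exact not_mem_orb ha
  · exact Set.toFinite _

include hX hp2 in
/-- There is a point outside an orbit and different from the base point. -/
theorem exists_other {R a : Sylow p G} (ha : a ≠ R) : ∃ c, c ≠ R ∧ c ∉ orb R a := by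
  classical
  by_contra hcon
  push Not at hcon
  have h1 : (Set.univ : Set (Sylow p G)) ⊆ orb R a ∪ {R} := by
    intro c _
    by_cases hc : c = R
    · right; exact hc
    · left; exact hcon c hc
  have h2 := Set.ncard_le_ncard h1 (Set.toFinite _)
  have h3 := Set.ncard_union_le (orb R a) {R}
  rw [Set.ncard_univ, hX] at h2
  rw [ncard_orb hX hp2 ha, Set.ncard_singleton] at h3
  have := hp.out.two_le
  omega


/-- The stabilizer in `R` of a point lies in a normal subgroup: if `x ∈ R` fixes `a ≠ R`, then `x`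
fixes the whole `R`-orbit of `a`. -/
theorem fix_orb {R a : Sylow p G} (ha : a ≠ R) (hcard : (orb R a).ncard = p) {x : G} (hx : x ∈ R)
    (hxa : x • a = a) {e : Sylow p G} (he : e ∈ orb R a) : x • e = e := by
  classical
  have hpp : p.Prime := hp.out
  set S : Subgroup (R : Subgroup G) := stabilizer (R : Subgroup G) a with hS
  have hi : S.index = p := by
    rw [hS, index_stabilizer]
    exact hcard
  have hne : Nontrivial (R : Subgroup G) := by
    by_contra hcon
    rw [not_nontrivial_iff_subsingleton] at hcon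
    have h1 : S.index = 1 := by
      rw [Subgroup.index_eq_one]
      exact Subsingleton.elim _ _
    rw [hi] at h1
    exact hpp.one_lt.ne' h1
  have hmf : (Nat.card (R : Subgroup G)).minFac = p := by
    obtain ⟨n, hn⟩ := IsPGroup.iff_card.1 R.isPGroup'
    rw [hn]
    have hn0 : n ≠ 0 := by
      rintro rfl
      rw [pow_zero] at hn
      have := Finite.one_lt_card (α := (R : Subgroup G))
      omega
    exact (Nat.Prime.pow_minFac hpp hn0)
  haveI hnorm : S.Normal := normal_of_index_eq_minFac_card (by rw [hi, hmf])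
  obtain ⟨r, hr, rfl⟩ := mem_orb.1 he
  have h1 : (⟨x, hx⟩ : (R : Subgroup G)) ∈ S := mem_stabilizer_iff.2 hxa
  have h2 := hnorm.conj_mem _ h1 (⟨r, hr⟩ : (R : Subgroup G))⁻¹
  have h3 : (r⁻¹ * x * r) • a = a := by
    have h4 := mem_stabilizer_iff.1 h2
    rw [inv_inv] at h4
    exact h4
  calc x • r • a = r • (r⁻¹ * x * r) • a := by
        rw [smul_smul, smul_smul]; congr 1; group
    _ = r • a := by rw [h3]

variable (hf : ∀ g : G, (∀ e : Sylow p G, g • e = e) → g = 1)

include hX hp2 in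
theorem exists_ne_one_fix {R a : Sylow p G} (ha : a ≠ R) (hne : Nat.card R ≠ p) :
    ∃ x ∈ R, x ≠ 1 ∧ x • a = a := by
  have h1 : (stabilizer (R : Subgroup G) a).index = p := by
    rw [index_stabilizer]
    exact ncard_orb hX hp2 ha
  have h2 := Subgroup.index_mul_card (stabilizer (R : Subgroup G) a)
  rw [h1] at h2
  have h3 : Nat.card (stabilizer (R : Subgroup G) a) ≠ 1 := by
    intro h4
    rw [h4, mul_one] at h2
    exact hne h2.symm
  have h4 : stabilizer (R : Subgroup G) a ≠ ⊥ := by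
    intro h5
    rw [h5] at h3
    simp at h3
  obtain ⟨x, hx1⟩ := Subgroup.ne_bot_iff_exists_ne_one.1 h4
  refine ⟨x.1.1, x.1.2, ?_, x.2⟩
  intro h6
  apply hx1
  exact Subtype.ext (Subtype.ext h6)

include hX hp2 hf in
/-- If Sylow subgroups are not of order `p`, each orbit is the support of an element. -/
theorem exists_support {R a : Sylow p G} (ha : a ≠ R) (hne : Nat.card R ≠ p) :
    ∃ x ∈ R, (∀ e, e ∉ orb R a → x • e = e) ∧ (∀ e ∈ orb R a, x • e ≠ e) := by
  obtain ⟨c, hc, hca⟩ := exists_other hX hp2 ha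
  obtain ⟨x, hx, hx1, hxc⟩ := exists_ne_one_fix hX hp2 hc hne
  have hfc : ∀ e, e ∉ orb R a → x • e = e := by
    intro e he
    by_cases heR : e = R
    · rw [heR]; exact smul_eq_of_mem hx
    · have h1 : e ∈ orb R c := by
        rw [orb_eq_compl hX hp2 ha hc hca]
        exact ⟨he, heR⟩
      exact fix_orb hc (ncard_orb hX hp2 hc) hx hxc h1
  refine ⟨x, hx, hfc, ?_⟩
  intro e he hxe
  apply hx1
  apply hf
  intro y
  by_cases hy : y ∈ orb R a
  · have heR : e ≠ R := by
      rintro rfl
      exact not_mem_orb ha he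
    have h1 : y ∈ orb R e := by rw [orb_eq_of_mem he]; exact hy
    exact fix_orb heR (ncard_orb hX hp2 heR) hx hxe h1
  · exact hfc y hy

include hX hp2 hf in
/-- Block property: an orbit of some Sylow subgroup is an orbit of each Sylow subgroup outside it. -/
theorem block_orb {R a R' a' : Sylow p G} (ha : a ≠ R) (hne : Nat.card R ≠ p) (hR' : R' ∉ orb R a)
    (ha' : a' ∈ orb R a) : orb R' a' = orb R a := by
  obtain ⟨x, hx, hx1, hx2⟩ := exists_support hX hp2 hf ha hne
  have hxR' : x ∈ R' := mem_of_smul_eq (isPElement_of_mem hx) (hx1 R' hR')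
  have haR' : a' ≠ R' := by
    rintro rfl
    exact hR' ha'
  apply Set.eq_of_subset_of_ncard_le
  · intro e he
    by_contra hcon
    have h1 := hx1 e hcon
    have heR' : e ≠ R' := by
      rintro rfl
      exact not_mem_orb haR' he
    have h2 : a' ∈ orb R' e := by rw [orb_eq_of_mem he]; exact self_mem_orb _ _
    exact hx2 a' ha' (fix_orb heR' (ncard_orb hX hp2 heR') hxR' h1 h2)
  · rw [ncard_orb hX hp2 ha, ncard_orb hX hp2 haR']
  · exact Set.toFinite _

include hX hp2 hf in
/-- All Sylow subgroups have order `p`. -/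
theorem card_sylow_eq (R : Sylow p G) : Nat.card R = p := by
  classical
  by_contra hne
  have hcard : ∀ S : Sylow p G, Nat.card S ≠ p := by
    intro S h
    apply hne
    rw [Sylow.card_eq_multiplicity] at h ⊢
    exact h
  -- blocks
  let IsB : Set (Sylow p G) → Prop := fun B => ∃ R a : Sylow p G, a ≠ R ∧ B = orb R a
  let C : Set (Sylow p G) → Sylow p G → Set (Sylow p G) := fun B y => {z | z ∉ B ∧ z ≠ y}
  have hI : ∀ B y, IsB B → y ∉ B → IsB (C B y) := by
    rintro B y ⟨S, a, ha, rfl⟩ hy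
    have hay : a ≠ y := by
      rintro rfl
      exact hy (self_mem_orb _ _)
    have h1 := block_orb hX hp2 hf ha (hcard S) hy (self_mem_orb _ _)
    rw [← h1] at hy ⊢
    obtain ⟨c, hc, hca⟩ := exists_other hX hp2 hay
    exact ⟨y, c, hc, (orb_eq_compl hX hp2 hay hc hca).symm⟩
  have hII : ∀ B B' y, IsB B → IsB B' → y ∉ B → y ∉ B' → B' = B ∨ B' = C B y := by
    rintro B B' y ⟨S, a, ha, rfl⟩ ⟨S', b, hb, rfl⟩ hy hy'
    have hay : a ≠ y := by
      rintro rfl
      exact hy (self_mem_orb _ _)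
    have hby : b ≠ y := by
      rintro rfl
      exact hy' (self_mem_orb _ _)
    have h1 := block_orb hX hp2 hf ha (hcard S) hy (self_mem_orb _ _)
    have h2 := block_orb hX hp2 hf hb (hcard S') hy' (self_mem_orb _ _)
    rw [← h1, ← h2]
    by_cases hba : b ∈ orb y a
    · left
      exact orb_eq_of_mem hba
    · right
      exact orb_eq_compl hX hp2 hay hby hba
  -- choose the configuration
  obtain ⟨a, ha⟩ : ∃ a : Sylow p G, a ≠ R := by
    by_contra hcon
    push Not at hcon
    have h1 : Nat.card (Sylow p G) = 1 := Nat.card_eq_one_iff_unique.2 ⟨⟨fun x y => by rw [hcon x, hcon y]⟩, ⟨R⟩⟩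
    rw [h1] at hX
    have := hp.out.two_le
    omega
  obtain ⟨b, hb, hba⟩ := exists_other hX hp2 ha
  obtain ⟨a', haa', hne'⟩ : ∃ a' ∈ orb R a, a' ≠ a := by
    by_contra hcon
    push Not at hcon
    have h1 : orb R a ⊆ {a} := fun y hy => hcon y hy
    have h2 := Set.ncard_le_ncard h1 (Set.toFinite _)
    rw [ncard_orb hX hp2 ha, Set.ncard_singleton] at h2
    have := hp.out.two_le
    omega
  have hD₂ : IsB (orb R b) := ⟨R, b, hb, rfl⟩
  have hdisj : ∀ y, y ∈ orb R a → y ∉ orb R b := by
    intro y hy hy2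
    apply hba
    have h3 : orb R b = orb R a := by rw [← orb_eq_of_mem hy2, orb_eq_of_mem hy]
    rw [← h3]
    exact self_mem_orb _ _
  have haD₂ : a ∉ orb R b := hdisj a (self_mem_orb _ _)
  have haD₂' : a' ∉ orb R b := hdisj a' haa'
  have hRD₂ : R ∉ orb R b := not_mem_orb hb
  have hbD₂ : b ∈ orb R b := self_mem_orb _ _
  -- Γ, Θ, Ψ
  have hΓ : IsB (C (orb R b) a) := hI _ _ hD₂ haD₂
  have hbΓ : b ∉ C (orb R b) a := fun h => h.1 hbD₂
  have hΘ : IsB (C (C (orb R b) a) b) := hI _ _ hΓ hbΓ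
  have ha'Θ : a' ∉ C (C (orb R b) a) b := fun h => h.1 ⟨haD₂', hne'⟩
  have hΨ : IsB (C (C (C (orb R b) a) b) a') := hI _ _ hΘ ha'Θ
  have haΨ : a ∉ C (C (C (orb R b) a) b) a' := by
    intro h
    apply h.1
    refine ⟨fun h2 => h2.2 rfl, ?_⟩
    intro hab
    rw [hab] at haD₂
    exact haD₂ hbD₂
  rcases hII _ _ a hD₂ hΨ haD₂ haΨ with h1 | h1
  · have hRΨ : R ∈ C (C (C (orb R b) a) b) a' := by
      refine ⟨fun h2 => h2.1 ⟨hRD₂, ha.symm⟩, ?_⟩
      rintro rfl
      exact not_mem_orb ha haa'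
    rw [h1] at hRΨ
    exact hRD₂ hRΨ
  · have hbΨ : b ∈ C (C (C (orb R b) a) b) a' := by
      refine ⟨fun h2 => h2.2 rfl, ?_⟩
      rintro rfl
      exact haD₂' hbD₂
    rw [h1] at hbΨ
    exact hbΓ hbΨ


variable (hcard : ∀ R : Sylow p G, Nat.card (R : Subgroup G) = p)

include hX hp2 hcard in
theorem eq_one_of_fix {R a : Sylow p G} (ha : a ≠ R) {x : G} (hx : x ∈ R) (hxa : x • a = a) :
    x = 1 := by
  have h1 : (stabilizer (R : Subgroup G) a).index = p := by
    rw [index_stabilizer]
    exact ncard_orb hX hp2 ha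
  have h2 := Subgroup.index_mul_card (stabilizer (R : Subgroup G) a)
  rw [h1, hcard R] at h2
  have h3 : Nat.card (stabilizer (R : Subgroup G) a) = 1 := by
    have := hp.out.pos
    exact Nat.eq_of_mul_eq_mul_left this (by rw [h2, mul_one])
  have h4 : (⟨⟨x, hx⟩, hxa⟩ : stabilizer (R : Subgroup G) a) = 1 := by
    have : Subsingleton (stabilizer (R : Subgroup G) a) := (Nat.card_eq_one_iff_unique.1 h3).1
    exact Subsingleton.elim _ _
  exact congrArg (fun y : stabilizer (R : Subgroup G) a => ((y : (R : Subgroup G)) : G)) h4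

include hX hp2 hcard in
theorem fix_of_commute {P b : Sylow p G} (hb : b ≠ P) {z : G} (hzc : ∀ r ∈ P, Commute z r)
    (hco : Nat.Coprime (orderOf z) p) (hz : z • b ∈ orb P b) {e : Sylow p G}
    (he : e ∈ orb P b) : z • e = e := by
  obtain ⟨x, hx, hxb⟩ := mem_orb.1 hz
  have hzx := hzc x hx
  have h1 : (x⁻¹ * z) • b = b := by rw [mul_smul, ← hxb, inv_smul_smul]
  have h2 : (x⁻¹ * z) ^ orderOf z = x⁻¹ ^ orderOf z := by
    rw [(hzx.inv_right.symm).mul_pow, pow_orderOf_eq_one z, mul_one]
  have h3 : x⁻¹ ^ orderOf z • b = b := by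
    rw [← h2]
    exact mem_stabilizer_iff.1 ((stabilizer G b).pow_mem (mem_stabilizer_iff.2 h1) _)
  have h4 : x⁻¹ ^ orderOf z = 1 :=
    eq_one_of_fix hX hp2 hcard hb (P.pow_mem (P.inv_mem hx) _) h3
  have h5 : orderOf x⁻¹ = 1 := by
    have h6 : orderOf x⁻¹ ∣ p := by
      rw [← hcard P]
      exact Subgroup.orderOf_dvd_natCard _ (P.inv_mem hx)
    exact Nat.eq_one_of_dvd_coprimes hco (orderOf_dvd_of_pow_eq_one h4) h6
  have h7 : x = 1 := by
    rw [orderOf_eq_one_iff] at h5
    exact inv_eq_one.1 h5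
  have h8 : z • b = b := by rw [← hxb, h7, one_smul]
  obtain ⟨y, hy, rfl⟩ := mem_orb.1 he
  rw [smul_smul, (hzc y hy).eq, mul_smul, h8]

include hX hp2 hf hcard in
theorem eq_one_of_commute {P a : Sylow p G} (ha : a ≠ P) {z : G} (hzc : ∀ r ∈ P, Commute z r)
    (hco : Nat.Coprime (orderOf z) p) (hz : z • a ∈ orb P a) : z = 1 := by
  have hzP : z • P = P := by
    apply Sylow.smul_eq_iff_mem_normalizer.2
    apply Subgroup.centralizer_le_normalizer
    rw [mem_centralizer_iff]
    intro r hr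
    exact (hzc r hr).eq.symm
  have h1 : ∀ e ∈ orb P a, z • e = e := fun e he => fix_of_commute hX hp2 hcard ha hzc hco hz he
  apply hf
  intro e
  by_cases he : e ∈ orb P a
  · exact h1 e he
  by_cases heP : e = P
  · rw [heP]; exact hzP
  have h2 : z • e ∉ orb P a := by
    intro h3
    have h4 := h1 _ h3
    have h5 : z • e = e := by
      exact (MulAction.injective z h4)
    rw [h5] at h3
    exact he h3
  have h3 : z • e ≠ P := by
    intro h4
    apply heP
    have : z • e = z • P := by rw [h4, hzP]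
    exact MulAction.injective z this
  have h4 : z • e ∈ orb P e := by
    rw [orb_eq_compl hX hp2 ha heP he]
    exact ⟨h2, h3⟩
  exact fix_of_commute hX hp2 hcard heP hzc hco h4 (self_mem_orb _ _)

include hX hp2 hf hcard in
/-- Elements of odd order prime to `p` in the centralizer of a Sylow subgroup are trivial. -/
theorem eq_one_of_commute_odd {P a : Sylow p G} (ha : a ≠ P) {y : G} (hyc : ∀ r ∈ P, Commute y r)
    (hco : Nat.Coprime (orderOf y) p) (hodd : Nat.Coprime (orderOf y) 2) : y = 1 := by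
  have hyP : y • P = P := by
    apply Sylow.smul_eq_iff_mem_normalizer.2
    apply Subgroup.centralizer_le_normalizer
    rw [mem_centralizer_iff]
    intro r hr
    exact (hyc r hr).eq.symm
  by_cases h1 : y • a ∈ orb P a
  · exact eq_one_of_commute hX hp2 hf hcard ha hyc hco h1
  set c := y • a with hc
  have hcP : c ≠ P := by
    intro h2
    apply ha
    have : y • a = y • P := by rw [← hc, h2, hyP]
    exact MulAction.injective y this
  by_cases h2 : y • c ∈ orb P c
  · exact eq_one_of_commute hX hp2 hf hcard hcP hyc hco h2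
  have h3 : a ∉ orb P c := by
    intro h4
    apply h1
    rw [orb_eq_of_mem h4]
    exact self_mem_orb _ _
  have h4 : y • c ∈ orb P a := by
    rw [orb_eq_compl hX hp2 hcP ha h3]
    refine ⟨h2, ?_⟩
    intro h5
    apply hcP
    have : y • c = y • P := by rw [h5, hyP]
    exact MulAction.injective y this
  have hy2c : ∀ r ∈ P, Commute (y ^ 2) r := fun r hr => (hyc r hr).pow_left 2
  have h5 : Nat.Coprime (orderOf (y ^ 2)) p :=
    Nat.Coprime.coprime_dvd_left (orderOf_pow_dvd 2) hco
  have h6 : (y ^ 2) • a ∈ orb P a := by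
    rw [pow_two, mul_smul]
    exact h4
  have h7 := eq_one_of_commute hX hp2 hf hcard ha hy2c h5 h6
  have h8 : orderOf y = 1 :=
    Nat.eq_one_of_dvd_coprimes hodd (dvd_refl _) (orderOf_dvd_of_pow_eq_one h7)
  exact orderOf_eq_one_iff.1 h8

include hX hp2 hf hcard in
theorem eq_of_ne_one {P a : Sylow p G} (ha : a ≠ P) {z₁ z₂ : G} (h1 : ∀ r ∈ P, Commute z₁ r)
    (h2 : ∀ r ∈ P, Commute z₂ r) (c1 : Nat.Coprime (orderOf z₁) p)
    (c2 : Nat.Coprime (orderOf z₂) p) (c3 : Nat.Coprime (orderOf (z₁⁻¹ * z₂)) p)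
    (n1 : z₁ ≠ 1) (n2 : z₂ ≠ 1) : z₁ = z₂ := by
  have hz1P : z₁ • P = P := by
    apply Sylow.smul_eq_iff_mem_normalizer.2
    apply Subgroup.centralizer_le_normalizer
    rw [mem_centralizer_iff]
    intro r hr
    exact (h1 r hr).eq.symm
  have hz2P : z₂ • P = P := by
    apply Sylow.smul_eq_iff_mem_normalizer.2
    apply Subgroup.centralizer_le_normalizer
    rw [mem_centralizer_iff]
    intro r hr
    exact (h2 r hr).eq.symm
  have h3 : z₁ • a ∉ orb P a := fun h => n1 (eq_one_of_commute hX hp2 hf hcard ha h1 c1 h)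
  have h4 : z₂ • a ∉ orb P a := fun h => n2 (eq_one_of_commute hX hp2 hf hcard ha h2 c2 h)
  have h5 : z₁ • a ≠ P := by
    intro h
    apply ha
    have : z₁ • a = z₁ • P := by rw [h, hz1P]
    exact MulAction.injective z₁ this
  have h6 : z₂ • a ≠ P := by
    intro h
    apply ha
    have : z₂ • a = z₂ • P := by rw [h, hz2P]
    exact MulAction.injective z₂ this
  have h7 : z₂ • a ∈ orb P (z₁ • a) := by
    rw [orb_eq_compl hX hp2 ha h5 h3]
    exact ⟨h4, h6⟩
  obtain ⟨r, hr, hr2⟩ := mem_orb.1 h7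
  have h8 : (z₁⁻¹ * z₂) • a ∈ orb P a := by
    refine mem_orb.2 ⟨r, hr, ?_⟩
    calc r • a = z₁⁻¹ • (z₁ • (r • a)) := by rw [inv_smul_smul]
      _ = z₁⁻¹ • (r • (z₁ • a)) := by rw [smul_smul z₁ r, (h1 r hr).eq, mul_smul]
      _ = z₁⁻¹ • (z₂ • a) := by rw [hr2]
      _ = (z₁⁻¹ * z₂) • a := by rw [mul_smul]
  have hc : ∀ r ∈ P, Commute (z₁⁻¹ * z₂) r := fun r hr => ((h1 r hr).inv_left).mul_left (h2 r hr)
  have h9 := eq_one_of_commute hX hp2 hf hcard ha hc c3 h8
  exact (inv_mul_eq_one.1 h9)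


omit [Finite G] [hp : Fact p.Prime] in
theorem isCyclic_mulAut_of_prime_card {A : Type*} [Group A] [Finite A] {q : ℕ} [hq : Fact q.Prime]
    (h : Nat.card A = q) : IsCyclic (MulAut A) := by
  haveI : IsCyclic A := isCyclic_of_prime_card h
  subst h
  exact isCyclic_of_injective (IsCyclic.mulAutMulEquiv A).toMonoidHom
    (IsCyclic.mulAutMulEquiv A).injective

omit [hp : Fact p.Prime] in
theorem pow_totient_mem_centralizer (A : Subgroup G) [IsCyclic A] {g : G}
    (hg : g ∈ normalizer (A : Set G)) :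
    g ^ Nat.totient (Nat.card A) ∈ centralizer (A : Set G) := by
  have h1 := pow_card_eq_one' (x := A.normalizerMonoidHom ⟨g, hg⟩)
  rw [IsCyclic.card_mulAut, ← map_pow] at h1
  have h2 : ((⟨g, hg⟩ : normalizer (A : Set G)) ^ Nat.totient (Nat.card A)) ∈
      A.normalizerMonoidHom.ker := h1
  rw [normalizerMonoidHom_ker, mem_subgroupOf] at h2
  simpa using h2

omit [hp : Fact p.Prime] in
theorem pow_relIndex_mem (A : Subgroup G) {g : G} (hg : g ∈ normalizer (A : Set G)) :
    g ^ A.relIndex (normalizer (A : Set G)) ∈ A := by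
  haveI : (A.subgroupOf (normalizer (A : Set G))).Normal :=
    Subgroup.normal_subgroupOf_of_le_normalizer le_rfl
  have h2 := Subgroup.pow_index_mem (A.subgroupOf (normalizer (A : Set G))) (⟨g, hg⟩ : normalizer (A : Set G))
  rw [mem_subgroupOf] at h2
  have h3 : g ^ (A.subgroupOf (normalizer (A : Set G))).index ∈ A := by simpa using h2
  exact h3

omit [hp : Fact p.Prime] in
theorem normalizer_le_centralizer_of_cyclic (A : Subgroup G) [hc : IsCyclic A]
    (hco : Nat.Coprime (Nat.totient (Nat.card A)) (A.relIndex (normalizer (A : Set G)))) :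
    normalizer (A : Set G) ≤ centralizer (A : Set G) := by
  intro g hg
  have h1 := pow_totient_mem_centralizer A hg
  have h3 := pow_relIndex_mem A hg
  have h4 : g ^ A.relIndex (normalizer (A : Set G)) ∈ centralizer (A : Set G) := by
    rw [mem_centralizer_iff]
    intro h hh
    have hcomm : IsMulCommutative A := IsCyclic.isMulCommutative
    have := hcomm.is_comm.comm (⟨h, hh⟩ : A) ⟨_, h3⟩
    exact congrArg Subtype.val this
  exact mem_of_pow_mem_of_pow_mem _ g _ _ hco h1 h4

omit [Finite G] [hp : Fact p.Prime] in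
theorem map_eq_one_of_coprime {H : Type*} [Group H] [Finite H] (f : G →* H) {q j : ℕ}
    (hA : Nat.card H = q ^ j) (x : G) (hx : Nat.Coprime (orderOf x) q) : f x = 1 := by
  have h1 : orderOf (f x) ∣ orderOf x := orderOf_map_dvd f x
  have h2 : orderOf (f x) ∣ q ^ j := by
    rw [← hA]
    exact orderOf_dvd_natCard _
  have h3 := Nat.eq_one_of_dvd_coprimes (Nat.Coprime.pow_right j hx) h1 h2
  exact orderOf_eq_one_iff.1 h3

theorem card_sylow_dvd_of_forall_le (L : Subgroup G) (hL : ∀ R : Sylow p G, (R : Subgroup G) ≤ L) :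
    Nat.card (Sylow p G) ∣ Nat.card L := by
  haveI : IsPretransitive L (Sylow p G) := by
    refine ⟨fun R R' => ?_⟩
    obtain ⟨l, hl⟩ := MulAction.exists_smul_eq L (R.subtype (hL R)) (R'.subtype (hL R'))
    refine ⟨l, ?_⟩
    rw [Sylow.smul_subtype] at hl
    exact Sylow.subtype_injective hl
  obtain ⟨P⟩ : Nonempty (Sylow p G) := inferInstance
  rw [← index_stabilizer_of_transitive L P]
  exact index_dvd_card _

omit hp in
theorem coprime_orderOf_of_mem_sylow {q : ℕ} [Fact q.Prime] (T : Sylow q G) {t : G} (ht : t ∈ T)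
    (hpp : p.Prime) (hne : p ≠ q) : Nat.Coprime (orderOf t) p := by
  obtain ⟨k, hk⟩ := isPElement_of_mem ht
  rw [hk]
  exact Nat.Coprime.pow_left _ ((Nat.coprime_primes Fact.out hpp).2 hne.symm)

include hX hp2 hf in
theorem false_of_faithful (h5 : 5 ∣ 2 * p + 1) (h25 : ¬ 25 ∣ 2 * p + 1) (hp51 : ¬ 5 ∣ p - 1)
    (hp5 : p ≠ 5) : False := by
  classical
  have hpp := hp.out
  have hcard : ∀ R : Sylow p G, Nat.card (R : Subgroup G) = p := fun R =>
    card_sylow_eq hX hp2 hf R
  obtain ⟨T⟩ : Nonempty (Sylow 2 G) := inferInstance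
  have hXodd : ¬ 2 ∣ Nat.card (Sylow p G) := by rw [hX]; omega
  obtain ⟨P, hP⟩ := T.isPGroup'.nonempty_fixed_point_of_prime_not_dvd_card (Sylow p G) hXodd
  have hTN : (T : Subgroup G) ≤ normalizer (P : Set G) := by
    intro t ht
    exact Sylow.smul_eq_iff_mem_normalizer.1 (hP ⟨t, ht⟩)
  have hPt : ∀ t ∈ T, t • P = P := fun t ht => hP ⟨t, ht⟩
  obtain ⟨a, ha⟩ : ∃ a : Sylow p G, a ≠ P := by
    by_contra hcon
    push Not at hcon
    have h1 : Nat.card (Sylow p G) = 1 :=
      Nat.card_eq_one_iff_unique.2 ⟨⟨fun x y => by rw [hcon x, hcon y]⟩, ⟨P⟩⟩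
    rw [h1] at hX
    have := hpp.two_le
    omega
  have hco2 : ∀ t ∈ T, Nat.Coprime (orderOf t) p := fun t ht =>
    coprime_orderOf_of_mem_sylow T ht hpp hp2
  have hZ : ∀ z₁ ∈ T, ∀ z₂ ∈ T, (∀ r ∈ P, Commute z₁ r) → (∀ r ∈ P, Commute z₂ r) → z₁ ≠ 1 →
      z₂ ≠ 1 → z₁ = z₂ := fun z₁ h₁ z₂ h₂ c₁ c₂ n₁ n₂ =>
    eq_of_ne_one hX hp2 hf hcard ha c₁ c₂ (hco2 _ h₁) (hco2 _ h₂)
      (hco2 _ (T.mul_mem (T.inv_mem h₁) h₂)) n₁ n₂
  -- conjugates of elements centralizing `P` by elements of the normalizer centralize `P`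
  have hconj : ∀ t ∈ normalizer (P : Set G), ∀ z : G, (∀ r ∈ P, Commute z r) →
      ∀ r ∈ P, Commute (t * z * t⁻¹) r := by
    intro t ht z hz r hr
    have h1 : t⁻¹ * r * t⁻¹⁻¹ ∈ (P : Subgroup G) := by
      have ht' := (normalizer (P : Set G)).inv_mem ht
      exact (mem_normalizer_iff.1 ht' r).1 hr
    have h2 := (hz _ h1).eq
    rw [inv_inv] at h2
    change t * z * t⁻¹ * r = r * (t * z * t⁻¹)
    have h3 : t * z * t⁻¹ * r = t * (z * (t⁻¹ * r * t)) * t⁻¹ := by group
    have h4 : r * (t * z * t⁻¹) = t * ((t⁻¹ * r * t) * z) * t⁻¹ := by group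
    rw [h3, h4, h2]
  -- `T` is abelian
  haveI hcycA : IsCyclic (MulAut (P : Subgroup G)) := isCyclic_mulAut_of_prime_card (hcard P)
  let f : (T : Subgroup G) →* MulAut (P : Subgroup G) :=
    (P : Subgroup G).normalizerMonoidHom.comp (inclusion hTN)
  have hfker : ∀ t : (T : Subgroup G), f t = 1 → ∀ r ∈ P, Commute (t : G) r := by
    intro t ht r hr
    have h1 : (inclusion hTN t) ∈ (P : Subgroup G).normalizerMonoidHom.ker := ht
    rw [normalizerMonoidHom_ker, mem_subgroupOf] at h1
    have h2 : (t : G) ∈ centralizer ((P : Subgroup G) : Set G) := h1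
    exact ((mem_centralizer_iff.1 h2) r hr).symm
  have hfker' : ∀ t : (T : Subgroup G), (∀ r ∈ P, Commute (t : G) r) → f t = 1 := by
    intro t ht
    have h2 : (t : G) ∈ centralizer ((P : Subgroup G) : Set G) := by
      rw [mem_centralizer_iff]
      intro r hr
      exact (ht r hr).eq.symm
    have h1 : (inclusion hTN t) ∈ (P : Subgroup G).normalizerMonoidHom.ker := by
      rw [normalizerMonoidHom_ker, mem_subgroupOf]
      exact h2
    exact h1
  have hker : f.ker ≤ center (T : Subgroup G) := by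
    intro t ht
    rw [mem_center_iff]
    intro s
    by_cases ht1 : t = 1
    · rw [ht1, mul_one, one_mul]
    have ht2 := hfker t ht
    have h3 : (s : G) * t * (s : G)⁻¹ ∈ T := T.mul_mem (T.mul_mem s.2 t.2) (T.inv_mem s.2)
    have h4 := hconj s (hTN s.2) t ht2
    have h5 : (s : G) * t * (s : G)⁻¹ ≠ 1 := by
      intro h6
      apply ht1
      have h7 : (t : G) = 1 := by
        have : (s : G)⁻¹ * ((s : G) * t * (s : G)⁻¹) * s = t := by group
        rw [← this, h6]
        group
      exact Subtype.ext h7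
    have ht1' : (t : G) ≠ 1 := fun h => ht1 (Subtype.ext h)
    have h6 := hZ _ h3 _ t.2 h4 ht2 h5 ht1'
    apply Subtype.ext
    change (s : G) * t = t * s
    exact mul_inv_eq_iff_eq_mul.1 h6
  have hTab : ∀ a b : (T : Subgroup G), a * b = b * a :=
    (f.isMulCommutative_of_isCyclic_of_ker_le_center hker).is_comm.comm
  have hTodd : ¬ 2 ∣ (T : Subgroup G).relIndex (normalizer ((T : Subgroup G) : Set G)) := by
    intro h
    apply T.not_dvd_index
    exact h.trans ⟨_, (Subgroup.relIndex_mul_index Subgroup.le_normalizer).symm⟩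
  have hTcop : Nat.Coprime 2 ((T : Subgroup G).relIndex (normalizer ((T : Subgroup G) : Set G))) :=
    (Nat.Prime.coprime_iff_not_dvd Nat.prime_two).2 hTodd
  have hNC : normalizer ((T : Subgroup G) : Set G) ≤ centralizer ((T : Subgroup G) : Set G) := by
    by_cases hZn : ∃ z ∈ T, z ≠ 1 ∧ ∀ r ∈ P, Commute z r
    · obtain ⟨z, hzT, hz1, hzP⟩ := hZn
      intro g hg
      have hgP : g • P = P := by
        have h1 : z • (g • P) = g • P := by
          have h2 : g⁻¹ * z * g ∈ T := by
            have hg' := (normalizer ((T : Subgroup G) : Set G)).inv_mem hg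
            have := (mem_normalizer_iff.1 hg' z).1 hzT
            rwa [inv_inv] at this
          have h3 : (g⁻¹ * z * g) • P = P := hPt _ h2
          calc z • g • P = g • ((g⁻¹ * z * g) • P) := by
                rw [smul_smul, smul_smul]; congr 1; group
            _ = g • P := by rw [h3]
        by_contra hne
        apply hz1
        apply eq_one_of_commute hX hp2 hf hcard hne hzP (hco2 z hzT)
        rw [h1]
        exact self_mem_orb _ _
      have hgN : g ∈ normalizer ((P : Subgroup G) : Set G) :=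
        Sylow.smul_eq_iff_mem_normalizer.1 hgP
      have hgT : ∀ t ∈ T, g * t * g⁻¹ ∈ T := fun t ht => (mem_normalizer_iff.1 hg t).1 ht
      have hgz : g * z * g⁻¹ = z := by
        apply hZ _ (hgT z hzT) z hzT (hconj g hgN z hzP) hzP _ hz1
        intro h
        apply hz1
        have : g⁻¹ * (g * z * g⁻¹) * g = z := by group
        rw [← this, h]
        group
      have hzz : z * z = 1 := by
        by_contra hne
        have h1 : ∀ r ∈ P, Commute (z * z) r := fun r hr => (hzP r hr).mul_left (hzP r hr)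
        have h2 := hZ _ (T.mul_mem hzT hzT) z hzT h1 hzP hne hz1
        apply hz1
        exact mul_eq_left.1 h2
      have hg2 : g ^ 2 ∈ centralizer ((T : Subgroup G) : Set G) := by
        rw [mem_centralizer_iff]
        intro t ht
        have h1 : g * t * g⁻¹ * t⁻¹ ∈ T := T.mul_mem (hgT t ht) (T.inv_mem ht)
        have hcm : ∀ r ∈ P, Commute (g * t * g⁻¹ * t⁻¹) r := by
          have hcomm : IsMulCommutative (MulAut (P : Subgroup G)) := IsCyclic.isMulCommutative
          let F := (P : Subgroup G).normalizerMonoidHom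
          let g' : normalizer ((P : Subgroup G) : Set G) := ⟨g, hgN⟩
          let t' : normalizer ((P : Subgroup G) : Set G) := ⟨t, hTN ht⟩
          have h2 : g' * t' * g'⁻¹ * t'⁻¹ ∈ F.ker := by
            rw [MonoidHom.mem_ker, map_mul, map_mul, map_mul, map_inv, map_inv,
              hcomm.is_comm.comm (F g') (F t')]
            simp
          rw [normalizerMonoidHom_ker, mem_subgroupOf] at h2
          intro r hr
          exact ((mem_centralizer_iff.1 h2) r hr).symm
        have h3 : g * t * g⁻¹ = t ∨ g * t * g⁻¹ = z * t := by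
          by_cases h4 : g * t * g⁻¹ * t⁻¹ = 1
          · left
            exact mul_inv_eq_one.1 h4
          · right
            have h5 := hZ _ h1 z hzT hcm hzP h4 hz1
            rw [← h5]
            group
        have h6 : g * (g * t * g⁻¹) * g⁻¹ = t := by
          rcases h3 with h3 | h3
          · rw [h3, h3]
          · rw [h3]
            have : g * (z * t) * g⁻¹ = (g * z * g⁻¹) * (g * t * g⁻¹) := by group
            rw [this, hgz, h3, ← mul_assoc, hzz, one_mul]
        rw [pow_two]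
        calc t * (g * g) = (g * (g * t * g⁻¹) * g⁻¹) * (g * g) := by rw [h6]
          _ = g * g * t := by group
      have hgm : g ^ (T : Subgroup G).relIndex (normalizer ((T : Subgroup G) : Set G)) ∈
          centralizer ((T : Subgroup G) : Set G) := by
        have h3 := pow_relIndex_mem (T : Subgroup G) hg
        rw [mem_centralizer_iff]
        intro h hh
        exact congrArg Subtype.val (hTab ⟨h, hh⟩ ⟨_, h3⟩)
      exact mem_of_pow_mem_of_pow_mem _ g _ _ hTcop hg2 hgm
    · -- `T` is cyclic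
      push Not at hZn
      have hinj : Function.Injective f := by
        rw [injective_iff_map_eq_one]
        intro t ht
        by_contra hne
        have ht1 : (t : G) ≠ 1 := fun h => hne (Subtype.ext h)
        obtain ⟨r, hr, hr2⟩ := hZn t t.2 ht1
        exact hr2 (hfker t ht r hr)
      haveI : IsCyclic (T : Subgroup G) := isCyclic_of_injective f hinj
      apply normalizer_le_centralizer_of_cyclic
      obtain ⟨k, hk⟩ := IsPGroup.iff_card.1 T.isPGroup'
      rw [hk]
      rcases k with _ | k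
      · simp
      · rw [Nat.totient_prime_pow_succ Nat.prime_two]
        simp only [Nat.add_sub_cancel, show 2 - 1 = 1 from rfl, mul_one]
        exact Nat.Coprime.pow_left _ hTcop
  -- the normal `2`-complement
  let φ₁ := MonoidHom.transferSylow T hNC
  set K₁ : Subgroup G := φ₁.ker with hK₁
  have hK₁odd : ¬ 2 ∣ Nat.card K₁ := MonoidHom.not_dvd_card_ker_transferSylow T hNC
  have hK₁p : ∀ g : G, Nat.Coprime (orderOf g) 2 → g ∈ K₁ := by
    intro g hg
    obtain ⟨k, hk⟩ := IsPGroup.iff_card.1 T.isPGroup'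
    exact map_eq_one_of_coprime φ₁ hk g hg
  haveI h5p : Fact (Nat.Prime 5) := ⟨by norm_num⟩
  obtain ⟨F⟩ : Nonempty (Sylow 5 K₁) := inferInstance
  have hcop5p : Nat.Coprime 5 p := (Nat.coprime_primes (by norm_num) hpp).2 (Ne.symm hp5)
  have h5N : ¬ 5 ∣ Nat.card (normalizer ((P : Subgroup G) : Set G)) := by
    intro hdvd
    obtain ⟨y, hy⟩ := exists_prime_orderOf_dvd_card' 5 hdvd
    have hy' : orderOf (y : G) = 5 := by rw [Subgroup.orderOf_coe, hy]
    haveI : IsCyclic (P : Subgroup G) := isCyclic_of_prime_card (hcard P)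
    have h1 := pow_totient_mem_centralizer (P : Subgroup G) y.2
    rw [hcard P, Nat.totient_prime hpp] at h1
    have h2 : (y : G) ^ 5 ∈ centralizer ((P : Subgroup G) : Set G) := by
      rw [← hy', pow_orderOf_eq_one]
      exact one_mem _
    have hc5 : Nat.Coprime (p - 1) 5 := by
      apply Nat.Coprime.symm
      exact (Nat.Prime.coprime_iff_not_dvd (by norm_num)).2 hp51
    have h3 : (y : G) ∈ centralizer ((P : Subgroup G) : Set G) :=
      mem_of_pow_mem_of_pow_mem _ _ _ _ hc5 h1 h2
    have h4 : (y : G) = 1 := eq_one_of_commute_odd hX hp2 hf hcard ha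
      (fun r hr => ((mem_centralizer_iff.1 h3) r hr).symm) (by rw [hy']; exact hcop5p)
      (by rw [hy']; norm_num)
    rw [h4] at hy'
    simp at hy'
  have hG : Nat.card G = Nat.card (Sylow p G) * Nat.card (normalizer ((P : Subgroup G) : Set G)) := by
    rw [Sylow.card_eq_index_normalizer P, mul_comm]
    exact (Subgroup.card_mul_index _).symm
  have h25G : ¬ 25 ∣ Nat.card G := by
    rw [hG, hX]
    intro h
    have hcop : Nat.Coprime 25 (Nat.card (normalizer ((P : Subgroup G) : Set G))) := by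
      have h1 := (Nat.Prime.coprime_iff_not_dvd (p := 5) (by norm_num)).2 h5N
      exact Nat.Coprime.pow_left 2 h1
    exact h25 (hcop.dvd_of_dvd_mul_right h)
  have hFdvd : Nat.card (F : Subgroup K₁) ∣ 5 := by
    obtain ⟨k, hk⟩ := IsPGroup.iff_card.1 F.isPGroup'
    have h1 : 5 ^ k ∣ Nat.card G := by
      rw [← hk]
      exact (card_subgroup_dvd_card (F : Subgroup K₁)).trans (card_subgroup_dvd_card K₁)
    rw [hk]
    have hk1 : k ≤ 1 := by
      by_contra hcon
      have h2 : (5 : ℕ) ^ 2 ∣ 5 ^ k := pow_dvd_pow 5 (by omega)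
      exact h25G (h2.trans h1)
    interval_cases k <;> norm_num
  haveI hFcyc : IsCyclic (F : Subgroup K₁) := isCyclic_of_card_dvd_prime hFdvd
  have hNCF : normalizer (((F : Subgroup K₁)) : Set K₁) ≤ centralizer (((F : Subgroup K₁)) : Set K₁) := by
    apply normalizer_le_centralizer_of_cyclic
    have hodd : ¬ 2 ∣ (F : Subgroup K₁).relIndex (normalizer (((F : Subgroup K₁)) : Set K₁)) := by
      intro h
      apply hK₁odd
      refine h.trans ?_
      exact Subgroup.relIndex_dvd_card _ _ |>.trans (card_subgroup_dvd_card _)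
    have hc2 : Nat.Coprime 2 ((F : Subgroup K₁).relIndex (normalizer (((F : Subgroup K₁)) : Set K₁))) :=
      (Nat.Prime.coprime_iff_not_dvd Nat.prime_two).2 hodd
    rcases (Nat.dvd_prime (by norm_num : Nat.Prime 5)).1 hFdvd with h | h
    · rw [h]
      simp
    · rw [h]
      have h4 : Nat.totient 5 = 2 ^ 2 := by decide
      rw [h4]
      exact Nat.Coprime.pow_left 2 hc2
  let φ₂ := MonoidHom.transferSylow F hNCF
  set K₂ : Subgroup K₁ := φ₂.ker with hK₂
  have hK₂5 : ¬ 5 ∣ Nat.card K₂ := MonoidHom.not_dvd_card_ker_transferSylow F hNCF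
  let L : Subgroup G := K₂.map K₁.subtype
  have hLcard : Nat.card L = Nat.card K₂ :=
    Subgroup.card_map_of_injective K₁.subtype_injective
  have hRL : ∀ R : Sylow p G, (R : Subgroup G) ≤ L := by
    intro R r hr
    have hrp : Nat.Coprime (orderOf r) 2 :=
      coprime_orderOf_of_mem_sylow R hr Nat.prime_two (Ne.symm hp2)
    have hrK₁ := hK₁p r hrp
    have hr5 : Nat.Coprime (orderOf (⟨r, hrK₁⟩ : K₁)) 5 := by
      rw [Subgroup.orderOf_mk]
      exact coprime_orderOf_of_mem_sylow R hr (by norm_num) (Ne.symm hp5)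
    obtain ⟨k, hk⟩ := IsPGroup.iff_card.1 F.isPGroup'
    have h1 : φ₂ ⟨r, hrK₁⟩ = 1 := map_eq_one_of_coprime φ₂ hk _ hr5
    exact ⟨⟨r, hrK₁⟩, h1, rfl⟩
  have hfin := card_sylow_dvd_of_forall_le L hRL
  rw [hX, hLcard] at hfin
  exact hK₂5 (h5.trans hfin)


include hX hp2 in
/-- No finite group has exactly `2p+1` Sylow `p`-subgroups when `p` is an odd prime `≠ 5`, `5` divides
`2p+1` exactly once, and `5 ∤ p - 1`. -/
theorem false_of_card (h5 : 5 ∣ 2 * p + 1) (h25 : ¬ 25 ∣ 2 * p + 1) (hp51 : ¬ 5 ∣ p - 1)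
    (hp5 : p ≠ 5) : False := by
  classical
  let K : Subgroup G := (MulAction.toPermHom G (Sylow p G)).ker
  have hK : ∀ g, g ∈ K ↔ ∀ e : Sylow p G, g • e = e := by
    intro g
    change MulAction.toPermHom G (Sylow p G) g = 1 ↔ _
    rw [Equiv.ext_iff]
    rfl
  let π := QuotientGroup.mk' K
  have hπ : Function.Surjective π := QuotientGroup.mk'_surjective K
  let ψ : Sylow p G → Sylow p (G ⧸ K) := fun R => R.mapSurjective hπ
  have hψs : Function.Surjective ψ := Sylow.mapSurjective_surjective hπ p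
  have hψi : Function.Injective ψ := by
    intro R R' h
    have h1 : (R' : Subgroup G).map π = (R : Subgroup G).map π :=
      congrArg (fun S : Sylow p (G ⧸ K) => (S : Subgroup (G ⧸ K))) h.symm
    have h2 : (R' : Subgroup G) ≤ R := by
      intro r hr
      have h3 : π r ∈ (R : Subgroup G).map π := h1 ▸ ⟨r, hr, rfl⟩
      obtain ⟨s, hs, hsr⟩ := h3
      have h4 : s⁻¹ * r ∈ K := QuotientGroup.eq.1 hsr
      have h5 : r • R = R := by
        have h6 : r = s * (s⁻¹ * r) := by group
        rw [h6, mul_smul, (hK _).1 h4 R]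
        exact smul_eq_of_mem hs
      exact mem_of_smul_eq (isPElement_of_mem hr) h5
    exact Sylow.ext (R'.is_maximal' R.isPGroup' h2)
  have heq : ∀ (g₀ : G) (R : Sylow p G), ψ (g₀ • R) = π g₀ • ψ R := by
    intro g₀ R
    apply Sylow.ext
    ext x
    obtain ⟨w, rfl⟩ := hπ x
    constructor
    · rintro ⟨y, hy, hyw⟩
      change π w ∈ π g₀ • ψ R
      rw [mem_sylow_smul_iff]
      have h1 := mem_sylow_smul_iff.1 hy
      refine ⟨g₀⁻¹ * y * g₀, h1, ?_⟩
      simp only [map_mul, map_inv]
      rw [hyw]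
    · intro h
      have h' : π w ∈ π g₀ • ψ R := h
      rw [mem_sylow_smul_iff] at h'
      obtain ⟨y, hy, hyw⟩ := h'
      refine ⟨g₀ * y * g₀⁻¹, mem_sylow_smul_iff.2 ?_, ?_⟩
      · have : g₀⁻¹ * (g₀ * y * g₀⁻¹) * g₀ = y := by group
        rw [this]
        exact hy
      · simp only [map_mul, map_inv]
        change π g₀ * π y * (π g₀)⁻¹ = π w
        rw [hyw]
        group
  have hX' : Nat.card (Sylow p (G ⧸ K)) = 2 * p + 1 := by
    rw [← hX]
    exact (Nat.card_congr (Equiv.ofBijective ψ ⟨hψi, hψs⟩)).symm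
  have hf' : ∀ g : G ⧸ K, (∀ e : Sylow p (G ⧸ K), g • e = e) → g = 1 := by
    intro g hg
    obtain ⟨g₀, rfl⟩ := hπ g
    have h1 : g₀ ∈ K := by
      rw [hK]
      intro R
      apply hψi
      rw [heq, hg]
    exact (QuotientGroup.eq_one_iff g₀).2 h1
  exact false_of_faithful hX' hp2 hf' h5 h25 hp51 hp5

end Cfsg.Agent.Lib.ClassSizes.SylowNumber
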