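import Mathlib

/-! A `2`-group acting on a set of size `2^(s+1)` preserves a partition into two parts of size `2^s`. -/

set_option autoImplicit false

namespace Cfsg.Agent.Lib.ClassSizes.SylowUniqueHalf

open Equiv Equiv.Perm Subgroup Finset

variable {α : Type*} [DecidableEq α] [Fintype α]

/-- Binomial coefficient parity. -/
theorem odd_choose (m : ℕ) (hm : 0 < m) : ∀ k, k ≤ 2 ^ m - 1 → ¬ 2 ∣ Nat.choose (2 ^ m - 1) k := by
  have hpos : 0 < 2 ^ m := by positivity
  intro k
  induction k with
  | zero =>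
    intro _
    simp
  | succ k ih =>
    intro hk h2
    apply ih (by omega)
    have h1 : Nat.choose (2 ^ m) (k + 1) = Nat.choose (2 ^ m - 1) k + Nat.choose (2 ^ m - 1) (k + 1) := by
      have e : 2 ^ m = (2 ^ m - 1) + 1 := by omega
      conv_lhs => rw [e]
      exact Nat.choose_succ_succ _ _
    have h3 : 2 ∣ Nat.choose (2 ^ m) (k + 1) := by
      have := (Nat.Prime.dvd_choose_pow_iff (p := 2) (n := m) (k := k + 1) Nat.prime_two).2 ⟨by omega, by omega⟩
      exact this
    rw [h1] at h3
    exact (Nat.dvd_add_left h2).1 h3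

theorem exists_half {H : Subgroup (Perm α)} (hH : IsPGroup 2 H) (D : Finset α) (s : ℕ)
    (hD : D.card = 2 ^ (s + 1)) {u : α} (hu : u ∈ D) :
    ∃ A : Finset α, A ⊆ D ∧ A.card = 2 ^ s ∧ u ∈ A ∧
      ∀ τ ∈ H, D.image τ = D → (A.image τ = A ∨ A.image τ = D \ A) := by
  have hs : 0 < 2 ^ s := by positivity
  have hD2 : D.card = 2 ^ s + 2 ^ s := by rw [hD, pow_succ]; ring
  -- the family of halves through `u`
  let X₀ : Finset (Finset α) := (powersetCard (2 ^ s - 1) (D.erase u)).image (insert u)
  have hmemX : ∀ A : Finset α, A ∈ X₀ ↔ A ⊆ D ∧ A.card = 2 ^ s ∧ u ∈ A := by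
    intro A
    simp only [X₀, mem_image, mem_powersetCard]
    constructor
    · rintro ⟨B, ⟨hB1, hB2⟩, rfl⟩
      have hnu : u ∉ B := fun h => (mem_erase.1 (hB1 h)).1 rfl
      refine ⟨?_, ?_, mem_insert_self _ _⟩
      · intro z hz
        rcases mem_insert.1 hz with rfl | hz
        · exact hu
        · exact (mem_erase.1 (hB1 hz)).2
      · rw [card_insert_of_notMem hnu, hB2]
        omega
    · rintro ⟨h1, h2, h3⟩
      refine ⟨A.erase u, ⟨?_, ?_⟩, insert_erase h3⟩
      · exact erase_subset_erase u h1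
      · rw [card_erase_of_mem h3, h2]
  have hcardX : X₀.card = Nat.choose (2 ^ (s + 1) - 1) (2 ^ s - 1) := by
    rw [card_image_of_injOn, card_powersetCard, card_erase_of_mem hu, hD]
    intro B hB C hC hBC
    have hB1 := (mem_powersetCard.1 hB).1
    have hC1 := (mem_powersetCard.1 hC).1
    have hnuB : u ∉ B := fun h => (mem_erase.1 (hB1 h)).1 rfl
    have hnuC : u ∉ C := fun h => (mem_erase.1 (hC1 h)).1 rfl
    have := congrArg (fun Z => Finset.erase Z u) hBC
    simpa [erase_insert hnuB, erase_insert hnuC] using this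
  have hodd : ¬ 2 ∣ Nat.card X₀ := by
    rw [Nat.card_eq_fintype_card, Fintype.card_coe, hcardX]
    apply odd_choose (s + 1) (by omega)
    have : 2 ^ (s + 1) = 2 * 2 ^ s := by rw [pow_succ]; ring
    omega
  -- the stabilizer of `D`
  let K : Subgroup (Perm α) :=
    { carrier := {τ | τ ∈ H ∧ D.image τ = D}
      one_mem' := ⟨H.one_mem, by simp⟩
      mul_mem' := by
        rintro a b ⟨ha, ha'⟩ ⟨hb, hb'⟩
        refine ⟨H.mul_mem ha hb, ?_⟩
        have : D.image (⇑(a * b)) = (D.image b).image a := by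
          rw [image_image]
          rfl
        rw [this, hb', ha']
      inv_mem' := by
        rintro a ⟨ha, ha'⟩
        refine ⟨H.inv_mem ha, ?_⟩
        conv_lhs => rw [← ha']
        rw [image_image]
        have : (⇑a⁻¹ ∘ ⇑a) = id := by
          funext z
          simp
        rw [this, image_id] }
  have hK : IsPGroup 2 K := by
    have hle : K ≤ H := fun τ hτ => hτ.1
    exact hH.to_le hle
  have hsdiff : ∀ (τ : Perm α) (B : Finset α), D.image τ = D → (D \ B).image τ = D \ B.image τ := by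
    intro τ B hτ
    rw [image_sdiff _ _ τ.injective, hτ]
  have hsub : ∀ (τ : Perm α) (B : Finset α), D.image τ = D → B ⊆ D → B.image τ ⊆ D := by
    intro τ B hτ hB
    rw [← hτ]
    exact image_subset_image hB
  -- the action
  let f : Perm α → Finset α → Finset α := fun τ A => if u ∈ A.image τ then A.image τ else D \ A.image τ
  have hfmem : ∀ τ : K, ∀ A : X₀, f τ A.1 ∈ X₀ := by
    rintro ⟨τ, hτH, hτ⟩ ⟨A, hA⟩
    obtain ⟨h1, h2, h3⟩ := (hmemX A).1 hA
    have hc : (A.image τ).card = 2 ^ s := by rw [card_image_of_injective _ τ.injective, h2]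
    rw [hmemX]
    show (if u ∈ A.image τ then A.image τ else D \ A.image τ) ⊆ D ∧
      (if u ∈ A.image τ then A.image τ else D \ A.image τ).card = 2 ^ s ∧
      u ∈ (if u ∈ A.image τ then A.image τ else D \ A.image τ)
    split_ifs with hc2
    · exact ⟨hsub τ A hτ h1, hc, hc2⟩
    · refine ⟨sdiff_subset, ?_, mem_sdiff.2 ⟨hu, hc2⟩⟩
      rw [card_sdiff_of_subset (hsub τ A hτ h1), hc]
      omega
  letI : MulAction K X₀ :=
    { smul := fun τ A => ⟨f τ A.1, hfmem τ A⟩
      one_smul := by
        rintro ⟨A, hA⟩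
        apply Subtype.ext
        show f (1 : Perm α) A = A
        obtain ⟨h1, h2, h3⟩ := (hmemX A).1 hA
        have h1 : A.image (⇑(1 : Perm α)) = A := by
          have : (⇑(1 : Perm α) : α → α) = id := rfl
          rw [this, image_id]
        show (if u ∈ A.image (⇑(1 : Perm α)) then A.image (⇑(1 : Perm α)) else D \ A.image (⇑(1 : Perm α))) = A
        rw [h1, if_pos h3]
      mul_smul := by
        rintro ⟨a, ha, ha'⟩ ⟨b, hb, hb'⟩ ⟨A, hA⟩
        apply Subtype.ext
        show f (a * b) A = f a (f b A)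
        have himg : A.image (⇑(a * b)) = (A.image b).image a := by
          rw [image_image]
          rfl
        simp only [f]
        rw [himg]
        by_cases h1 : u ∈ A.image b
        · rw [if_pos h1]
        · rw [if_neg h1, hsdiff a _ ha']
          by_cases h2 : u ∈ (A.image b).image a
          · rw [if_pos h2, if_neg (fun h => (mem_sdiff.1 h).2 h2), Finset.sdiff_sdiff_eq_self]
            exact hsub a _ ha' (hsub b A hb' ((hmemX A).1 hA).1)
          · rw [if_neg h2, if_pos (mem_sdiff.2 ⟨hu, h2⟩)] }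
  obtain ⟨⟨A, hA⟩, hfix⟩ := hK.nonempty_fixed_point_of_prime_not_dvd_card X₀ hodd
  obtain ⟨h1, h2, h3⟩ := (hmemX A).1 hA
  refine ⟨A, h1, h2, h3, ?_⟩
  intro τ hτ hτD
  have hfx := (MulAction.mem_fixedPoints.1 hfix) ⟨τ, hτ, hτD⟩
  have hfx' : f τ A = A := congrArg Subtype.val hfx
  simp only [f] at hfx'
  by_cases hc : u ∈ A.image τ
  · left
    rw [if_pos hc] at hfx'
    exact hfx'
  · right
    rw [if_neg hc] at hfx'
    have : A.image τ ⊆ D := hsub τ A hτD h1
    conv_rhs => rw [← hfx']
    rw [Finset.sdiff_sdiff_eq_self this]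

end Cfsg.Agent.Lib.ClassSizes.SylowUniqueHalf
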