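import Mathlib
import Cfsg.Agent.Lib.ClassSizes.SylowUniqueHalf

/-! A `2`-element of a symmetric group with at most two fixed points and distinct cycle lengths lies in a
unique Sylow `2`-subgroup: the block tree of the element is preserved by every `2`-group containing it. -/

set_option autoImplicit false

namespace Cfsg.Agent.Lib.ClassSizes.SylowUniqueBwd

open Equiv Equiv.Perm Subgroup Finset

variable {α : Type*} [DecidableEq α] [Fintype α]

/-- The orbit of a permutation through a point. -/
noncomputable def orb (z : Perm α) (u : α) : Finset α :=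
  by classical exact Finset.univ.filter (fun v => SameCycle z u v)

theorem mem_orb {z : Perm α} {u v : α} : v ∈ orb z u ↔ SameCycle z u v := by
  simp [orb]

/-- Fixed points of a power. -/
noncomputable def W (x : Perm α) (j : ℕ) : Finset α := Finset.univ.filter (fun u => (x ^ 2 ^ j) u = u)

theorem mem_W {x : Perm α} {j : ℕ} {u : α} : u ∈ W x j ↔ (x ^ 2 ^ j) u = u := by
  simp [W]

theorem orb_self (z : Perm α) (u : α) : u ∈ orb z u := mem_orb.2 (SameCycle.refl z u)

theorem orb_eq_of_mem {z : Perm α} {u v : α} (h : v ∈ orb z u) : orb z v = orb z u := by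
  ext w
  rw [mem_orb, mem_orb]
  exact ⟨(mem_orb.1 h).trans, (mem_orb.1 h).symm.trans⟩

theorem orb_pow_subset (z : Perm α) (n : ℕ) (u : α) : orb (z ^ n) u ⊆ orb z u := by
  intro v hv
  obtain ⟨i, rfl⟩ := mem_orb.1 hv
  exact mem_orb.2 ⟨n * i, by rw [zpow_mul, zpow_natCast]⟩

theorem image_orb {z y : Perm α} (h : Commute y z) (u : α) : (orb z u).image y = orb z (y u) := by
  have hc : ∀ (i : ℤ) (w : α), (z ^ i) (y w) = y ((z ^ i) w) := by
    intro i w
    have := (h.zpow_right i).eq
    exact (congrArg (fun f : Perm α => f w) this).symm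
  ext v
  simp only [mem_image, mem_orb]
  constructor
  · rintro ⟨w, ⟨i, rfl⟩, rfl⟩
    exact ⟨i, hc i u⟩
  · rintro ⟨i, rfl⟩
    exact ⟨(z ^ i) u, ⟨i, rfl⟩, (hc i u).symm⟩

theorem orb_subset_of_image_eq {z : Perm α} {A : Finset α} (h : A.image z = A) {a : α} (ha : a ∈ A) :
    orb z a ⊆ A := by
  have key : ∀ n : ℕ, (z ^ n) a ∈ A := by
    intro n
    induction n with
    | zero => simpa using ha
    | succ n ih =>
      rw [pow_succ', Perm.mul_apply, ← h]
      exact mem_image_of_mem z ih
  intro v hv
  obtain ⟨n, -, rfl⟩ := (mem_orb.1 hv).exists_pow_eq'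
  exact key n

theorem orb_card_pgroup {z : Perm α} {l : ℕ} (hz : z ^ 2 ^ l = 1) (u : α) : ∃ e, (orb z u).card = 2 ^ e := by
  have hP : IsPGroup 2 (zpowers z) := by
    refine IsPGroup.of_card_dvd_pow (n := l) ?_
    rw [Nat.card_zpowers]
    exact orderOf_dvd_of_pow_eq_one hz
  obtain ⟨e, he⟩ := hP.card_orbit u
  refine ⟨e, ?_⟩
  rw [← he]
  have hset : ((orb z u : Finset α) : Set α) = MulAction.orbit (zpowers z) u := by
    ext v
    rw [mem_coe, mem_orb]
    constructor
    · rintro ⟨i, rfl⟩
      exact ⟨⟨z ^ i, zpow_mem_zpowers z i⟩, rfl⟩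
    · rintro ⟨⟨g, i, rfl⟩, rfl⟩
      exact ⟨i, rfl⟩
  rw [← hset]
  simp

theorem pow_fix_iff (x : Perm α) (n : ℕ) (u : α) : (x ^ n) u = u ↔ (orb x u).card ∣ n := by
  have hset : ((orb x u : Finset α) : Set α) = MulAction.orbit (zpowers x) u := by
    ext v
    rw [mem_coe, mem_orb]
    constructor
    · rintro ⟨i, rfl⟩
      exact ⟨⟨x ^ i, zpow_mem_zpowers x i⟩, rfl⟩
    · rintro ⟨⟨g, i, rfl⟩, rfl⟩
      exact ⟨i, rfl⟩
  have h1 : Function.minimalPeriod (x • ·) u = (orb x u).card := by
    classical
    rw [MulAction.minimalPeriod_eq_card, ← Nat.card_eq_fintype_card, ← hset]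
    simp
  rw [← h1, ← Function.isPeriodicPt_iff_minimalPeriod_dvd]
  rfl

section main

variable {x : Perm α}

theorem W_mono {i j : ℕ} (h : i ≤ j) : W x i ⊆ W x j := by
  intro u hu
  rw [mem_W, pow_fix_iff] at hu ⊢
  exact hu.trans (pow_dvd_pow 2 h)

theorem orb_subset_W {j : ℕ} {u : α} (hu : u ∈ W x j) : orb x u ⊆ W x j := by
  intro v hv
  rw [mem_W, pow_fix_iff] at hu ⊢
  rw [orb_eq_of_mem hv]
  exact hu

theorem mem_W_of_mem_orb {j : ℕ} {u v : α} (hv : v ∈ orb x u) (h : v ∈ W x j) : u ∈ W x j := by
  rw [mem_W, pow_fix_iff] at h ⊢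
  rw [orb_eq_of_mem hv] at h
  exact h

theorem card_orb_new {j : ℕ} {u : α} (h1 : u ∈ W x (j + 1)) (h2 : u ∉ W x j) : (orb x u).card = 2 ^ (j + 1) := by
  rw [mem_W, pow_fix_iff] at h1 h2
  obtain ⟨e, he, he'⟩ := (Nat.dvd_prime_pow Nat.prime_two).1 h1
  rw [he'] at h2 ⊢
  have : ¬ e ≤ j := fun h => h2 (pow_dvd_pow 2 h)
  have : e = j + 1 := by omega
  rw [this]

theorem W_top {k : ℕ} (hk : x ^ 2 ^ k = 1) : W x k = Finset.univ := by
  ext u
  simp [mem_W, hk]

theorem card_orb_le {j : ℕ} {u : α} (h : u ∈ W x j) : (orb x u).card ≤ 2 ^ j := by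
  rw [mem_W, pow_fix_iff] at h
  exact Nat.le_of_dvd (by positivity) h

variable (hnd : x.cycleType.Nodup)
include hnd

theorem sameCycle_of_new {j : ℕ} {u v : α} (hu1 : u ∈ W x (j + 1)) (hu2 : u ∉ W x j)
    (hv1 : v ∈ W x (j + 1)) (hv2 : v ∉ W x j) : SameCycle x u v := by
  have hmov : ∀ w, w ∉ W x j → w ∈ x.support := by
    intro w hw
    rw [Equiv.Perm.mem_support]
    intro hfix
    apply hw
    rw [mem_W]
    have : ∀ n : ℕ, (x ^ n) w = w := by
      intro n
      induction n with
      | zero => rfl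
      | succ n ih => rw [pow_succ, Perm.mul_apply, hfix, ih]
    exact this _
  have hsupp : ∀ w, w ∈ x.support → (x.cycleOf w).support = orb x w := by
    intro w hw
    ext y
    rw [mem_orb, Equiv.Perm.mem_support_cycleOf_iff]
    exact ⟨fun h => h.1, fun h => ⟨h, hw⟩⟩
  have hu := hmov u hu2
  have hv := hmov v hv2
  have hc1 := Equiv.Perm.cycleOf_mem_cycleFactorsFinset_iff.2 hu
  have hc2 := Equiv.Perm.cycleOf_mem_cycleFactorsFinset_iff.2 hv
  rw [Equiv.Perm.cycleType_def, Multiset.nodup_map_iff_inj_on x.cycleFactorsFinset.nodup] at hnd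
  have hcardeq : (x.cycleOf u).support.card = (x.cycleOf v).support.card := by
    rw [hsupp u hu, hsupp v hv, card_orb_new hu1 hu2, card_orb_new hv1 hv2]
  have heq := hnd _ hc1 _ hc2 hcardeq
  have hvm : v ∈ (x.cycleOf u).support := by
    rw [heq, hsupp v hv]
    exact orb_self _ _
  rw [hsupp u hu] at hvm
  exact mem_orb.1 hvm

theorem sdiff_eq_orb {j : ℕ} {c : α} (h1 : c ∈ W x (j + 1)) (h2 : c ∉ W x j) : W x (j + 1) \ W x j = orb x c := by
  ext v
  rw [mem_sdiff]
  constructor
  · rintro ⟨hv1, hv2⟩
    exact mem_orb.2 (sameCycle_of_new hnd h1 h2 hv1 hv2)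
  · intro hv
    exact ⟨orb_subset_W h1 hv, fun h => h2 (mem_W_of_mem_orb hv h)⟩

theorem card_sdiff_le (j : ℕ) : (W x (j + 1) \ W x j).card ≤ 2 ^ (j + 1) := by
  by_cases hne : (W x (j + 1) \ W x j).Nonempty
  · obtain ⟨c, hc⟩ := hne
    rw [mem_sdiff] at hc
    rw [sdiff_eq_orb hnd hc.1 hc.2, card_orb_new hc.1 hc.2]
  · rw [not_nonempty_iff_eq_empty] at hne
    rw [hne]
    simp

variable (hfix : Fintype.card α ≤ x.support.card + 2)
include hfix

theorem card_W_zero : (W x 0).card ≤ 2 := by
  have : W x 0 = x.supportᶜ := by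
    ext u
    rw [mem_W, mem_compl, Equiv.Perm.mem_support]
    simp
  rw [this, card_compl]
  omega

theorem card_W_le (j : ℕ) : (W x j).card ≤ 2 ^ (j + 1) := by
  induction j with
  | zero => simpa using card_W_zero hnd hfix
  | succ j ih =>
    have h1 := card_sdiff_le hnd j
    have h2 : (W x (j + 1)).card ≤ (W x (j + 1) \ W x j).card + (W x j).card := by
      exact Finset.card_le_card_sdiff_add_card (s := W x (j + 1)) (t := W x j)
    have h3 : 2 ^ (j + 1 + 1) = 2 ^ (j + 1) + 2 ^ (j + 1) := by rw [pow_succ]; ring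
    omega

omit hfix in
theorem full_pred_aux {j : ℕ} (h : (W x (j + 1)).card = 2 ^ (j + 2)) : 2 ^ (j + 1) ≤ (W x j).card := by
  have h1 := card_sdiff_le hnd j
  have h2 : (W x (j + 1)).card ≤ (W x (j + 1) \ W x j).card + (W x j).card :=
    Finset.card_le_card_sdiff_add_card (s := W x (j + 1)) (t := W x j)
  have h3 : 2 ^ (j + 2) = 2 ^ (j + 1) + 2 ^ (j + 1) := by rw [pow_succ]; ring
  omega

theorem full_pred {j : ℕ} (h : (W x (j + 1)).card = 2 ^ (j + 2)) : (W x j).card = 2 ^ (j + 1) :=
  le_antisymm (card_W_le hnd hfix j) (full_pred_aux hnd h)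

theorem full_mono {i j : ℕ} (hij : i ≤ j) (h : (W x j).card = 2 ^ (j + 1)) : (W x i).card = 2 ^ (i + 1) := by
  induction j, hij using Nat.le_induction with
  | base => exact h
  | succ j hj ih => exact ih (full_pred hnd hfix h)

/-- Orbits of a `2`-group containing `x`. -/
theorem orbit_shape {H : Subgroup (Perm α)} (hH : IsPGroup 2 H) (hxH : x ∈ H) {k : ℕ} (hk : x ^ 2 ^ k = 1) (u : α) :
    ∃ O : Finset α, (∀ σ ∈ H, σ u ∈ O) ∧ (O = orb x u ∨ ∃ j, O = W x j ∧ (W x j).card = 2 ^ (j + 1)) := by
  classical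
  obtain ⟨e, he⟩ := hH.card_orbit u
  let O : Finset α := Finset.univ.filter (fun v => ∃ σ ∈ H, σ u = v)
  have hmemO : ∀ v, v ∈ O ↔ ∃ σ ∈ H, σ u = v := by
    intro v
    simp [O]
  have hset : (O : Set α) = MulAction.orbit H u := by
    ext v
    rw [mem_coe, hmemO]
    constructor
    · rintro ⟨σ, hσ, rfl⟩
      exact ⟨⟨σ, hσ⟩, rfl⟩
    · rintro ⟨⟨σ, hσ⟩, rfl⟩
      exact ⟨σ, hσ, rfl⟩
  have hcard : O.card = 2 ^ e := by
    rw [← he, ← hset]
    simp
  have huO : u ∈ O := (hmemO u).2 ⟨1, H.one_mem, rfl⟩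
  have horbO : ∀ v ∈ O, orb x v ⊆ O := by
    intro v hv w hw
    obtain ⟨σ, hσ, rfl⟩ := (hmemO v).1 hv
    obtain ⟨i, rfl⟩ := mem_orb.1 hw
    refine (hmemO _).2 ⟨x ^ i * σ, H.mul_mem (H.zpow_mem hxH i) hσ, rfl⟩
  refine ⟨O, fun σ hσ => (hmemO _).2 ⟨σ, hσ, rfl⟩, ?_⟩
  have hex : ∃ j, O ⊆ W x j := ⟨k, by rw [W_top hk]; exact subset_univ _⟩
  obtain ⟨j, hj, hmin⟩ : ∃ j, O ⊆ W x j ∧ ∀ i < j, ¬ O ⊆ W x i :=
    ⟨Nat.find hex, Nat.find_spec hex, fun i hi => Nat.find_min hex hi⟩
  have hle := card_le_card hj
  have hWle := card_W_le hnd hfix j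
  cases j with
  | zero =>
    have h2 : 2 ^ e ≤ 2 := by
      rw [← hcard]
      have : (W x 0).card ≤ 2 := card_W_zero hnd hfix
      omega
    have he1 : e ≤ 1 := by
      by_contra hcon
      have : 2 ^ 2 ≤ 2 ^ e := Nat.pow_le_pow_right (by norm_num) (by omega)
      omega
    interval_cases e
    · left
      have h1 : O = {u} := by
        rw [pow_zero] at hcard
        obtain ⟨a, ha⟩ := card_eq_one.1 hcard
        rw [ha] at huO ⊢
        rw [mem_singleton.1 huO]
      have hu0 : x u = u := by
        have := hj huO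
        rw [mem_W] at this
        simpa using this
      rw [h1]
      ext v
      rw [mem_singleton, mem_orb]
      constructor
      · rintro rfl
        exact SameCycle.refl _ _
      · intro hv
        obtain ⟨n, -, rfl⟩ := hv.exists_pow_eq'
        have : ∀ n : ℕ, (x ^ n) u = u := by
          intro n
          induction n with
          | zero => rfl
          | succ n ih => rw [pow_succ, Perm.mul_apply, hu0, ih]
        exact this n
    · right
      refine ⟨0, ?_, ?_⟩
      · apply eq_of_subset_of_card_le hj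
        rw [hcard]
        simpa using hWle
      · have h3 : (W x 0).card ≤ 2 := card_W_zero hnd hfix
        have h4 : O.card ≤ (W x 0).card := hle
        rw [hcard] at h4
        simp at h4 ⊢
        omega
  | succ j =>
    obtain ⟨v, hvO, hvW⟩ : ∃ v ∈ O, v ∉ W x j := by
      have := hmin j (by omega)
      rw [not_subset] at this
      exact this
    have hvW1 := hj hvO
    have hc := card_orb_new hvW1 hvW
    have hsub := horbO v hvO
    have hge := card_le_card hsub
    rw [hc, hcard] at hge
    have hle' : 2 ^ e ≤ 2 ^ (j + 1 + 1) := by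
      rw [← hcard]
      exact hle.trans hWle
    have he1 : j + 1 ≤ e := (Nat.pow_le_pow_iff_right (by norm_num)).1 hge
    have he2 : e ≤ j + 1 + 1 := (Nat.pow_le_pow_iff_right (by norm_num)).1 hle'
    have hcases : e = j + 1 ∨ e = j + 1 + 1 := by omega
    rcases hcases with rfl | rfl
    · left
      have h1 : orb x v = O := by
        apply eq_of_subset_of_card_le hsub
        rw [hcard, hc]
      have hu : u ∈ orb x v := by rw [h1]; exact huO
      rw [← h1, orb_eq_of_mem hu]
    · right
      refine ⟨j + 1, ?_, ?_⟩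
      · apply eq_of_subset_of_card_le hj
        rw [hcard]
        exact hWle
      · apply le_antisymm hWle
        rw [← hcard]
        exact hle

end main

/-- Blocks of the canonical tree of `x`. -/
def IsB (x : Perm α) (B : Finset α) : Prop :=
  (∃ i u, B = orb (x ^ 2 ^ i) u) ∨ (∃ j, B = W x j ∧ (W x j).card = 2 ^ (j + 1))

/-- A block has a parent when it sits in a block of double size. -/
def HasParent (x : Perm α) (B : Finset α) : Prop := ∃ D, IsB x D ∧ B ⊆ D ∧ D.card = 2 * B.card

theorem image_mul (a b : Perm α) (A : Finset α) : A.image (⇑(a * b)) = (A.image b).image a := by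
  rw [image_image]
  rfl

theorem image_one (A : Finset α) : A.image (⇑(1 : Perm α)) = A := by
  have : (⇑(1 : Perm α) : α → α) = id := rfl
  rw [this, image_id]

theorem IsB.nonempty {x : Perm α} {B : Finset α} (h : IsB x B) : B.Nonempty := by
  rcases h with ⟨i, u, rfl⟩ | ⟨j, rfl, hj⟩
  · exact ⟨u, orb_self _ _⟩
  · rw [← card_pos, hj]
    positivity

theorem IsB.card_pow {x : Perm α} {B : Finset α} {k : ℕ} (hk : x ^ 2 ^ k = 1) (h : IsB x B) : ∃ e, B.card = 2 ^ e := by
  rcases h with ⟨i, u, rfl⟩ | ⟨j, rfl, hj⟩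
  · refine orb_card_pgroup (l := k) ?_ u
    rw [← pow_mul, mul_comm, pow_mul, hk, one_pow]
  · exact ⟨_, hj⟩

theorem orb_pow_pow_subset (x : Perm α) {i i' : ℕ} (h : i ≤ i') (u : α) :
    orb (x ^ 2 ^ i') u ⊆ orb (x ^ 2 ^ i) u := by
  obtain ⟨l, rfl⟩ := Nat.exists_eq_add_of_le h
  rw [pow_add, pow_mul]
  exact orb_pow_subset _ _ _

theorem laminar {x : Perm α} {A B : Finset α} (hA : IsB x A) (hB : IsB x B) {u : α} (huA : u ∈ A) (huB : u ∈ B)
    (hc : A.card = B.card) : A = B := by
  have hcross : ∀ (i : ℕ) (a : α) (j : ℕ), u ∈ orb (x ^ 2 ^ i) a → u ∈ W x j → (W x j).card = 2 ^ (j + 1) →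
      (orb (x ^ 2 ^ i) a).card ≠ (W x j).card := by
    intro i a j h1 h2 h3 h4
    rw [← orb_eq_of_mem h1] at h4
    have h5 : (orb (x ^ 2 ^ i) u).card ≤ (orb x u).card := card_le_card (orb_pow_subset x _ u)
    have h6 := card_orb_le h2
    have h7 : 2 ^ (j + 1) = 2 * 2 ^ j := by rw [pow_succ]; ring
    have h8 : 0 < 2 ^ j := by positivity
    omega
  rcases hA with ⟨i, a, rfl⟩ | ⟨j, rfl, hj⟩
  · rcases hB with ⟨i', b, rfl⟩ | ⟨j', rfl, hj'⟩
    · rw [← orb_eq_of_mem huA, ← orb_eq_of_mem huB] at hc ⊢
      rcases le_total i i' with h | h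
      · exact (eq_of_subset_of_card_le (orb_pow_pow_subset x h u) hc.le).symm
      · exact eq_of_subset_of_card_le (orb_pow_pow_subset x h u) hc.ge
    · exact absurd hc (hcross _ _ _ huA huB hj')
  · rcases hB with ⟨i', b, rfl⟩ | ⟨j', rfl, hj'⟩
    · exact absurd hc.symm (hcross _ _ _ huB huA hj)
    · rw [hj, hj'] at hc
      have := Nat.pow_right_injective (le_refl 2) hc
      have h2 : j = j' := by omega
      rw [h2]

theorem orb_sq_union (y : Perm α) (u : α) : orb y u = orb (y ^ 2) u ∪ (orb (y ^ 2) u).image y := by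
  ext v
  rw [mem_union, mem_orb, mem_image]
  constructor
  · rintro ⟨i, rfl⟩
    rcases Int.even_or_odd' i with ⟨m, rfl | rfl⟩
    · left
      refine mem_orb.2 ⟨m, ?_⟩
      rw [zpow_mul]
      rfl
    · right
      refine ⟨(y ^ (2 * m)) u, mem_orb.2 ⟨m, ?_⟩, ?_⟩
      · rw [zpow_mul]
        rfl
      · rw [add_comm, zpow_add, zpow_one]
        rfl
  · rintro (h | ⟨w, hw, rfl⟩)
    · exact mem_orb.1 (orb_pow_subset y 2 u h)
    · have h1 : w ∈ orb y u := orb_pow_subset y 2 u hw
      have h2 : y w ∈ orb y w := mem_orb.2 ⟨1, by simp⟩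
      have h3 : y w ∈ orb y u := by
        rw [← orb_eq_of_mem h1]
        exact h2
      exact mem_orb.1 h3

theorem card_orb_sq_le (y : Perm α) (u : α) : (orb y u).card ≤ 2 * (orb (y ^ 2) u).card := by
  rw [orb_sq_union y u]
  refine (card_union_le _ _).trans ?_
  have := card_image_le (s := orb (y ^ 2) u) (f := y)
  have h2 : (orb (y ^ 2) u).card = (orb (y ^ 2) u).card := rfl
  rw [card_image_of_injective _ y.injective] at *
  omega

theorem card_orb_sq_of_ne {y : Perm α} {u : α} (h : orb (y ^ 2) u ≠ orb y u) :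
    (orb y u).card = 2 * (orb (y ^ 2) u).card := by
  have hc : Commute y (y ^ 2) := (Commute.refl y).pow_right 2
  have himg := image_orb hc u
  have hdisj : Disjoint (orb (y ^ 2) u) ((orb (y ^ 2) u).image y) := by
    rw [disjoint_left]
    intro w hw1 hw2
    apply h
    rw [himg] at hw2
    have h1 : orb (y ^ 2) w = orb (y ^ 2) u := orb_eq_of_mem hw1
    have h2 : orb (y ^ 2) w = orb (y ^ 2) (y u) := orb_eq_of_mem hw2
    have h3 : (orb (y ^ 2) u).image y = orb (y ^ 2) u := by
      rw [himg, ← h2, h1]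
    rw [orb_sq_union y u, h3, union_self]
  conv_lhs => rw [orb_sq_union y u]
  rw [card_union_of_disjoint hdisj, card_image_of_injective _ y.injective]
  ring

theorem pow_succ_two (x : Perm α) (i : ℕ) : x ^ 2 ^ (i + 1) = (x ^ 2 ^ i) ^ 2 := by
  rw [pow_succ 2 i, pow_mul]

theorem orb_or_parent (x : Perm α) (i : ℕ) (u : α) :
    orb (x ^ 2 ^ i) u = orb x u ∨ HasParent x (orb (x ^ 2 ^ i) u) := by
  induction i with
  | zero =>
    left
    simp
  | succ i ih =>
    by_cases h : orb (x ^ 2 ^ (i + 1)) u = orb (x ^ 2 ^ i) u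
    · rw [h]
      exact ih
    · right
      refine ⟨orb (x ^ 2 ^ i) u, Or.inl ⟨i, u, rfl⟩, orb_pow_pow_subset x (by omega) u, ?_⟩
      rw [pow_succ_two] at h ⊢
      exact card_orb_sq_of_ne h

theorem orb_of_fixed {x : Perm α} {u : α} (h : x u = u) : orb x u = {u} := by
  ext v
  rw [mem_singleton, mem_orb]
  constructor
  · intro hv
    obtain ⟨n, -, rfl⟩ := hv.exists_pow_eq'
    have : ∀ n : ℕ, (x ^ n) u = u := by
      intro n
      induction n with
      | zero => rfl
      | succ n ih => rw [pow_succ, Perm.mul_apply, h, ih]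
    exact this n
  · rintro rfl
    exact SameCycle.refl _ _

section main2

variable {x : Perm α} (hnd : x.cycleType.Nodup) (hfix : Fintype.card α ≤ x.support.card + 2)
include hnd hfix

theorem top_fixed {H : Subgroup (Perm α)} (hH : IsPGroup 2 H) (hxH : x ∈ H) {k : ℕ} (hk : x ^ 2 ^ k = 1)
    {B : Finset α} (hB : IsB x B) (hP : ¬ HasParent x B) {σ : Perm α} (hσ : σ ∈ H) : B.image σ = B := by
  apply eq_of_subset_of_card_le
  · intro w hw
    obtain ⟨v, hv, rfl⟩ := mem_image.1 hw
    rcases hB with ⟨i, u, rfl⟩ | ⟨j, rfl, hj⟩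
    · rcases orb_or_parent x i u with h | h
      · rw [h] at hv hP ⊢
        obtain ⟨s, hs⟩ := orb_card_pgroup hk u
        have hu : u ∈ W x s := by
          rw [mem_W, pow_fix_iff, hs]
        have hnotfull : ¬ (W x s).card = 2 ^ (s + 1) := by
          intro hf
          refine hP ⟨W x s, Or.inr ⟨s, rfl, hf⟩, orb_subset_W hu, ?_⟩
          rw [hf, hs, pow_succ]
          ring
        obtain ⟨O, hO, hshape⟩ := orbit_shape hnd hfix hH hxH hk v
        rcases hshape with rfl | ⟨j, rfl, hj⟩
        · rw [← orb_eq_of_mem hv]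
          exact hO σ hσ
        · exfalso
          have hv1 : v ∈ W x j := by simpa using hO 1 H.one_mem
          have hc : (orb x v).card ∣ 2 ^ j := by
            rwa [mem_W, pow_fix_iff] at hv1
          rw [orb_eq_of_mem hv, hs] at hc
          have hsj : s ≤ j := (Nat.pow_dvd_pow_iff_le_right (by norm_num)).1 hc
          exact hnotfull (full_mono hnd hfix hsj hj)
      · exact absurd h hP
    · have hnf : ¬ (W x (j + 1)).card = 2 ^ (j + 1 + 1) := by
        intro hf
        refine hP ⟨W x (j + 1), Or.inr ⟨j + 1, rfl, hf⟩, W_mono (by omega), ?_⟩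
        rw [hf, hj, pow_succ 2 (j + 1)]
        ring
      obtain ⟨O, hO, hshape⟩ := orbit_shape hnd hfix hH hxH hk v
      rcases hshape with rfl | ⟨j', rfl, hj'⟩
      · exact orb_subset_W hv (hO σ hσ)
      · have h1 := hO σ hσ
        by_cases hjj : j' ≤ j
        · exact W_mono hjj h1
        · exact absurd (full_mono hnd hfix (by omega) hj') hnf
  · rw [card_image_of_injective _ σ.injective]

theorem ident {D : Finset α} (hD : IsB x D) (hD2 : 2 ≤ D.card) :
    ∃ y ∈ zpowers x, D.image y = D ∧ ∀ A, A ⊆ D → 2 * A.card = D.card →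
      (A.image y = A ∨ A.image y = D \ A) → IsB x A := by
  rcases hD with ⟨i, u, rfl⟩ | ⟨j, rfl, hj⟩
  · obtain ⟨y, hy⟩ : ∃ y, y = x ^ 2 ^ i := ⟨_, rfl⟩
    rw [← hy] at hD2 ⊢
    refine ⟨y, ?_, ?_, ?_⟩
    · rw [hy]
      exact pow_mem (mem_zpowers x) _
    · rw [image_orb (Commute.refl y)]
      exact orb_eq_of_mem (mem_orb.2 ⟨1, by simp⟩)
    · intro A hA hAc hinv
      have hApos : 0 < A.card := by omega
      obtain ⟨a, ha⟩ := card_pos.1 hApos
      have hDa : orb y a = orb y u := orb_eq_of_mem (hA ha)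
      rcases hinv with h | h
      · exfalso
        have h1 := orb_subset_of_image_eq h ha
        rw [hDa] at h1
        have := card_le_card h1
        omega
      · have himg : (orb y u).image y = orb y u := by
          rw [image_orb (Commute.refl y)]
          exact orb_eq_of_mem (mem_orb.2 ⟨1, by simp⟩)
        have hsq : A.image (⇑(y ^ 2)) = A := by
          rw [pow_two, image_mul, h, image_sdiff _ _ y.injective, himg, h,
            Finset.sdiff_sdiff_eq_self hA]
        have h1 := orb_subset_of_image_eq hsq ha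
        have h2 := card_orb_sq_le y a
        rw [hDa] at h2
        have h3 : A = orb (y ^ 2) a := by
          symm
          apply eq_of_subset_of_card_le h1
          omega
        left
        refine ⟨i + 1, a, ?_⟩
        rw [pow_succ_two, ← hy]
        exact h3
  · refine ⟨x, mem_zpowers x, ?_, ?_⟩
    · apply eq_of_subset_of_card_le
      · intro w hw
        obtain ⟨v, hv, rfl⟩ := mem_image.1 hw
        exact orb_subset_W hv (mem_orb.2 ⟨1, by simp⟩)
      · rw [card_image_of_injective _ x.injective]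
    · intro A hA hAc hinv
      have himg : (W x j).image x = W x j := by
        apply eq_of_subset_of_card_le
        · intro w hw
          obtain ⟨v, hv, rfl⟩ := mem_image.1 hw
          exact orb_subset_W hv (mem_orb.2 ⟨1, by simp⟩)
        · rw [card_image_of_injective _ x.injective]
      have hfull0 : (W x 0).card = 2 ^ (0 + 1) := full_mono hnd hfix (Nat.zero_le j) hj
      obtain ⟨a, ha⟩ : (W x 0).Nonempty := by
        rw [← card_pos, hfull0]
        positivity
      have hxa : x a = a := by
        rw [mem_W] at ha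
        simpa using ha
      have haj : a ∈ W x j := W_mono (Nat.zero_le j) ha
      have hAinv : A.image x = A := by
        rcases hinv with h | h
        · exact h
        · exfalso
          by_cases haA : a ∈ A
          · have h1 : a ∈ A.image x := by
              rw [← hxa]
              exact mem_image_of_mem x haA
            rw [h] at h1
            exact (mem_sdiff.1 h1).2 haA
          · have h1 : a ∈ A.image x := by
              rw [h]
              exact mem_sdiff.2 ⟨haj, haA⟩
            obtain ⟨b, hb, hba⟩ := mem_image.1 h1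
            have : b = a := x.injective (by rw [hba, hxa])
            exact haA (this ▸ hb)
      have hCinv : (W x j \ A).image x = W x j \ A := by
        rw [image_sdiff _ _ x.injective, himg, hAinv]
      cases j with
      | zero =>
        have h1 : A.card = 1 := by
          rw [hj] at hAc
          simp at hAc
          omega
        obtain ⟨a', rfl⟩ := card_eq_one.1 h1
        have h2 : a' ∈ W x 0 := hA (mem_singleton_self _)
        rw [mem_W] at h2
        have h3 : x a' = a' := by simpa using h2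
        left
        refine ⟨0, a', ?_⟩
        rw [pow_zero, pow_one, orb_of_fixed h3]
      | succ j' =>
        have hfull' : (W x j').card = 2 ^ (j' + 1) := full_pred hnd hfix hj
        have hAc' : A.card = 2 ^ (j' + 1) := by
          rw [hj, pow_succ] at hAc
          omega
        obtain ⟨c, hc1, hc2⟩ : ∃ c ∈ W x (j' + 1), c ∉ W x j' := by
          apply exists_mem_notMem_of_card_lt_card
          rw [hfull', hj, pow_succ 2 (j' + 1)]
          have : 0 < 2 ^ (j' + 1) := by positivity
          omega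
        have hCc := card_orb_new hc1 hc2
        by_cases hcA : c ∈ A
        · have h1 := orb_subset_of_image_eq hAinv hcA
          have h2 : orb x c = A := by
            apply eq_of_subset_of_card_le h1
            rw [hAc', hCc]
          left
          refine ⟨0, c, ?_⟩
          rw [pow_zero, pow_one, h2]
        · have h1 := orb_subset_of_image_eq hCinv (mem_sdiff.2 ⟨hc1, hcA⟩)
          have h2 : orb x c = W x (j' + 1) \ A := by
            apply eq_of_subset_of_card_le h1
            rw [card_sdiff_of_subset hA, hAc', hCc, hj, pow_succ 2 (j' + 1)]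
            omega
          right
          refine ⟨j', ?_, hfull'⟩
          rw [← Finset.sdiff_sdiff_eq_self hA, ← h2, ← sdiff_eq_orb hnd hc1 hc2,
            Finset.sdiff_sdiff_eq_self (W_mono (by omega))]

theorem pres {H : Subgroup (Perm α)} (hH : IsPGroup 2 H) (hxH : x ∈ H) {k : ℕ} (hk : x ^ 2 ^ k = 1) :
    ∀ σ ∈ H, ∀ B, IsB x B → IsB x (B.image σ) := by
  have hzH : zpowers x ≤ H := zpowers_le.2 hxH
  have key : ∀ (m : ℕ) (B : Finset α), IsB x B → Fintype.card α - B.card = m → ∀ σ ∈ H, IsB x (B.image σ) := by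
    intro m
    induction m using Nat.strong_induction_on with
    | _ m ih =>
      intro B hB hm σ hσ
      by_cases hP : HasParent x B
      · obtain ⟨D, hD, hBD, hDc⟩ := hP
        have hBpos : 0 < B.card := card_pos.2 hB.nonempty
        have hDle : D.card ≤ Fintype.card α := card_le_univ _
        have hih := ih (Fintype.card α - D.card) (by omega) D hD rfl
        obtain ⟨e, he⟩ := hD.card_pow hk
        obtain ⟨s, rfl⟩ : ∃ s, e = s + 1 := by
          cases e with
          | zero =>
            rw [pow_zero] at he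
            omega
          | succ s => exact ⟨s, rfl⟩
        have hBc : B.card = 2 ^ s := by
          rw [he, pow_succ] at hDc
          omega
        obtain ⟨u, hu⟩ := hB.nonempty
        obtain ⟨A, hAD, hAc, huA, hAinv⟩ := SylowUniqueHalf.exists_half hH D s he (hBD hu)
        have hD2 : 2 ≤ D.card := by omega
        obtain ⟨y, hy, hyD, hid⟩ := ident hnd hfix hD hD2
        have hA : IsB x A := hid A hAD (by omega) (hAinv y (hzH hy) hyD)
        have hAB : A = B := laminar hA hB huA hu (by omega)
        subst hAB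
        have hD' := hih σ hσ
        have hD'c : (D.image σ).card = D.card := card_image_of_injective _ σ.injective
        obtain ⟨y', hy', hy'D, hid'⟩ := ident hnd hfix hD' (by omega)
        refine hid' (A.image σ) (image_subset_image hBD) ?_ ?_
        · rw [card_image_of_injective _ σ.injective, hD'c]
          omega
        · have hτ : σ⁻¹ * y' * σ ∈ H := H.mul_mem (H.mul_mem (H.inv_mem hσ) (hzH hy')) hσ
          have hσinv : ∀ Z : Finset α, (Z.image σ).image (⇑σ⁻¹) = Z := by
            intro Z
            rw [← image_mul, inv_mul_cancel, image_one]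
          have hτD : D.image (⇑(σ⁻¹ * y' * σ)) = D := by
            rw [image_mul, image_mul, hy'D, hσinv]
          have hσA : (A.image σ).image y' = (A.image (⇑(σ⁻¹ * y' * σ))).image σ := by
            rw [← image_mul, ← image_mul]
            congr 2
            group
          rcases hAinv _ hτ hτD with h | h
          · left
            rw [hσA, h]
          · right
            rw [hσA, h, image_sdiff _ _ σ.injective]
      · rw [top_fixed hnd hfix hH hxH hk hB hP hσ]
        exact hB
  intro σ hσ B hB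
  exact key _ B hB rfl σ hσ

end main2

/-- Permutations preserving the block tree and fixing the top blocks. -/
def Pr (x : Perm α) (σ : Perm α) : Prop :=
  (∀ B, IsB x B → IsB x (B.image σ)) ∧ (∀ B, IsB x B → ¬ HasParent x B → B.image σ = B)

theorem Pr.one (x : Perm α) : Pr x 1 :=
  ⟨fun B hB => by rw [image_one]; exact hB, fun B _ _ => image_one B⟩

theorem Pr.mul {x a b : Perm α} (ha : Pr x a) (hb : Pr x b) : Pr x (a * b) := by
  refine ⟨fun B hB => ?_, fun B hB hP => ?_⟩
  · rw [image_mul]
    exact ha.1 _ (hb.1 _ hB)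
  · rw [image_mul, hb.2 B hB hP, ha.2 B hB hP]

theorem Pr.pow {x a : Perm α} (ha : Pr x a) (n : ℕ) : Pr x (a ^ n) := by
  induction n with
  | zero => exact Pr.one x
  | succ n ih =>
    rw [pow_succ]
    exact ih.mul ha

/-- The subgroup of permutations preserving the block tree. -/
def L (x : Perm α) : Subgroup (Perm α) where
  carrier := {σ | Pr x σ}
  one_mem' := Pr.one x
  mul_mem' := fun ha hb => ha.mul hb
  inv_mem' := by
    intro a ha
    have : a⁻¹ = a ^ (orderOf a - 1) := by
      rw [inv_eq_iff_mul_eq_one, ← pow_succ']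
      rw [Nat.sub_add_cancel (orderOf_pos a), pow_orderOf_eq_one]
    show Pr x a⁻¹
    rw [this]
    exact Pr.pow ha _

theorem fix_of_odd {x σ : Perm α} (hσ : Pr x σ) (hodd : Odd (orderOf σ)) : ∀ B, IsB x B → B.image σ = B := by
  have key : ∀ (m : ℕ) (B : Finset α), IsB x B → Fintype.card α - B.card = m → B.image σ = B := by
    intro m
    induction m using Nat.strong_induction_on with
    | _ m ih =>
      intro B hB hm
      by_cases hP : HasParent x B
      · obtain ⟨D, hD, hBD, hDc⟩ := hP
        have hBpos : 0 < B.card := card_pos.2 hB.nonempty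
        have hDle : D.card ≤ Fintype.card α := card_le_univ _
        have hih := ih (Fintype.card α - D.card) (by omega) D hD rfl
        have hBc : (B.image σ).card = B.card := card_image_of_injective _ σ.injective
        have hsub : B.image σ ⊆ D := by
          rw [← hih]
          exact image_subset_image hBD
        by_cases hne : (B.image σ ∩ B).Nonempty
        · obtain ⟨u, hu⟩ := hne
          rw [mem_inter] at hu
          exact laminar (hσ.1 B hB) hB hu.1 hu.2 hBc
        · have hdis : Disjoint (B.image σ) B := by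
            rwa [not_nonempty_iff_eq_empty, ← disjoint_iff_inter_eq_empty] at hne
          have h1 : B.image σ = D \ B := by
            apply eq_of_subset_of_card_le
            · exact subset_sdiff.2 ⟨hsub, hdis⟩
            · rw [card_sdiff_of_subset hBD, hBc]
              omega
          have h2 : B.image (⇑(σ ^ 2)) = B := by
            rw [pow_two, image_mul, h1, image_sdiff _ _ σ.injective, hih, h1,
              Finset.sdiff_sdiff_eq_self hBD]
          have h3 : ∀ n : ℕ, B.image (⇑((σ ^ 2) ^ n)) = B := by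
            intro n
            induction n with
            | zero =>
              rw [pow_zero, image_one]
            | succ n ih' =>
              rw [pow_succ, image_mul, h2, ih']
          obtain ⟨r, hr⟩ := hodd
          have h4 : (σ ^ 2) ^ (r + 1) = σ := by
            rw [← pow_mul]
            have : 2 * (r + 1) = orderOf σ + 1 := by omega
            rw [this, pow_succ, pow_orderOf_eq_one, one_mul]
          have h5 := h3 (r + 1)
          rwa [h4] at h5
      · exact hσ.2 B hB hP
  intro B hB
  exact key _ B hB rfl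

theorem L_pgroup {x : Perm α} {k : ℕ} (hk : x ^ 2 ^ k = 1) : IsPGroup 2 (L x) := by
  rintro ⟨σ, hσ⟩
  have hσ' : Pr x σ := hσ
  obtain ⟨e, r, hr, he⟩ := Nat.exists_eq_two_pow_mul_odd (orderOf_pos σ).ne'
  refine ⟨e, ?_⟩
  apply Subtype.ext
  show σ ^ 2 ^ e = 1
  have hτ : Pr x (σ ^ 2 ^ e) := hσ'.pow _
  have hord : orderOf (σ ^ 2 ^ e) = r := by
    rw [orderOf_pow_of_dvd (by positivity) ⟨r, he⟩, he]
    exact Nat.mul_div_cancel_left _ (by positivity)
  have hfx := fix_of_odd hτ (by rw [hord]; exact hr)
  ext u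
  have hB : IsB x {u} := by
    left
    refine ⟨k, u, ?_⟩
    rw [hk, orb_of_fixed (by simp)]
  have := hfx {u} hB
  rw [image_singleton, singleton_inj] at this
  simpa using this

theorem backward (x : Perm α) (hx : ∃ k : ℕ, orderOf x = 2 ^ k) (hnd : x.cycleType.Nodup)
    (hfix : Fintype.card α ≤ x.support.card + 2) : ∃! P : Sylow 2 (Perm α), x ∈ P := by
  obtain ⟨k, hk⟩ := hx
  have hxk : x ^ 2 ^ k = 1 := by rw [← hk]; exact pow_orderOf_eq_one x
  have hP : IsPGroup 2 (zpowers x) := by
    refine IsPGroup.of_card_dvd_pow (n := k) ?_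
    rw [Nat.card_zpowers, hk]
  obtain ⟨P, hPle⟩ := hP.exists_le_sylow
  have key : ∀ Q : Sylow 2 (Perm α), x ∈ Q → (Q : Subgroup (Perm α)) = L x := by
    intro Q hQ
    have hle : (Q : Subgroup (Perm α)) ≤ L x := by
      intro σ hσ
      exact ⟨pres hnd hfix Q.isPGroup' hQ hxk σ hσ,
        fun B hB hPa => top_fixed hnd hfix Q.isPGroup' hQ hxk hB hPa hσ⟩
    exact (Q.is_maximal' (L_pgroup hxk) hle).symm
  refine ⟨P, hPle (mem_zpowers x), fun Q hQ => ?_⟩
  apply Sylow.ext
  rw [key Q hQ, key P (hPle (mem_zpowers x))]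

end Cfsg.Agent.Lib.ClassSizes.SylowUniqueBwd
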