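import Mathlib

/-! A `2`-element of a symmetric group in a unique Sylow `2`-subgroup has at most two fixed points and
distinct cycle lengths. -/

set_option autoImplicit false

namespace Cfsg.Agent.Lib.ClassSizes.SylowUniqueFwd

open Equiv Equiv.Perm Subgroup

variable {α : Type*} [DecidableEq α] [Fintype α]

theorem zpowers_pgroup {G : Type*} [Group G] {y : G} {k : ℕ} (hy : y ^ 2 ^ k = 1) : IsPGroup 2 (zpowers y) := by
  have h : orderOf y ∣ 2 ^ k := orderOf_dvd_of_pow_eq_one hy
  refine IsPGroup.of_card_dvd_pow (n := k) ?_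
  rw [Nat.card_zpowers]
  exact h

theorem le_of_pgroup {G : Type*} [Group G] {x : G} {P : Sylow 2 G} (hP : ∀ Q : Sylow 2 G, x ∈ Q → Q = P)
    {T : Subgroup G} (hT : IsPGroup 2 T) (hxT : x ∈ T) : T ≤ P := by
  obtain ⟨Q, hQ⟩ := hT.exists_le_sylow
  rw [← hP Q (hQ hxT)]
  exact hQ

theorem comm_mem {G : Type*} [Group G] {x y : G} {P : Sylow 2 G} (hP : ∀ Q : Sylow 2 G, x ∈ Q → Q = P)
    {k l : ℕ} (hx : x ^ 2 ^ k = 1) (hy : y ^ 2 ^ l = 1) (hc : Commute x y) : y ∈ P := by
  have hT : IsPGroup 2 ((zpowers x ⊔ zpowers y : Subgroup G)) := by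
    apply IsPGroup.to_sup_of_normal_right' (zpowers_pgroup hx) (zpowers_pgroup hy)
    rw [zpowers_le, mem_normalizer_iff]
    intro h
    rw [mem_zpowers_iff, mem_zpowers_iff]
    constructor
    · rintro ⟨i, rfl⟩
      refine ⟨i, ?_⟩
      have := (hc.zpow_right i).eq
      rw [this]
      group
    · rintro ⟨i, hi⟩
      refine ⟨i, ?_⟩
      have h1 : x * y ^ i = y ^ i * x := (hc.zpow_right i).eq
      have h2 : x * h = x * y ^ i := by rw [h1, hi]; group
      exact (mul_left_cancel h2).symm
  exact le_of_pgroup hP hT (mem_sup_left (mem_zpowers x)) (mem_sup_right (mem_zpowers y))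

/-- The group of perms that move each point at most along an involution. -/
def eSub (m : α → α) (hm : ∀ z, m (m z) = z) : Subgroup (Perm α) where
  carrier := {σ | ∀ z, σ z = z ∨ σ z = m z}
  one_mem' := fun z => Or.inl rfl
  mul_mem' := by
    intro a b ha hb z
    rw [Perm.mul_apply]
    rcases hb z with h | h
    · rw [h]
      exact ha z
    · rw [h]
      rcases ha (m z) with h' | h'
      · exact Or.inr h'
      · rw [h', hm]
        exact Or.inl rfl
  inv_mem' := by
    intro a ha z
    rcases ha (a⁻¹ z) with h | h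
    · left
      rw [show a (a⁻¹ z) = z by simp] at h
      exact h.symm
    · right
      rw [show a (a⁻¹ z) = z by simp] at h
      calc a⁻¹ z = m (m (a⁻¹ z)) := (hm _).symm
        _ = m z := by rw [← h]

theorem eSub_pgroup (m : α → α) (hm : ∀ z, m (m z) = z) : IsPGroup 2 (eSub m hm) := by
  intro σ
  refine ⟨1, ?_⟩
  apply Subtype.ext
  ext z
  have hσ : ∀ z, (σ : Perm α) z = z ∨ (σ : Perm α) z = m z := σ.2
  show ((σ : Perm α) ^ 2 ^ 1) z = z
  rw [pow_one, pow_two, Perm.mul_apply]
  rcases hσ z with h | h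
  · rw [h, h]
  · rcases hσ (m z) with h' | h'
    · have : (σ : Perm α) z = (σ : Perm α) (m z) := by rw [h, h']
      have h2 := (σ : Perm α).injective this
      rw [← h2] at h
      rw [h, h]
    · rw [h, h', hm]

theorem mem_normalizer_eSub (m : α → α) (hm : ∀ z, m (m z) = z) {x : Perm α} (hx : ∀ z, m (x z) = x (m z)) :
    x ∈ normalizer (eSub m hm : Set (Perm α)) := by
  rw [mem_normalizer_iff]
  have hx' : ∀ z, m (x⁻¹ z) = x⁻¹ (m z) := by
    intro z
    apply x.injective
    rw [← hx]
    simp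
  have key : ∀ (y : Perm α), (∀ z, m (y z) = y (m z)) → ∀ h : Perm α, h ∈ eSub m hm → y * h * y⁻¹ ∈ eSub m hm := by
    intro y hy h hh z
    have hy' : ∀ z, m (y⁻¹ z) = y⁻¹ (m z) := by
      intro z
      apply y.injective
      rw [← hy]
      simp
    simp only [Perm.mul_apply]
    rcases hh (y⁻¹ z) with h1 | h1
    · left
      rw [h1]
      simp
    · right
      rw [h1, hy']
      simp
  intro h
  constructor
  · exact key x hx h
  · intro hh
    have := key x⁻¹ hx' _ hh
    simpa [mul_assoc] using this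

theorem forward (x : Perm α) (hx : ∃ k : ℕ, orderOf x = 2 ^ k)
    (h : ∃! P : Sylow 2 (Perm α), x ∈ P) :
    Fintype.card α ≤ x.support.card + 2 ∧ x.cycleType.Nodup := by
  obtain ⟨P, hxP, hP⟩ := h
  have hP' : ∀ Q : Sylow 2 (Perm α), x ∈ Q → Q = P := fun Q hQ => hP Q hQ
  obtain ⟨k, hk⟩ := hx
  have hxk : x ^ 2 ^ k = 1 := by rw [← hk]; exact pow_orderOf_eq_one x
  have hPord : ∀ y ∈ (P : Subgroup (Perm α)), ∃ j, y ^ 2 ^ j = 1 := by
    intro y hy
    obtain ⟨j, hj⟩ := P.isPGroup' ⟨y, hy⟩
    exact ⟨j, congrArg Subtype.val hj⟩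
  constructor
  · by_contra hcon
    push Not at hcon
    have hc : 2 < (x.supportᶜ).card := by
      rw [Finset.card_compl]
      omega
    obtain ⟨a, b, c, ha, hb, hcc, hab, hac, hbc⟩ := Finset.two_lt_card_iff.1 hc
    simp only [Finset.mem_compl, Equiv.Perm.mem_support, not_not] at ha hb hcc
    have hcomm : ∀ {u v : α}, x u = u → x v = v → u ≠ v → swap u v ∈ (P : Subgroup (Perm α)) := by
      intro u v hu hv huv
      refine comm_mem hP' (k := k) (l := 1) hxk (by rw [pow_one, pow_two, swap_mul_self]) ?_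
      show x * swap u v = swap u v * x
      rw [Equiv.mul_swap_eq_swap_mul, hu, hv]
    have h3 : swap a b * swap a c ∈ (P : Subgroup (Perm α)) :=
      mul_mem (hcomm ha hb hab) (hcomm ha hcc hac)
    have hthree := isThreeCycle_swap_mul_swap_same hab hac hbc
    obtain ⟨j, hj⟩ := hPord _ h3
    have h4 := orderOf_dvd_of_pow_eq_one hj
    rw [hthree.orderOf] at h4
    have h5 := (Nat.prime_three.dvd_of_dvd_pow h4)
    omega
  · rw [Equiv.Perm.cycleType_def]
    rw [Multiset.nodup_map_iff_inj_on x.cycleFactorsFinset.nodup]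
    intro c₁ hc₁ c₂ hc₂ hcc
    by_contra hne
    have hc₁' : c₁ ∈ x.cycleFactorsFinset := hc₁
    have hc₂' : c₂ ∈ x.cycleFactorsFinset := hc₂
    have hcc' : c₁.support.card = c₂.support.card := hcc
    obtain ⟨hcyc₁, hact₁⟩ := mem_cycleFactorsFinset_iff.1 hc₁'
    obtain ⟨hcyc₂, hact₂⟩ := mem_cycleFactorsFinset_iff.1 hc₂'
    obtain ⟨g, hg⟩ := isConj_iff.1 (hcyc₁.isConj hcyc₂ hcc')
    have hdis : Disjoint c₁ c₂ := cycleFactorsFinset_pairwise_disjoint x hc₁' hc₂' hne
    have hgc : ∀ z, c₂ (g z) = g (c₁ z) := by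
      intro z
      rw [← hg]
      simp
    have hgc' : ∀ z, c₁ (g⁻¹ z) = g⁻¹ (c₂ z) := by
      intro z
      apply g.injective
      rw [← hgc]
      simp
    have hS₁₂ : ∀ z, z ∈ c₁.support → g z ∈ c₂.support := by
      intro z hz
      rw [Equiv.Perm.mem_support] at hz ⊢
      rw [hgc]
      exact fun h => hz (g.injective h)
    have hS₂₁ : ∀ z, z ∈ c₂.support → g⁻¹ z ∈ c₁.support := by
      intro z hz
      rw [Equiv.Perm.mem_support] at hz ⊢
      rw [hgc']
      exact fun h => hz (g⁻¹.injective h)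
    have hdisj : ∀ z, z ∈ c₁.support → z ∉ c₂.support := by
      intro z hz hz'
      rw [Equiv.Perm.mem_support] at hz hz'
      rcases hdis z with h | h
      · exact hz h
      · exact hz' h
    have hstab : ∀ (c : Perm α), c ∈ x.cycleFactorsFinset → ∀ z, z ∈ c.support ↔ x z ∈ c.support := by
      intro c hc z
      have hcomm : Commute c x := self_mem_cycle_factors_commute hc
      constructor
      · intro hz
        rw [Equiv.Perm.mem_support] at hz ⊢
        intro h
        have : c (x z) = x (c z) := congrArg (fun f : Perm α => f z) hcomm.eq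
        rw [this] at h
        exact hz (x.injective h)
      · intro hz
        rw [Equiv.Perm.mem_support] at hz ⊢
        intro h
        have : c (x z) = x (c z) := congrArg (fun f : Perm α => f z) hcomm.eq
        rw [this, h] at hz
        exact hz rfl
    let m : α → α := fun z => if z ∈ c₁.support then g z else if z ∈ c₂.support then g⁻¹ z else z
    have hm1 : ∀ z, z ∈ c₁.support → m z = g z := fun z hz => if_pos hz
    have hm2 : ∀ z, z ∈ c₂.support → m z = g⁻¹ z := by
      intro z hz
      have hz1 : z ∉ c₁.support := fun h => hdisj z h hz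
      show (if z ∈ c₁.support then g z else if z ∈ c₂.support then g⁻¹ z else z) = g⁻¹ z
      rw [if_neg hz1, if_pos hz]
    have hm3 : ∀ z, z ∉ c₁.support → z ∉ c₂.support → m z = z := by
      intro z hz1 hz2
      show (if z ∈ c₁.support then g z else if z ∈ c₂.support then g⁻¹ z else z) = z
      rw [if_neg hz1, if_neg hz2]
    have hm : ∀ z, m (m z) = z := by
      intro z
      by_cases hz1 : z ∈ c₁.support
      · rw [hm1 z hz1, hm2 _ (hS₁₂ z hz1)]
        simp
      · by_cases hz2 : z ∈ c₂.support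
        · rw [hm2 z hz2, hm1 _ (hS₂₁ z hz2)]
          simp
        · rw [hm3 z hz1 hz2, hm3 z hz1 hz2]
    have hmx : ∀ z, m (x z) = x (m z) := by
      intro z
      by_cases hz1 : z ∈ c₁.support
      · have h1 := (hstab c₁ hc₁' z).1 hz1
        rw [hm1 z hz1, hm1 _ h1, ← hact₁ z hz1, ← hgc, hact₂ _ (hS₁₂ z hz1)]
      · by_cases hz2 : z ∈ c₂.support
        · have h1 := (hstab c₂ hc₂' z).1 hz2
          rw [hm2 z hz2, hm2 _ h1, ← hact₂ z hz2, ← hgc', hact₁ _ (hS₂₁ z hz2)]
        · rw [hm3 z hz1 hz2, hm3 _ (fun h => hz1 ((hstab c₁ hc₁' z).2 h)) (fun h => hz2 ((hstab c₂ hc₂' z).2 h))]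
    obtain ⟨a₀, ha₀⟩ : ∃ a₀, a₀ ∈ c₁.support := by
      obtain ⟨a, ha, -⟩ := hcyc₁
      exact ⟨a, Equiv.Perm.mem_support.2 ha⟩
    obtain ⟨b₀, hb₀⟩ : ∃ b₀, b₀ = g a₀ := ⟨_, rfl⟩
    have hb₀S : b₀ ∈ c₂.support := hb₀ ▸ hS₁₂ a₀ ha₀
    have hb₀1 : b₀ ∉ c₁.support := fun h => hdisj b₀ h hb₀S
    have hab : a₀ ≠ b₀ := fun h => hb₀1 (h ▸ ha₀)
    have hma : m a₀ = b₀ := by rw [hm1 a₀ ha₀, hb₀]
    have hmb : m b₀ = a₀ := by rw [← hma, hm]
    have ht : swap a₀ b₀ ∈ eSub m hm := by
      intro z
      by_cases hz : z = a₀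
      · subst hz
        right
        rw [swap_apply_left, hma]
      · by_cases hz' : z = b₀
        · subst hz'
          right
          rw [swap_apply_right, hmb]
        · left
          exact swap_apply_of_ne_of_ne hz hz'
    have hT : IsPGroup 2 (zpowers x ⊔ eSub m hm : Subgroup (Perm α)) := by
      apply IsPGroup.to_sup_of_normal_right' (zpowers_pgroup hxk) (eSub_pgroup m hm)
      rw [zpowers_le]
      exact mem_normalizer_eSub m hm hmx
    have htP : swap a₀ b₀ ∈ (P : Subgroup (Perm α)) :=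
      le_of_pgroup hP' hT (mem_sup_left (mem_zpowers x)) (mem_sup_right ht)
    have hordc : orderOf c₁ ∣ 2 ^ k := by
      rw [← hk, cycle_is_cycleOf ha₀ hc₁']
      exact orderOf_cycleOf_dvd_orderOf x a₀
    have hc₁P : c₁ ∈ (P : Subgroup (Perm α)) :=
      comm_mem hP' (l := k) hxk (orderOf_dvd_iff_pow_eq_one.1 hordc) (self_mem_cycle_factors_commute hc₁').symm
    have hwP : swap a₀ b₀ * c₁ ∈ (P : Subgroup (Perm α)) := mul_mem htP hc₁P
    obtain ⟨j, hj⟩ := hPord _ hwP
    obtain ⟨w, hw⟩ : ∃ w, w = swap a₀ b₀ * c₁ := ⟨_, rfl⟩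
    rw [← hw] at hj
    have hwapp : ∀ z, w z = swap a₀ b₀ (c₁ z) := by
      intro z
      rw [hw, Perm.mul_apply]
    let S : Finset α := insert b₀ c₁.support
    have hwS : ∀ z, z ∈ S → w z ∈ S := by
      intro z hz
      rw [hwapp]
      simp only [S, Finset.mem_insert] at hz ⊢
      rcases hz with hz | hz
      · have : c₁ b₀ = b₀ := by
          by_contra h
          exact hb₀1 (Equiv.Perm.mem_support.2 h)
        rw [hz, this, swap_apply_right]
        exact Or.inr ha₀
      · have h1 : c₁ z ∈ c₁.support := Equiv.Perm.apply_mem_support.2 hz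
        by_cases h2 : c₁ z = a₀
        · rw [h2, swap_apply_left]
          exact Or.inl rfl
        · have h3 : c₁ z ≠ b₀ := fun h => hb₀1 (h ▸ h1)
          rw [swap_apply_of_ne_of_ne h2 h3]
          exact Or.inr h1
    have hnofix : ∀ z, z ∈ S → w z ≠ z := by
      intro z hz hfix
      rw [hwapp] at hfix
      simp only [S, Finset.mem_insert] at hz
      rcases hz with hz | hz
      · have : c₁ b₀ = b₀ := by
          by_contra h
          exact hb₀1 (Equiv.Perm.mem_support.2 h)
        rw [hz, this, swap_apply_right] at hfix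
        exact hab hfix
      · have h1 : c₁ z ∈ c₁.support := Equiv.Perm.apply_mem_support.2 hz
        by_cases h2 : c₁ z = a₀
        · rw [h2, swap_apply_left] at hfix
          exact hb₀1 (hfix ▸ hz)
        · have h3 : c₁ z ≠ b₀ := fun h => hb₀1 (h ▸ h1)
          rw [swap_apply_of_ne_of_ne h2 h3] at hfix
          exact (Equiv.Perm.mem_support.1 hz) hfix
    let f : Function.End S := fun z => ⟨w z.1, hwS z.1 z.2⟩
    have hfpow : ∀ (n : ℕ) (z : S), (((f ^ n) z : S) : α) = (w ^ n) z.1 := by
      intro n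
      induction n with
      | zero => intro z; rfl
      | succ n ih =>
        intro z
        rw [pow_succ, pow_succ]
        show (((f ^ n) (f z) : S) : α) = _
        rw [ih]
        rfl
    have hf1 : f ^ 2 ^ j = 1 := by
      funext z
      apply Subtype.ext
      rw [hfpow, hj]
      rfl
    have hmod := Equiv.Perm.card_fixedPoints_modEq (α := S) (f := f) (p := 2) (n := j) hf1
    have hfixe : Fintype.card (Function.fixedPoints f) = 0 := by
      rw [Fintype.card_eq_zero_iff]
      constructor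
      rintro ⟨z, hz⟩
      have : f z = z := hz
      exact hnofix z.1 z.2 (congrArg Subtype.val this)
    rw [hfixe, Fintype.card_coe, Finset.card_insert_of_notMem hb₀1] at hmod
    have hodd2 : 2 ∣ c₁.support.card := by
      have h1 : c₁.support.card ∣ 2 ^ k := by
        rw [← hcyc₁.orderOf]
        exact hordc
      obtain ⟨e, -, he⟩ := (Nat.dvd_prime_pow Nat.prime_two).1 h1
      have h2 := hcyc₁.two_le_card_support
      rw [he] at h2 ⊢
      cases e with
      | zero => simp at h2
      | succ e => exact dvd_pow_self 2 (by omega)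
    have h3 : (c₁.support.card + 1) % 2 = 0 := hmod
    omega

end Cfsg.Agent.Lib.ClassSizes.SylowUniqueFwd
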