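import Mathlib
import Cfsg.Agent.Lib.Core.Basic
import Cfsg.Agent.Lib.Amalgam.PMinimal3
import Cfsg.Agent.Lib.Geo.PrimSolvable

/-! A transvection over `F₂` which is a square cannot lie in a solvable group with `O₂ = 1`. -/

set_option autoImplicit false

namespace Cfsg.Agent.Lib.ClassSizes.TransvSq

open Subgroup

section vec

variable {V : Type*} [AddCommGroup V] [Module (ZMod 2) V]

theorem add_self' (v : V) : v + v = 0 := by
  have h : (2 : ZMod 2) • v = 0 := by
    rw [show (2 : ZMod 2) = 0 from rfl, zero_smul]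
  rwa [two_smul] at h

/-- `p` is a transvection with centre `a` (and `p a = a`). -/
structure IsTv (p : V ≃ₗ[ZMod 2] V) (a : V) : Prop where
  ne : a ≠ 0
  mem : ∀ v, p v = v ∨ p v = v + a
  moved : ∃ v, p v = v + a
  fix : p a = a

theorem IsTv.unique {p : V ≃ₗ[ZMod 2] V} {a b : V} (ha : IsTv p a) (hb : IsTv p b) : a = b := by
  obtain ⟨v, hv⟩ := ha.moved
  rcases hb.mem v with h | h
  · exfalso
    rw [h] at hv
    exact ha.ne (left_eq_add.mp hv)
  · rw [hv] at h
    exact add_left_cancel h

theorem pow4_aux (A B : Module.End (ZMod 2) V) (hA : A * A = 0) (hB : B * B = 0) (hAB : A * B = 0) :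
    ((1 + A) * (1 + B)) ^ 4 = 1 := by
  have h2 : ∀ X : Module.End (ZMod 2) V, X + X = 0 := by
    intro X
    ext v
    exact add_self' _
  have hw : (1 + A) * (1 + B) = 1 + (A + B) := by
    rw [mul_add, add_mul, add_mul, hAB]
    simp only [one_mul, mul_one, add_zero]
    abel
  have hw2 : (1 + (A + B)) * (1 + (A + B)) = 1 + B * A := by
    have : (1 + (A + B)) * (1 + (A + B)) = 1 + (A + A) + (B + B) + A * A + A * B + B * A + B * B := by
      noncomm_ring
    rw [this, h2, h2, hA, hB, hAB]
    abel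
  have h4 : (1 + B * A) * (1 + B * A) = 1 := by
    have : (1 + B * A) * (1 + B * A) = 1 + (B * A + B * A) + B * (A * B) * A := by
      noncomm_ring
    rw [this, h2, hAB]
    simp
  rw [hw, show (4 : ℕ) = 2 + 2 from rfl, pow_add, sq, hw2, h4]

end vec

section main

variable {V : Type*} [AddCommGroup V] [Module (ZMod 2) V]
variable {G : Type*} [Group G] (ρ : G →* (V ≃ₗ[ZMod 2] V))

theorem rep_mul (g h : G) (v : V) : ρ (g * h) v = ρ g (ρ h v) := by
  rw [map_mul]; rfl

theorem rep_one (v : V) : ρ 1 v = v := by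
  rw [map_one]; rfl

theorem rep_inv_left (g : G) (v : V) : ρ g⁻¹ (ρ g v) = v := by
  rw [← rep_mul, inv_mul_cancel, rep_one]

theorem rep_inv_right (g : G) (v : V) : ρ g (ρ g⁻¹ v) = v := by
  rw [← rep_mul, mul_inv_cancel, rep_one]

theorem conj_tv {p : G} {a : V} (h : IsTv (ρ p) a) (g : G) : IsTv (ρ (g * p * g⁻¹)) (ρ g a) := by
  have hc : ∀ v, ρ (g * p * g⁻¹) v = ρ g (ρ p (ρ g⁻¹ v)) := by
    intro v
    rw [rep_mul, rep_mul]
  refine ⟨?_, ?_, ?_, ?_⟩
  · intro h0
    apply h.ne
    have := congrArg (ρ g⁻¹) h0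
    rwa [rep_inv_left, map_zero] at this
  · intro v
    rw [hc]
    rcases h.mem (ρ g⁻¹ v) with h1 | h1
    · left
      rw [h1, rep_inv_right]
    · right
      rw [h1, map_add, rep_inv_right]
  · obtain ⟨w, hw⟩ := h.moved
    refine ⟨ρ g w, ?_⟩
    rw [hc, rep_inv_left, hw, map_add]
  · rw [hc, rep_inv_left, h.fix]

/-- two distinct transvections of odd product: `p b = b + a` -/
theorem move_of_odd (hinj : Function.Injective ρ) {p q : G} {a b : V} (hp : IsTv (ρ p) a)
    (hq : IsTv (ρ q) b) (hp2 : p * p = 1) (hq2 : q * q = 1) (hne : p ≠ q)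
    (hodd : Odd (orderOf (p * q))) : ρ p b = b + a := by
  rcases hp.mem b with h | h
  · exfalso
    apply hne
    -- `(p q) ^ 4 = 1`
    let P : Module.End (ZMod 2) V := (ρ p : V →ₗ[ZMod 2] V)
    let Q : Module.End (ZMod 2) V := (ρ q : V →ₗ[ZMod 2] V)
    let A : Module.End (ZMod 2) V := P + 1
    let B : Module.End (ZMod 2) V := Q + 1
    have hinv : ∀ (r : G), r * r = 1 → ∀ v, ρ r (ρ r v) = v := by
      intro r hr v
      rw [← rep_mul, hr, rep_one]
    have hAv : ∀ v, A v = ρ p v + v := fun v => rfl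
    have hBv : ∀ v, B v = ρ q v + v := fun v => rfl
    have hzero : ∀ x y : V, x + y + (y + x) = 0 := by
      intro x y
      have : x + y + (y + x) = (x + x) + (y + y) := by abel
      rw [this, add_self', add_self', add_zero]
    have hA : A * A = 0 := by
      ext v
      show A (A v) = 0
      rw [hAv, hAv, map_add, hinv p hp2, hzero]
    have hB : B * B = 0 := by
      ext v
      show B (B v) = 0
      rw [hBv, hBv, map_add, hinv q hq2, hzero]
    have hAB : A * B = 0 := by
      ext v
      show A (B v) = 0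
      rw [hBv, hAv]
      rcases hq.mem v with h1 | h1
      · rw [h1, add_self', map_zero, add_zero]
      · rw [h1]
        have : v + b + v = b := by
          have : v + b + v = b + (v + v) := by abel
          rw [this, add_self', add_zero]
        rw [this, h, add_self']
    have h4 := pow4_aux A B hA hB hAB
    have h1A : (1 : Module.End (ZMod 2) V) + A = P := by
      ext v
      show v + (ρ p v + v) = ρ p v
      have : v + (ρ p v + v) = ρ p v + (v + v) := by abel
      rw [this, add_self', add_zero]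
    have h1B : (1 : Module.End (ZMod 2) V) + B = Q := by
      ext v
      show v + (ρ q v + v) = ρ q v
      have : v + (ρ q v + v) = ρ q v + (v + v) := by abel
      rw [this, add_self', add_zero]
    rw [h1A, h1B] at h4
    have hpow : ∀ (k : ℕ) (v : V), ρ ((p * q) ^ k) v = ((P * Q) ^ k) v := by
      intro k
      induction k with
      | zero => intro v; rw [pow_zero, rep_one, pow_zero]; rfl
      | succ k ih =>
        intro v
        rw [pow_succ, rep_mul, pow_succ, Module.End.mul_apply, ih]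
        rw [rep_mul]
        rfl
    have h5 : (p * q) ^ 4 = 1 := by
      apply hinj
      rw [map_one]
      refine LinearEquiv.ext fun v => ?_
      rw [hpow, h4]
      rfl
    have h6 : orderOf (p * q) ∣ 2 ^ 2 := orderOf_dvd_of_pow_eq_one h5
    obtain ⟨k, -, hk⟩ := (Nat.dvd_prime_pow Nat.prime_two).mp h6
    have h7 : orderOf (p * q) = 1 := by
      rw [hk] at hodd ⊢
      cases k with
      | zero => rfl
      | succ k =>
        exfalso
        rw [pow_succ] at hodd
        exact (Nat.not_even_iff_odd.mpr hodd) (even_two.mul_left _)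
    have h8 : p * q = 1 := orderOf_eq_one_iff.mp h7
    calc p = p * (q * q) := by rw [hq2, mul_one]
      _ = (p * q) * q := by group
      _ = q := by rw [h8, one_mul]
  · exact h

/-- the main theorem: `t = P ^ 2` commutes with the conjugates under an odd normal subgroup. -/
theorem centralizes_odd (hinj : Function.Injective ρ) (N : Subgroup G) [hN : N.Normal] [Finite N]
    (hNodd : Odd (Nat.card N)) (P : G) (hP4 : P ^ 4 = 1) (a : V) (ha : IsTv (ρ (P ^ 2)) a)
    (y : G) (hy : y ∈ N) : y * P ^ 2 * y⁻¹ = P ^ 2 := by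
  set t := P ^ 2 with ht
  have ht2 : t * t = 1 := by
    rw [ht, ← pow_add]; exact hP4
  have hPt : P * t * P⁻¹ = t := by
    rw [ht]; group
  -- the set `D`
  let InD : G → Prop := fun p => ∃ n ∈ N, p = n * t * n⁻¹
  have hD1 : ∀ p, InD p → p * p = 1 := by
    rintro p ⟨n, -, rfl⟩
    have : n * t * n⁻¹ * (n * t * n⁻¹) = n * (t * t) * n⁻¹ := by group
    rw [this, ht2]
    group
  have hD2 : ∀ p, InD p → ∃ b, IsTv (ρ p) b := by
    rintro p ⟨n, -, rfl⟩
    exact ⟨_, conj_tv ρ ha n⟩
  have hD3 : ∀ p q, InD p → InD q → Odd (orderOf (p * q)) := by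
    rintro p q hp hq
    have hq' : q = q⁻¹ := eq_inv_of_mul_eq_one_left (hD1 q hq)
    obtain ⟨n, hn, rfl⟩ := hp
    obtain ⟨n', hn', rfl⟩ := hq
    have hmem : (n * t * n⁻¹) * (n' * t * n'⁻¹) ∈ N := by
      rw [hq']
      have : (n * t * n⁻¹) * (n' * t * n'⁻¹)⁻¹ = n * (t * (n⁻¹ * n') * t⁻¹) * n'⁻¹ := by group
      rw [this]
      exact N.mul_mem (N.mul_mem hn (hN.conj_mem _ (N.mul_mem (N.inv_mem hn) hn') t)) (N.inv_mem hn')
    have h1 : orderOf ((n * t * n⁻¹) * (n' * t * n'⁻¹)) ∣ Nat.card N := by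
      have := orderOf_dvd_natCard (⟨_, hmem⟩ : N)
      rwa [Subgroup.orderOf_mk] at this
    exact Odd.of_dvd_nat hNodd h1
  have hD4 : ∀ p q, InD p → InD q → InD (p * q * p⁻¹) := by
    rintro p q hp hq
    obtain ⟨n, hn, rfl⟩ := hp
    obtain ⟨n', hn', rfl⟩ := hq
    have hm : n * (t * n⁻¹ * t⁻¹) * (t * n' * t⁻¹) ∈ N :=
      N.mul_mem (N.mul_mem hn (hN.conj_mem _ (N.inv_mem hn) t)) (hN.conj_mem _ hn' t)
    refine ⟨_, hm, ?_⟩
    group
  have hD5 : ∀ q, InD q → InD (P * q * P⁻¹) := by
    rintro q ⟨n, hn, rfl⟩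
    refine ⟨P * n * P⁻¹, hN.conj_mem _ hn P, ?_⟩
    have : P * (n * t * n⁻¹) * P⁻¹ = (P * n * P⁻¹) * (P * t * P⁻¹) * (P * n * P⁻¹)⁻¹ := by group
    rw [this, hPt]
  have htD : InD t := ⟨1, N.one_mem, by group⟩
  by_contra hne
  have hpD : InD (y * t * y⁻¹) := ⟨y, hy, rfl⟩
  set p := y * t * y⁻¹ with hp
  have hb : IsTv (ρ p) (ρ y a) := conj_tv ρ ha y
  set b := ρ y a with hbdef
  have h1 : ρ t b = b + a :=
    move_of_odd ρ hinj ha hb ht2 (hD1 p hpD) (Ne.symm hne) (hD3 t p htD hpD)
  have hqD := hD5 p hpD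
  have hc : IsTv (ρ (P * p * P⁻¹)) (ρ P b) := conj_tv ρ hb P
  set q := P * p * P⁻¹ with hq
  set c := ρ P b with hcdef
  have hapos : a ≠ 0 := ha.ne
  have hqp : q ≠ p := by
    intro h
    have hcomm : P * p = p * P := by
      calc P * p = (P * p * P⁻¹) * P := by group
        _ = p * P := by rw [← hq, h]
    have hcomm2 : t * p * t⁻¹ = p := by
      have h2 : t * p = p * t := by
        rw [ht, sq]
        calc P * P * p = P * (P * p) := by group
          _ = P * (p * P) := by rw [hcomm]
          _ = (P * p) * P := by group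
          _ = (p * P) * P := by rw [hcomm]
          _ = p * (P * P) := by group
      calc t * p * t⁻¹ = (t * p) * t⁻¹ := rfl
        _ = p * t * t⁻¹ := by rw [h2]
        _ = p := by group
    have h3 := conj_tv ρ hb t
    rw [hcomm2] at h3
    have h4 := h3.unique hb
    rw [h1] at h4
    exact hapos (add_eq_left.mp h4)
  have hqt : q ≠ t := by
    intro h
    apply hne
    have : p = P⁻¹ * q * P := by rw [hq]; group
    rw [this, h, ← mul_left_inj P⁻¹]
    have h5 : P⁻¹ * t * P * P⁻¹ = P⁻¹ * t := by group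
    rw [h5]
    have h6 : t * P⁻¹ = P⁻¹ * t := by
      rw [ht]; group
    exact h6.symm
  have h2 : ρ t c = c + a :=
    move_of_odd ρ hinj ha hc ht2 (hD1 q hqD) (Ne.symm hqt) (hD3 t q htD hqD)
  have h3 : ρ p c = c + b :=
    move_of_odd ρ hinj hb hc (hD1 p hpD) (hD1 q hqD) (Ne.symm hqp) (hD3 p q hpD hqD)
  have hrD := hD4 p q hpD hqD
  have hr : IsTv (ρ (p * q * p⁻¹)) (c + b) := by
    have := conj_tv ρ hc p
    rwa [h3] at this
  have hrt : p * q * p⁻¹ = t := by
    by_contra hrne
    have h4 := move_of_odd ρ hinj ha hr ht2 (hD1 _ hrD) (Ne.symm hrne) (hD3 t _ htD hrD)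
    rw [map_add, h1, h2] at h4
    have h5 : c + a + (b + a) = c + b := by
      have : c + a + (b + a) = c + b + (a + a) := by abel
      rw [this, add_self', add_zero]
    rw [h5] at h4
    exact hapos (left_eq_add.mp h4)
  rw [hrt] at hr
  have hcb : c + b = a := hr.unique ha
  have hPa : ρ P a = a := by
    have := conj_tv ρ ha P
    rw [hPt] at this
    exact this.unique ha
  have h6 : ρ P c + c = a := by
    have := congrArg (ρ P) hcb
    rwa [map_add, hPa] at this
  have h7 : ρ t b = b := by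
    rw [ht, sq, rep_mul, ← hcdef]
    have hca : c = a + b := by
      have : c = (c + b) + b := by
        have : c + b + b = c + (b + b) := by abel
        rw [this, add_self', add_zero]
      rw [this, hcb]
    have hPc : ρ P c = a + c := by
      have : ρ P c = (ρ P c + c) + c := by
        have : ρ P c + c + c = ρ P c + (c + c) := by abel
        rw [this, add_self', add_zero]
      rw [this, h6]
    rw [hPc]
    nth_rewrite 1 [hca]
    have : a + (a + b) = (a + a) + b := by abel
    rw [this, add_self', zero_add]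
  rw [h1] at h7
  exact hapos (add_eq_left.mp h7)

/-- the group-theoretic contradiction -/
theorem no_square_tv [Finite G] [Group.IsSolvable G] (hO : Cfsg.pCore 2 G = ⊥)
    (hinj : Function.Injective ρ) (P : G) (hP4 : P ^ 4 = 1) (a : V)
    (ha : IsTv (ρ (P ^ 2)) a) : False := by
  haveI : (Cfsg.fittingSubgroup G).Normal := Cfsg.Agent.Lib.Core.fittingSubgroup_normal G
  have hodd : Odd (Nat.card (Cfsg.fittingSubgroup G)) := by
    rw [← Nat.not_even_iff_odd, even_iff_two_dvd]
    haveI : Fact (Nat.Prime 2) := ⟨Nat.prime_two⟩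
    exact Cfsg.Agent.Lib.Amalgam.fitting_not_dvd hO
  have hc : P ^ 2 ∈ centralizer (Cfsg.fittingSubgroup G : Set G) := by
    rw [mem_centralizer_iff]
    intro y hy
    have := centralizes_odd ρ hinj (Cfsg.fittingSubgroup G) hodd P hP4 a ha y hy
    calc y * P ^ 2 = (y * P ^ 2 * y⁻¹) * y := by group
      _ = P ^ 2 * y := by rw [this]
  have hm := Cfsg.Agent.Lib.Geo.centralizer_fitting_le_of_solvable hc
  have h1 : orderOf (P ^ 2) ∣ Nat.card (Cfsg.fittingSubgroup G) := by
    have := orderOf_dvd_natCard (⟨_, hm⟩ : Cfsg.fittingSubgroup G)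
    rwa [Subgroup.orderOf_mk] at this
  have h2 : orderOf (P ^ 2) ∣ 2 := by
    apply orderOf_dvd_of_pow_eq_one
    rw [← pow_mul]
    exact hP4
  have h3 : Nat.Coprime (orderOf (P ^ 2)) 2 := by
    apply Nat.Coprime.symm
    rw [Nat.coprime_two_left]
    exact Odd.of_dvd_nat hodd h1
  have h4 : orderOf (P ^ 2) = 1 := Nat.Coprime.eq_one_of_dvd h3 h2
  rw [orderOf_eq_one_iff] at h4
  rw [h4, map_one] at ha
  obtain ⟨v, hv⟩ := ha.moved
  exact ha.ne (left_eq_add.mp hv)

end main

section final

variable {V : Type*} [AddCommGroup V] [Module (ZMod 2) V] [Finite V]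

theorem final (S : Subgroup (V ≃ₗ[ZMod 2] V)) (hS : Group.IsSolvable ↥S) (hO2 : Cfsg.pCore 2 ↥S = ⊥)
    (P : V ≃ₗ[ZMod 2] V) (hPS : P ∈ S) (hP4 : orderOf P = 4) :
    4 ≤ Nat.card ↥(LinearMap.range (((P : V →ₗ[ZMod 2] V) - LinearMap.id) ^ 2)) := by
  classical
  haveI : Finite (V ≃ₗ[ZMod 2] V) := Finite.of_injective (fun f => (f : V → V))
    (fun a b h => LinearEquiv.ext (congrFun h))
  by_contra hlt
  push Not at hlt
  set R := LinearMap.range (((P : V →ₗ[ZMod 2] V) - LinearMap.id) ^ 2) with hR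
  have hval : ∀ v, (((P : V →ₗ[ZMod 2] V) - LinearMap.id) ^ 2 : V →ₗ[ZMod 2] V) v = (P * P) v + v := by
    intro v
    have hneg : ∀ x : V, -x = x := fun x => neg_eq_of_add_eq_zero_left (add_self' x)
    rw [sq, Module.End.mul_apply, LinearMap.sub_apply, LinearMap.sub_apply,
      LinearEquiv.mul_apply]
    simp only [LinearEquiv.coe_coe, LinearMap.id_apply, map_sub, sub_eq_add_neg, hneg]
    rw [map_add]
    have : P (P v) + P v + (P v + v) = P (P v) + v + (P v + P v) := by abel
    rw [this, add_self', add_zero]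
  have hmem : ∀ v, (P * P) v + v ∈ R := fun v => ⟨v, hval v⟩
  have hPP : P * P ≠ 1 := by
    intro h
    have h2 : orderOf P ∣ 2 := orderOf_dvd_of_pow_eq_one (by rw [sq, h])
    rw [hP4] at h2
    omega
  obtain ⟨v₀, hv₀⟩ : ∃ v, (P * P) v ≠ v := by
    by_contra hc
    push Not at hc
    exact hPP (LinearEquiv.ext hc)
  set a := (P * P) v₀ + v₀ with ha
  have ha0 : a ≠ 0 := by
    intro h
    apply hv₀
    have h1 : (P * P) v₀ = ((P * P) v₀ + v₀) + v₀ := by
      have : (P * P) v₀ + v₀ + v₀ = (P * P) v₀ + (v₀ + v₀) := by abel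
      rw [this, add_self', add_zero]
    rw [h1, ← ha, h, zero_add]
  have haR : a ∈ R := hmem v₀
  have huniq : ∀ b ∈ R, b = 0 ∨ b = a := by
    intro b hb
    by_contra hc
    push Not at hc
    obtain ⟨hb0, hba⟩ := hc
    let f : Fin 4 → R := ![0, ⟨a, haR⟩, ⟨b, hb⟩, ⟨a + b, R.add_mem haR hb⟩]
    have hf : Function.Injective f := by
      have h0 : a + b ≠ 0 := by
        intro h
        apply hba
        have : b = (a + b) + a := by
          have : a + b + a = b + (a + a) := by abel
          rw [this, add_self', add_zero]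
        rw [this, h, zero_add]
      have h1 : a + b ≠ a := fun h => hb0 (add_eq_left.mp h)
      have h2 : a + b ≠ b := fun h => ha0 (add_eq_right.mp h)
      intro x y hxy
      have hxy' := congrArg Subtype.val hxy
      fin_cases x <;> fin_cases y <;> simp_all [f, Ne.symm]
    have := Nat.card_le_card_of_injective f hf
    rw [Nat.card_fin] at this
    omega
  have hone : P ^ 4 = 1 := by
    rw [← hP4, pow_orderOf_eq_one]
  have hinv : ∀ v, (P * P) ((P * P) v) = v := by
    intro v
    have : (P * P) * (P * P) = 1 := by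
      rw [← hone, show (4 : ℕ) = 2 + 2 from rfl, pow_add, sq]
    have h2 := congrArg (fun f : V ≃ₗ[ZMod 2] V => f v) this
    exact h2
  haveI := hS
  let P' : ↥S := ⟨P, hPS⟩
  have hP'4 : P' ^ 4 = 1 := by
    apply Subtype.ext
    exact hone
  have hsq : (S.subtype (P' ^ 2) : V ≃ₗ[ZMod 2] V) = P * P := by
    show ((P' ^ 2 : ↥S) : V ≃ₗ[ZMod 2] V) = P * P
    rw [sq]
    rfl
  refine no_square_tv S.subtype hO2 S.subtype_injective P' hP'4 a ?_
  rw [hsq]
  refine ⟨ha0, ?_, ⟨v₀, ?_⟩, ?_⟩
  · intro v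
    rcases huniq _ (hmem v) with h | h
    · left
      have h1 : (P * P) v = ((P * P) v + v) + v := by
        have : (P * P) v + v + v = (P * P) v + (v + v) := by abel
        rw [this, add_self', add_zero]
      rw [h1, h, zero_add]
    · right
      have h1 : (P * P) v = ((P * P) v + v) + v := by
        have : (P * P) v + v + v = (P * P) v + (v + v) := by abel
        rw [this, add_self', add_zero]
      rw [h1, h]
      abel
  · rw [ha]
    have : v₀ + ((P * P) v₀ + v₀) = (P * P) v₀ + (v₀ + v₀) := by abel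
    rw [this, add_self', add_zero]
  · rw [ha, map_add, hinv]
    exact add_comm _ _

end final

end Cfsg.Agent.Lib.ClassSizes.TransvSq
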